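import Groth.Agent.H12Pic.Seesaw
import Groth.Agent.H22Alg.GlobalFunctions
import Groth.Agent.H25Rig.Rigidity

/-!
# Fibres with only constant functions
-/

set_option autoImplicit false
set_option linter.style.haveILetI false
set_option linter.unusedSectionVars false

universe u

open CategoryTheory CategoryTheory.Limits AlgebraicGeometry Opposite TopologicalSpace

namespace Groth.Agent.H12Pic

variable {X S : Scheme.{u}} (f : X ⟶ S) [IsProper f]

theorem isIso_appTop_fiber_of_geomConnected_geomReduced [GeometricallyConnected f] [GeometricallyReduced f]
    (s : S) : IsIso (f.fiberToSpecResidueField s).appTop := by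
  have hsq := IsPullback.of_hasPullback f (S.fromSpecResidueField s)
  haveI : GeometricallyReduced (f.fiberToSpecResidueField s) := MorphismProperty.of_isPullback hsq ‹GeometricallyReduced f›
  haveI : GeometricallyConnected (f.fiberToSpecResidueField s) := MorphismProperty.of_isPullback hsq ‹GeometricallyConnected f›
  haveI : IsReduced (f.fiber s) :=
    GeometricallyReduced.geometrically_isReduced (f := f) _ _ _ (IsPullback.of_hasPullback _ _)
  haveI : ConnectedSpace (f.fiber s) :=
    GeometricallyConnected.geometrically_connectedSpace (f := f) _ _ _ (IsPullback.of_hasPullback _ _)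
  haveI : IsProper (f.fiberToSpecResidueField s) := MorphismProperty.of_isPullback (IsPullback.of_hasPullback f (S.fromSpecResidueField s)) ‹IsProper f›
  refine isIso_appTop_of_finrank f s ?_
  exact H22Alg.GlobalFunctions.finrank_algΓ_eq_one (k := S.residueField s) (f.fiberToSpecResidueField s)

theorem isIso_appTop_fiber_of_geomIntegral [GeometricallyIntegral f] (s : S) :
    IsIso (f.fiberToSpecResidueField s).appTop := by
  haveI : GeometricallyIntegral (f.fiberToSpecResidueField s) :=
    MorphismProperty.of_isPullback (IsPullback.of_hasPullback f (S.fromSpecResidueField s)) ‹GeometricallyIntegral f›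
  haveI : IsProper (f.fiberToSpecResidueField s) := MorphismProperty.of_isPullback (IsPullback.of_hasPullback f (S.fromSpecResidueField s)) ‹IsProper f›
  exact (ConcreteCategory.isIso_iff_bijective _).2
    (H25Rig.bijective_appTop (k := S.residueField s) (f.fiberToSpecResidueField s))

end Groth.Agent.H12Pic
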