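import Groth.Agent.H12Pic.SeesawScheme
import Groth.Agent.H12Pic.FibreConst
import Groth.Agent.H17.PullCl
import Groth.Prelude.Def_AbDual

/-!
# The relative Picard scheme of a family with geometrically integral fibres is separated
-/

set_option autoImplicit false
set_option linter.style.haveILetI false
set_option linter.unusedSectionVars false

noncomputable section

universe u

open CategoryTheory CategoryTheory.Limits AlgebraicGeometry TopologicalSpace

namespace Groth.Agent.H12Pic.Sep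

open Groth.Agent.H17.PullCl

theorem iso_of_cl_eq {A : Scheme.{u}} {L L' : A.Modules} (h : PicF.cl L = PicF.cl L') : Nonempty (L ≅ L') :=
  (Equivalence.eqvGen_iff (⟨fun M => ⟨Iso.refl M⟩, fun ⟨e⟩ => ⟨e.symm⟩, fun ⟨e⟩ ⟨e'⟩ => ⟨e ≪≫ e'⟩⟩ :
    Equivalence fun M M' : A.Modules => Nonempty (M ≅ M'))).1 (Quot.eq.1 h)

/-- The difference of two line bundles is trivial after pullback iff they agree after pullback. -/
theorem tensor_trivial_iff {X Y : Scheme.{u}} (q : Y ⟶ X) {L₁ L₂ M : X.Modules} (h₁ : PicF.IsInvertible L₁)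
    (h₂ : PicF.IsInvertible L₂) (hM : PicF.IsInvertible M)
    (e : CohB1.tensorMod M L₂ ≅ Coh.structureModule X) :
    Nonempty ((Scheme.Modules.pullback q).obj (CohB1.tensorMod L₁ M) ≅ Coh.structureModule Y) ↔
      Nonempty ((Scheme.Modules.pullback q).obj L₁ ≅ (Scheme.Modules.pullback q).obj L₂) := by
  obtain ⟨τ₁⟩ := H11Ample.exists_iso_pullback_tensor q h₁ hM
  obtain ⟨τ₂⟩ := H11Ample.exists_iso_pullback_tensor q h₂ hM
  let e₂ : (Scheme.Modules.pullback q).obj (CohB1.tensorMod L₂ M) ≅ Coh.structureModule Y :=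
    (Scheme.Modules.pullback q).mapIso (H10Coh.Tw.commIso L₂ M ≪≫ e) ≪≫ PicLoc.pullbackStructureIso q
  constructor
  · rintro ⟨φ⟩
    exact H25Theta.cancel_right (H11Ample.isInvertible_pullback q hM) ⟨τ₁.symm ≪≫ φ ≪≫ e₂.symm ≪≫ τ₂⟩
  · rintro ⟨φ⟩
    exact ⟨τ₁ ≪≫ H11QMap.tensorIso φ (Iso.refl _) ≪≫ τ₂.symm ≪≫ e₂⟩

variable {X S : Scheme.{u}} (f : X ⟶ S)

/-- The base change of `X_A` along `u` is `X_U`. -/
theorem toXT_XTmap (A : Over S) {U : Scheme.{u}} (u : U ⟶ A.left) :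
    toXT f A.hom (Over.mk u) ≫ PicF.XTmap f (AbDual.ovrHom A u) =
      pullback.fst (pullback.snd f A.hom) u := by
  apply pullback.hom_ext
  · rw [Category.assoc, XTmap_fst]
    exact pullbackLeftPullbackSndIso_hom_fst f A.hom u
  · rw [Category.assoc, XTmap_snd]
    refine ((Category.assoc _ _ _).symm.trans (congrArg (· ≫ u)
      (pullbackLeftPullbackSndIso_hom_snd f A.hom u))).trans ?_
    exact pullback.condition.symm

instance isIso_toXT {S' : Scheme.{u}} (g : S' ⟶ S) (T : Over S') : IsIso (toXT f g T) := by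
  delta toXT; infer_instance

theorem XTmap_comp {T T' T'' : Over S} (g : T'' ⟶ T') (h : T' ⟶ T) :
    PicF.XTmap f (g ≫ h) = PicF.XTmap f g ≫ PicF.XTmap f h := by
  apply pullback.hom_ext
  · rw [Category.assoc, XTmap_fst, XTmap_fst, XTmap_fst]
  · rw [Category.assoc, XTmap_snd, XTmap_snd, XTmap_snd_assoc, Over.comp_left]

theorem pullCl_injective {Y Z : Scheme.{u}} (e : Y ⟶ Z) [IsIso e] : Function.Injective (PicF.pullCl e) := by
  intro c c' h
  have := congrArg (PicF.pullCl (inv e)) h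
  rwa [← pullCl_comp, ← pullCl_comp, IsIso.inv_hom_id, pullCl_id, pullCl_id] at this

/-- Two classes agree on `X_U` iff the modules agree on the base change of `X_A` along `U → A`. -/
theorem pullCl_eq_iff (A : Over S) {U : Scheme.{u}} (u : U ⟶ A.left) (L₁ L₂ : (PicF.XT f A).Modules) :
    PicF.pullCl (PicF.XTmap f (AbDual.ovrHom A u)) (PicF.cl L₁) =
        PicF.pullCl (PicF.XTmap f (AbDual.ovrHom A u)) (PicF.cl L₂) ↔
      Nonempty ((Scheme.Modules.pullback (pullback.fst (pullback.snd f A.hom) u)).obj L₁ ≅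
        (Scheme.Modules.pullback (pullback.fst (pullback.snd f A.hom) u)).obj L₂) := by
  rw [← (pullCl_injective (toXT f A.hom (Over.mk u))).eq_iff]
  erw [← pullCl_comp, ← pullCl_comp, toXT_XTmap]
  exact ⟨fun h => iso_of_cl_eq h, fun ⟨φ⟩ => Quot.sound ⟨φ⟩⟩

variable {P : Over S}

/-- The set where two points of a scheme agree. -/
def eqSet {A : Over S} (a₁ a₂ : A ⟶ P) : Set A.left :=
  {x | ∃ (V : Scheme.{u}) (v : V ⟶ A.left), x ∈ Set.range v ∧ v ≫ a₁.left = v ≫ a₂.left}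

variable [IsProper f] [Flat f] [LocallyOfFinitePresentation f] [GeometricallyIntegral f]
  {φ : ∀ T : Over S, PicF.Cl (PicF.XT f T) → (T ⟶ P)} (hP : AbDual.IsRelPicK Scheme.fppfPrecoverage f P φ)

include hP in
/-- Where two classes give the same point is closed. -/
theorem isClosed_eqSet (A : Over S) {c₁ c₂ : PicF.Cl (PicF.XT f A)} (h₁ : PicF.IsInvertibleCl c₁)
    (h₂ : PicF.IsInvertibleCl c₂) : IsClosed (eqSet (φ A c₁) (φ A c₂)) := by
  obtain ⟨L₁, rfl, hL₁⟩ := h₁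
  obtain ⟨L₂, rfl, hL₂⟩ := h₂
  obtain ⟨M, hM, ⟨e⟩⟩ := H11Sym.exists_inverse hL₂
  let f' := pullback.snd f A.hom
  haveI : IsProper f' := MorphismProperty.pullback_snd _ _ ‹IsProper f›
  haveI : Flat f' := MorphismProperty.pullback_snd _ _ ‹Flat f›
  haveI : LocallyOfFinitePresentation f' := MorphismProperty.pullback_snd _ _ ‹LocallyOfFinitePresentation f›
  haveI hG : GeometricallyIntegral f' := MorphismProperty.pullback_snd _ _ ‹GeometricallyIntegral f›
  have hint : ∀ s, IsIntegral (f'.fiber s) := fun s => by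
    haveI : GeometricallyIntegral (f'.fiberToSpecResidueField s) :=
      MorphismProperty.of_isPullback (IsPullback.of_hasPullback f' (A.left.fromSpecResidueField s)) hG
    exact GeometricallyIntegral.isIntegral_of_subsingleton (f'.fiberToSpecResidueField s)
  obtain ⟨Z, ι, hι, hZ⟩ := exists_seesaw_subscheme f' hint (isIso_appTop_fiber_of_geomIntegral f')
    (H11Ample.isInvertible_tensor hL₁ hM)
  suffices h : eqSet (φ A (PicF.cl L₁)) (φ A (PicF.cl L₂)) = Set.range ι by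
    rw [h]; exact ι.isClosedEmbedding.isClosed_range
  refine Set.Subset.antisymm ?_ ?_
  · rintro x ⟨V, v, ⟨y, rfl⟩, hv⟩
    have hinv : ∀ {L : (PicF.XT f A).Modules}, PicF.IsInvertible L →
        PicF.IsInvertibleCl (PicF.pullCl (PicF.XTmap f (AbDual.ovrHom A v)) (PicF.cl L)) :=
      fun {L} hL => isInvertibleCl_pullCl _ ⟨L, rfl, hL⟩
    have heq : φ (AbDual.ovr A v) (PicF.pullCl (PicF.XTmap f (AbDual.ovrHom A v)) (PicF.cl L₁)) =
        φ (AbDual.ovr A v) (PicF.pullCl (PicF.XTmap f (AbDual.ovrHom A v)) (PicF.cl L₂)) := by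
      rw [hP.natural _ _ _ _ ⟨L₁, rfl, hL₁⟩, hP.natural _ _ _ _ ⟨L₂, rfl, hL₂⟩]
      exact Over.OverMorphism.ext hv
    obtain ⟨R, hR, hR'⟩ := hP.locallyInjective _ _ _ (hinv hL₁) (hinv hL₂) heq
    obtain ⟨U, w, hw, z, rfl⟩ : ∃ (U : Scheme.{u}) (w : U ⟶ V), R w ∧ ∃ z, w z = y := by
      obtain ⟨U, w, hw, z, hz⟩ := (Presieve.mem_comap_jointlySurjectivePrecoverage_iff _).1 hR.1 y
      exact ⟨U, w, hw, z, hz⟩
    have hcl : PicF.pullCl (PicF.XTmap f (AbDual.ovrHom A (w ≫ v))) (PicF.cl L₁) =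
        PicF.pullCl (PicF.XTmap f (AbDual.ovrHom A (w ≫ v))) (PicF.cl L₂) := by
      let j : AbDual.ovr A (w ≫ v) ⟶ AbDual.ovr (AbDual.ovr A v) w := Over.homMk (𝟙 U) (by simp)
      have hj : AbDual.ovrHom A (w ≫ v) = j ≫ AbDual.ovrHom (AbDual.ovr A v) w ≫ AbDual.ovrHom A v :=
        Over.OverMorphism.ext (Category.id_comp (w ≫ v)).symm
      simp only [hj, XTmap_comp, pullCl_comp, hR' w hw]
    obtain ⟨τ⟩ := (tensor_trivial_iff _ hL₁ hL₂ hM e).2 ((pullCl_eq_iff f A (w ≫ v) L₁ L₂).1 hcl)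
    obtain ⟨u', hu'⟩ := (hZ U (w ≫ v)).2 ⟨Coh.structureModule U, H11Ample.isInvertible_structureModule,
      ⟨τ ≪≫ (PicLoc.pullbackStructureIso (pullback.snd f' (w ≫ v))).symm⟩⟩
    exact ⟨u' z, by rw [← Scheme.Hom.comp_apply, hu']; rfl⟩
  · rintro x ⟨y, rfl⟩
    refine ⟨Z, ι, ⟨y, rfl⟩, ?_⟩
    obtain ⟨N, hN, ⟨ψ⟩⟩ := (hZ Z ι).1 ⟨𝟙 Z, Category.id_comp ι⟩
    choose W hW hW' using hN
    refine (Scheme.openCoverOfIsOpenCover Z W
      (IsOpenCover.mk (top_unique fun z _ => Opens.mem_iSup.2 ⟨z, hW z⟩))).hom_ext _ _ fun z => ?_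
    obtain ⟨ν⟩ := hW' z
    let u := (W z).ι ≫ ι
    let m : pullback f' u ⟶ pullback f' ι :=
      pullback.lift (pullback.fst f' u) (pullback.snd f' u ≫ (W z).ι) (by
        rw [Category.assoc]; exact pullback.condition)
    have htriv : Nonempty ((Scheme.Modules.pullback (pullback.fst f' u)).obj (CohB1.tensorMod L₁ M) ≅
        Coh.structureModule (pullback f' u)) :=
      ⟨(Scheme.Modules.pullbackCongr (pullback.lift_fst _ _ _).symm).app _ ≪≫
        ((Scheme.Modules.pullbackComp m (pullback.fst f' ι)).app _).symm ≪≫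
        (Scheme.Modules.pullback m).mapIso ψ ≪≫
        (Scheme.Modules.pullbackComp m (pullback.snd f' ι)).app N ≪≫
        (Scheme.Modules.pullbackCongr (pullback.lift_snd _ _ _)).app N ≪≫
        ((Scheme.Modules.pullbackComp (pullback.snd f' u) (W z).ι).app N).symm ≪≫
        (Scheme.Modules.pullback (pullback.snd f' u)).mapIso
          (((Scheme.Modules.restrictFunctorIsoPullback (W z).ι).app N).symm ≪≫ ν) ≪≫
        PicLoc.pullbackStructureIso _⟩
    have hcl := (pullCl_eq_iff f A u L₁ L₂).2 ((tensor_trivial_iff _ hL₁ hL₂ hM e).1 htriv)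
    have h := congrArg (φ (AbDual.ovr A u)) hcl
    rw [hP.natural _ _ _ _ ⟨L₁, rfl, hL₁⟩, hP.natural _ _ _ _ ⟨L₂, rfl, hL₂⟩] at h
    exact (Category.assoc _ _ _).symm.trans ((congrArg CommaMorphism.left h).trans (Category.assoc _ _ _))

theorem eqSet_eq_preimage {T : Over S} (a : T.left ⟶ pullback P.hom P.hom)
    (g₁ g₂ : T ⟶ P) (h₁ : g₁.left = a ≫ pullback.fst _ _) (h₂ : g₂.left = a ≫ pullback.snd _ _) :
    eqSet g₁ g₂ = a ⁻¹' Set.range (pullback.diagonal P.hom) := by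
  ext x
  constructor
  · rintro ⟨V, v, ⟨y, rfl⟩, hv⟩
    refine ⟨(v ≫ g₁.left) y, ?_⟩
    rw [← Scheme.Hom.comp_apply, ← Scheme.Hom.comp_apply]
    refine congrArg (fun q : V ⟶ pullback P.hom P.hom => q y) ?_
    apply pullback.hom_ext
    · rw [Category.assoc, pullback.diagonal_fst, Category.comp_id, h₁, Category.assoc]
    · rw [Category.assoc, pullback.diagonal_snd, Category.comp_id, hv, h₂, Category.assoc]
  · rintro ⟨p, hp⟩
    obtain ⟨z, hz, -⟩ := Scheme.Pullback.exists_preimage_pullback (f := a) (g := pullback.diagonal P.hom) x p hp.symm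
    refine ⟨_, pullback.fst a (pullback.diagonal P.hom), ⟨z, hz⟩, ?_⟩
    rw [h₁, h₂, pullback.condition_assoc, pullback.condition_assoc, pullback.diagonal_fst, pullback.diagonal_snd]

include hP in
/-- The relative Picard scheme is separated. -/
theorem isSeparated : IsSeparated P.hom := by
  refine ⟨IsClosedImmersion.of_isPreimmersion _ ?_⟩
  let T : Over S := Over.mk (pullback.fst P.hom P.hom ≫ P.hom)
  let g₁ : T ⟶ P := Over.homMk (pullback.fst P.hom P.hom) rfl
  let g₂ : T ⟶ P := Over.homMk (pullback.snd P.hom P.hom) pullback.condition.symm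
  obtain ⟨R, hR, hR'⟩ := hP.locallySurjective T g₁
  rw [← isOpen_compl_iff, isOpen_iff_forall_mem_open]
  intro t ht
  obtain ⟨U, u, hu, y, rfl⟩ := (Presieve.mem_comap_jointlySurjectivePrecoverage_iff _).1 hR.1 t
  obtain ⟨c₁, hc₁, hφ₁⟩ := hR' u hu
  obtain ⟨R₂, hR₂, hR₂'⟩ := hP.locallySurjective (AbDual.ovr T u) (AbDual.ovrHom T u ≫ g₂)
  obtain ⟨U', v, hv, z, rfl⟩ := (Presieve.mem_comap_jointlySurjectivePrecoverage_iff _).1 hR₂.1 y
  obtain ⟨c₂, hc₂, hφ₂⟩ := hR₂' v hv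
  haveI : Flat u := (hR.2 hu).1
  haveI : LocallyOfFinitePresentation u := (hR.2 hu).2
  haveI : Flat v := (hR₂.2 hv).1
  haveI : LocallyOfFinitePresentation v := (hR₂.2 hv).2
  let w : U' ⟶ pullback P.hom P.hom := v ≫ u
  let A : Over S := AbDual.ovr (AbDual.ovr T u) v
  let c₁' := PicF.pullCl (PicF.XTmap f (AbDual.ovrHom (AbDual.ovr T u) v)) c₁
  have hφ₁' : φ A c₁' = AbDual.ovrHom (AbDual.ovr T u) v ≫ AbDual.ovrHom T u ≫ g₁ := by
    rw [hP.natural _ _ _ _ hc₁, hφ₁]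
  have hcl : IsClosed (w ⁻¹' Set.range (pullback.diagonal P.hom)) := by
    rw [← eqSet_eq_preimage (T := A) w (φ A c₁') (φ A c₂) ((congrArg CommaMorphism.left hφ₁').trans
      (Category.assoc _ _ _).symm) ((congrArg CommaMorphism.left hφ₂).trans (Category.assoc _ _ _).symm)]
    exact isClosed_eqSet f hP A (isInvertibleCl_pullCl _ hc₁) hc₂
  exact ⟨w '' (w ⁻¹' Set.range (pullback.diagonal P.hom))ᶜ, fun s ⟨x, hx, hxs⟩ => hxs ▸ hx,
    w.isOpenMap _ hcl.isOpen_compl, z, ht, rfl⟩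

end Groth.Agent.H12Pic.Sep
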