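import Groth.Agent.H12Pic.FibreConst
import Mathlib.AlgebraicGeometry.AlgClosed.Basic

/-!
# Integral fibres over an algebraically closed field
-/

set_option autoImplicit false
set_option linter.style.haveILetI false
set_option linter.unusedSectionVars false

universe u

open CategoryTheory CategoryTheory.Limits AlgebraicGeometry Opposite TopologicalSpace

namespace Groth.Agent.H12Pic

open Groth.Agent.H10Coh Groth.Agent.LeadBC.GenBC

attribute [local instance 10000] hasSheafifyAb hasWeakSheafifyAb hasExtAb enoughInjAb

variable {X S : Scheme.{u}} (f : X ⟶ S)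

/-- The rank of degree zero of a trivial fibre is the dimension of the functions. -/
theorem fiberRank_zero_eq_finrank {L : X.Modules} (s : S)
    (e : CohIII.fiberMod f L s ≅ Coh.structureModule (f.fiber s)) :
    CohIII.fiberRank f L 0 s = Module.finrank (S.residueField s) Γ(f.fiber s, ⊤) := by
  let eΓ : Γ(CohIII.fiberMod f L s, ⊤) ≃+ Γ(f.fiber s, ⊤) :=
    AddEquiv.ofBijective (e.hom.app ⊤).hom (ConcreteCategory.bijective_of_isIso (e.hom.app ⊤))
  let E : CohIII.fiberH f L s 0 ≃+ Γ(f.fiber s, ⊤) := (HH0Equiv _).trans eΓ
  have hE : ∀ (a : S.residueField s) (x : CohIII.fiberH f L s 0), E (a • x) = a • E x := fun a x => by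
    refine (congrArg (fun t => (e.hom.app ⊤).hom t) (HH0Equiv_smul _ _ x)).trans ?_
    exact (Scheme.Modules.Hom.app_smul e.hom _ _).trans rfl
  exact LinearEquiv.finrank_eq
    ({ E with map_smul' := hE } : CohIII.fiberH f L s 0 ≃ₗ[S.residueField s] Γ(f.fiber s, ⊤))

variable [IsProper f]

/-- Over an algebraically closed field an integral fibre over a closed point has only constants. -/
theorem bijective_algebraMap_fiber_closed (k : Type u) [Field k] [IsAlgClosed k]
    (g : S ⟶ Spec (CommRingCat.of k)) [LocallyOfFiniteType g] (s : S) (hs : IsClosed {s}) [IsIntegral (f.fiber s)] :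
    Function.Bijective (algebraMap (S.residueField s) Γ(f.fiber s, ⊤)) := by
  haveI : IsProper (f.fiberToSpecResidueField s) :=
    MorphismProperty.of_isPullback (IsPullback.of_hasPullback f (S.fromSpecResidueField s)) ‹IsProper f›
  haveI : IsAlgClosed (S.residueField s) :=
    IsAlgClosed.of_ringEquiv k (S.residueField s) (residueFieldIsoBase g s hs).commRingCatIsoToRingEquiv.symm
  haveI : Module.Finite (S.residueField s) Γ(f.fiber s, ⊤) :=
    H22Alg.GlobalFunctions.finite_algΓ (k := S.residueField s) (f.fiberToSpecResidueField s)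
  haveI : IsDomain Γ(f.fiber s, ⊤) := inferInstance
  exact IsAlgClosed.algebraMap_bijective_of_isIntegral

variable [Flat f] [LocallyOfFinitePresentation f]

theorem isIso_appTop_fiber_of_isIntegral (k : Type u) [Field k] [IsAlgClosed k]
    (g : S ⟶ Spec (CommRingCat.of k)) [LocallyOfFiniteType g] [IsIntegral S]
    (hint : ∀ s : S, IsIntegral (f.fiber s)) (s : S) : IsIso (f.fiberToSpecResidueField s).appTop := by
  haveI : JacobsonSpace S := LocallyOfFiniteType.jacobsonSpace g
  haveI : (Coh.structureModule X).IsQuasicoherent := isQuasicoherent_unit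
  have hbij : ∀ y : S, IsClosed {y} → Function.Bijective (f.fiberToSpecResidueField y).appTop := fun y hy => by
    haveI := hint y
    exact (Function.Bijective.of_comp_iff _
      (ConcreteCategory.bijective_of_isIso (Scheme.ΓSpecIso (S.residueField y)).inv)).1
      (bijective_algebraMap_fiber_closed f k g y hy)
  let P : Set S := {y | ∃ (W : S.Opens) (hW : IsAffineOpen W), y ∈ W ∧ EpiOn f (Coh.structureModule X) hW 0}
  have hP : IsOpen P := isOpen_iff_forall_mem_open.2 fun y ⟨W, hW, hy, he⟩ =>
    ⟨W, fun z hz => ⟨W, hW, hz, he⟩, W.isOpen, hy⟩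
  have hall : P = Set.univ := by
    by_contra hne
    obtain ⟨y, hy, hyc⟩ := nonempty_inter_closedPoints (Set.nonempty_compl.2 hne) hP.isClosed_compl.isLocallyClosed
    exact hy (exists_epiOn_of_appTop f (IsPullback.of_hasPullback f (S.fromSpecResidueField y)) y
      (fun z => Scheme.fromSpecResidueField_apply y z) (hbij y hyc).2)
  have hconst := isLocallyConstant_fiberRank_of_epiOn f (Coh.structureModule X) H06EGA9.isFP_structureModule
    (isFlatOver_structure f) fun y => hall.ge (Set.mem_univ y)
  obtain ⟨y, -, hy⟩ := nonempty_inter_closedPoints (Z := (Set.univ : Set S)) ⟨s, trivial⟩ isClosed_univ.isLocallyClosed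
  have key : ∀ z : S, CohIII.fiberRank f (Coh.structureModule X) 0 z =
      Module.finrank (S.residueField z) Γ(f.fiber z, ⊤) := fun z =>
    fiberRank_zero_eq_finrank f z (PicLoc.pullbackStructureIso (f.fiberι z))
  haveI := hint y
  refine isIso_appTop_of_finrank f s ?_
  rw [← key s, hconst.apply_eq_of_preconnectedSpace s y, key y,
    ← LinearEquiv.finrank_eq (LinearEquiv.ofBijective (Algebra.linearMap (S.residueField y) Γ(f.fiber y, ⊤))
      (bijective_algebraMap_fiber_closed f k g y hy))]
  exact Module.finrank_self _

end Groth.Agent.H12Pic
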