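import Groth.Agent.H12Pic.SeesawLocus
import Groth.Agent.H28Pinch.DirectImageTrivial
import Groth.Agent.H25Theta.Basic
import Groth.Agent.H11QMap.ProdRelAmple

/-!
# The closed subscheme over which a line bundle comes from the base
-/

set_option autoImplicit false
set_option linter.style.haveILetI false
set_option linter.unusedSectionVars false

noncomputable section

universe u

open CategoryTheory CategoryTheory.Limits AlgebraicGeometry Opposite TopologicalSpace

namespace Groth.Agent.H12Pic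

open Groth.Agent.H11Tilde Groth.Agent.LeadBC.GenBC

theorem appLE_SpecMap_fromSpec {S : Scheme.{u}} {U : S.Opens} (hU : IsAffineOpen U) {R : CommRingCat.{u}}
    (φ : Γ(S, U) ⟶ R) (h : (⊤ : (Spec R).Opens) ≤ (Spec.map φ ≫ hU.fromSpec) ⁻¹ᵁ U) :
    (Spec.map φ ≫ hU.fromSpec).appLE U ⊤ h = φ ≫ (Scheme.ΓSpecIso R).inv := by
  rw [Scheme.Hom.comp_appLE, hU.fromSpec_app_self]
  simp [Scheme.Hom.appLE]
  rw [← Functor.map_comp, Subsingleton.elim (_ ≫ _) (𝟙 _)]
  erw [CategoryTheory.Functor.map_id, Category.comp_id]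

variable {X S : Scheme.{u}} (f : X ⟶ S) [IsProper f] [Flat f] [LocallyOfFinitePresentation f]

/-- The closed subscheme of the base over which a line bundle comes from the base. -/
theorem exists_seesaw_subscheme (hint : ∀ s : S, IsIntegral (f.fiber s))
    (hK : ∀ s : S, IsIso (f.fiberToSpecResidueField s).appTop) {L : X.Modules} (hL : PicF.IsInvertible L) :
    ∃ (Z : Scheme.{u}) (ι : Z ⟶ S), IsClosedImmersion ι ∧
      ∀ (T : Scheme.{u}) (u : T ⟶ S), (∃ u' : T ⟶ Z, u' ≫ ι = u) ↔
        ∃ N : T.Modules, PicF.IsInvertible N ∧ Nonempty ((Scheme.Modules.pullback (pullback.fst f u)).obj L ≅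
          (Scheme.Modules.pullback (pullback.snd f u)).obj N) := by
  obtain ⟨M, hM, ⟨e₀⟩⟩ := H11Sym.exists_inverse hL
  let e : CohB1.tensorMod L M ≅ Coh.structureModule X := H10Coh.Tw.commIso L M ≪≫ e₀
  choose I hI hI' using fun V : S.affineOpens => exists_locus_ideal f hint hK hL hM e V.2
  let P : ∀ {T : Scheme.{u}}, (T ⟶ S) → T.Opens → Prop := fun {T} u W =>
    GenOn (pullback.snd f u) ((Scheme.Modules.pullback (pullback.fst f u)).obj L) W ∧
      GenOn (pullback.snd f u) ((Scheme.Modules.pullback (pullback.fst f u)).obj M) W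
  have hP : ∀ {T : Scheme.{u}} (u : T ⟶ S) (V : S.affineOpens) {W : T.Opens} (_ : IsAffineOpen W)
      (hle : W ≤ u ⁻¹ᵁ V), P u W ↔ I V ≤ RingHom.ker (u.appLE V W hle).hom :=
    fun {T} u V {W} hW hle => hI V (IsPullback.of_hasPullback f u) hW hle
  have hcompat : ∀ (V : S.affineOpens) (a : Γ(S, V)),
      (I V).map (S.presheaf.map (homOfLE (S.basicOpen_le a)).op).hom = I (S.affineBasicOpen a) := by
    intro V a
    let D := S.affineBasicOpen a
    let res := S.presheaf.map (homOfLE (S.basicOpen_le a)).op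
    have test : ∀ J : Ideal Γ(S, D), (I V).map res.hom ≤ J ↔ I D ≤ J := by
      intro J
      let φ : Γ(S, D) ⟶ CommRingCat.of (Γ(S, D) ⧸ J) := CommRingCat.ofHom (Ideal.Quotient.mk J)
      let u := Spec.map φ ≫ D.2.fromSpec
      have hleD : (⊤ : (Spec (CommRingCat.of (Γ(S, D) ⧸ J))).Opens) ≤ u ⁻¹ᵁ D := fun z _ =>
        D.2.range_fromSpec.le ⟨Spec.map φ z, rfl⟩
      have hleV : (⊤ : (Spec (CommRingCat.of (Γ(S, D) ⧸ J))).Opens) ≤ u ⁻¹ᵁ V :=
        hleD.trans (u.preimage_mono (S.basicOpen_le a))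
      have hker : RingHom.ker (u.appLE D ⊤ hleD).hom = J := by
        rw [appLE_SpecMap_fromSpec D.2 φ hleD]
        ext x
        rw [RingHom.mem_ker, CommRingCat.comp_apply, map_eq_zero_iff _
          (ConcreteCategory.bijective_of_isIso (Scheme.ΓSpecIso _).inv).1]
        exact Ideal.Quotient.eq_zero_iff_mem
      have hV' : u.appLE V ⊤ hleV = res ≫ u.appLE D ⊤ hleD :=
        (Scheme.Hom.map_appLE u hleD (homOfLE (S.basicOpen_le a)).op).symm
      have h1 := hP u V (isAffineOpen_top _) hleV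
      rw [hP u D (isAffineOpen_top _) hleD, hker, hV', CommRingCat.hom_comp, ← RingHom.comap_ker] at h1
      erw [hker] at h1
      rw [← Ideal.map_le_iff_le_comap] at h1
      exact h1.symm
    exact le_antisymm ((test _).2 le_rfl) ((test _).1 le_rfl)
  let J : S.IdealSheafData := { ideal := I, map_ideal_basicOpen := hcompat }
  refine ⟨J.subscheme, J.subschemeι, inferInstance, fun T u => ?_⟩
  have hall : (∃ u' : T ⟶ J.subscheme, u' ≫ J.subschemeι = u) ↔
      ∀ (V : S.affineOpens) (W : T.Opens) (_ : IsAffineOpen W), W ≤ u ⁻¹ᵁ V → P u W := by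
    constructor
    · rintro ⟨u', rfl⟩ V W hW hle
      refine (hP _ V hW hle).2 fun x hx => ?_
      rw [RingHom.mem_ker, Scheme.Hom.comp_appLE, CommRingCat.comp_apply,
        (RingHom.mem_ker.1 ((J.ker_subschemeι_app V).ge hx))]
      exact map_zero _
    · intro h
      refine ⟨IsClosedImmersion.lift J.subschemeι u ?_, IsClosedImmersion.lift_fac _ _ _⟩
      rw [Scheme.IdealSheafData.ker_subschemeι]
      refine Scheme.IdealSheafData.le_ofIdeals_iff.2 fun V x hx => RingHom.mem_ker.2 ?_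
      refine TopCat.Presheaf.section_ext ⟨T.presheaf, T.sheaf.property⟩ _ _ _ fun t ht => ?_
      obtain ⟨W, hW, htW, hWle⟩ := exists_isAffineOpen_mem_and_subset (U := u ⁻¹ᵁ V) (x := t) ht
      have hz : u.appLE V W hWle x = 0 := RingHom.mem_ker.1 ((hP u V hW hWle).1 (h V W hW hWle) hx)
      rw [map_zero, ← TopCat.Presheaf.germ_res_apply T.presheaf (homOfLE hWle) t htW]
      exact (congrArg (T.presheaf.germ W t htW) hz).trans (map_zero _)
  rw [hall]
  have hbij : ∀ U : T.Opens, Function.Bijective ((pullback.snd f u).app U) := fun U => by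
    haveI : IsProper (pullback.snd f u) := MorphismProperty.pullback_snd _ _ inferInstance
    haveI : Flat (pullback.snd f u) := MorphismProperty.pullback_snd _ _ inferInstance
    haveI : LocallyOfFinitePresentation (pullback.snd f u) := MorphismProperty.pullback_snd _ _ inferInstance
    haveI := isIso_app_of_fibres (pullback.snd f u)
      (isIso_appTop_fibre_baseChange f (IsPullback.of_hasPullback f u) hK) U
    exact ConcreteCategory.bijective_of_isIso ((pullback.snd f u).app U)
  let LT := (Scheme.Modules.pullback (pullback.fst f u)).obj L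
  let MT := (Scheme.Modules.pullback (pullback.fst f u)).obj M
  constructor
  · intro h
    refine H28Pinch.exists_invertible_of_locally_trivial (pullback.snd f u) hbij LT fun t => ?_
    obtain ⟨V, hV, hV', -⟩ := exists_isAffineOpen_mem_and_subset (U := (⊤ : S.Opens)) (x := u t) trivial
    obtain ⟨W, hW, htW, hWle⟩ := exists_isAffineOpen_mem_and_subset (U := u ⁻¹ᵁ V) (x := t) hV'
    obtain ⟨U, m, htU, hm⟩ := (h ⟨V, hV⟩ W hW hWle).1 t htW
    obtain ⟨φ⟩ := nonempty_iso_structureModule LT _ m fun V' hV' => hm.bijective hV'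
    exact ⟨U, htU, ⟨((Scheme.Modules.restrictFunctorIsoPullback _).app LT).symm ≪≫ φ⟩⟩
  · rintro ⟨N, hN, ⟨φ⟩⟩ V W - -
    obtain ⟨N', hN', ⟨ε⟩⟩ := H11Sym.exists_inverse hN
    obtain ⟨τ⟩ := H11Ample.exists_iso_pullback_tensor (pullback.fst f u) hL hM
    obtain ⟨σ⟩ := H11Ample.exists_iso_pullback_tensor (pullback.snd f u) hN' hN
    obtain ⟨ψ⟩ := H25Theta.cancel_right (A := MT) (B := (Scheme.Modules.pullback (pullback.snd f u)).obj N')
      (C := LT) (H11Ample.isInvertible_pullback _ hL)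
      ⟨H10Coh.Tw.commIso MT LT ≪≫ τ.symm ≪≫ (Scheme.Modules.pullback _).mapIso e ≪≫
        PicLoc.pullbackStructureIso _ ≪≫ (PicLoc.pullbackStructureIso (pullback.snd f u)).symm ≪≫
        ((Scheme.Modules.pullback _).mapIso ε).symm ≪≫ σ ≪≫ H11QMap.tensorIso (Iso.refl _) φ.symm⟩
    refine ⟨fun t _ => ?_, fun t _ => ?_⟩
    · obtain ⟨U, m, htU, hm⟩ := H11Ample.exists_gen hN t
      exact ⟨U, _, htU, IsGen.map_iso φ.symm (IsGen.pullSect _ hm)⟩
    · obtain ⟨U, m, htU, hm⟩ := H11Ample.exists_gen hN' t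
      exact ⟨U, _, htU, IsGen.map_iso ψ.symm (IsGen.pullSect _ hm)⟩

end Groth.Agent.H12Pic
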