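import Mathlib
import Groth.Agent.H22Alg.NegTwist
import Groth.Agent.H22Alg.CMField
import Groth.Agent.H22Alg.KosTwist
import Groth.Agent.H22Alg.PnSections
import Groth.Agent.H29RR.GenPoint
import Groth.Agent.H11Tilde.ProjUPUnique

/-!
# The drop of `h⁰` in negative twists on projective space, without closed associated points
-/

set_option autoImplicit false
set_option linter.style.haveILetI false
universe u

open CategoryTheory CategoryTheory.Limits AlgebraicGeometry Opposite TopologicalSpace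
open Groth.Agent Groth.Agent.H11Tilde Groth.Agent.H11Ample
open scoped TensorProduct
attribute [local instance 10000] Groth.Agent.H10Coh.hasSheafifyAb Groth.Agent.H10Coh.hasWeakSheafifyAb Groth.Agent.H10Coh.hasExtAb Groth.Agent.H10Coh.enoughInjAb

noncomputable section

namespace Groth.Agent.H12Pic.NegTwistPn

open CohB1 (polyGrading)

/-! ### Linear algebra -/

theorem exists_notMem_of_ne_top {k V : Type u} [Field k] [Infinite k] [AddCommGroup V] [Module k V]
    {ι : Type*} [Finite ι] (W : ι → Submodule k V) (hW : ∀ i, W i ≠ ⊤) : ∃ v, ∀ i, v ∉ W i := by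
  by_contra hc
  push Not at hc
  obtain ⟨i, hi⟩ := Subspace.exists_eq_top_of_iUnion_eq_univ (p := W)
    (Set.eq_univ_of_forall fun v => Set.mem_iUnion.2 (hc v))
  exact hW i hi

/-- Two vectors spanning a plane that meets each member of a finite family of subspaces of codimension at
least two only in zero. -/
theorem exists_pencil {k V : Type u} [Field k] [Infinite k] [AddCommGroup V] [Module k V]
    {ι : Type*} [Finite ι] (W : ι → Submodule k V) (hW : ∀ i (v : V), W i ⊔ (k ∙ v) ≠ ⊤) :
    ∃ v w : V, ∀ i, v ∉ W i ∧ ∀ c : k, w - c • v ∉ W i := by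
  obtain ⟨v, hv⟩ := exists_notMem_of_ne_top W fun i h => hW i 0 (by simp [h])
  obtain ⟨w, hw⟩ := exists_notMem_of_ne_top (fun i => W i ⊔ (k ∙ v)) fun i => hW i v
  refine ⟨v, w, fun i => ⟨hv i, fun c hc => hw i ?_⟩⟩
  have := Submodule.add_mem_sup hc (Submodule.mem_span_singleton.2 ⟨c, rfl⟩ : c • v ∈ k ∙ v)
  rwa [sub_add_cancel] at this

/-! ### Multiplication by a section -/

section mul

variable {X : Scheme.{u}}

/-- Multiplication by a section generating at all associated points is injective on global sections. -/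
theorem injective_mulHom_app {G L : X.Modules} (hG : Coh.IsCoh G) (g : Γ(L, ⊤))
    (hass : ∀ x ∈ AssSch.Ass G, x ∈ gen L g) :
    Function.Injective ((H22Alg.KosTwist.mulHom G g).app ⊤) := by
  refine (injective_iff_map_eq_zero ((H22Alg.KosTwist.mulHom G g).app ⊤).hom).2 fun t ht => ?_
  refine H22Alg.NegTwist.sec_ext fun y hy => ?_
  rw [map_zero]
  by_contra hne
  obtain ⟨W, hW, hyW, -⟩ := exists_isAffineOpen_mem_and_subset (U := (⊤ : X.Opens)) (x := y) trivial
  have hne' : G.presheaf.germ W y hyW (G.presheaf.map (homOfLE le_top).op t) ≠ 0 := by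
    rwa [TopCat.Presheaf.germ_res_apply]
  obtain ⟨x, hxW, hx, -, hxne⟩ := H17.AssPts.exists_ass_specializes_of_germ _ hG.1 hW hyW hne'
  rw [TopCat.Presheaf.germ_res_apply] at hxne
  let St := DerSch.stalkFunctor X x
  have hxg : x ∈ CohB1.genLocus L (homOfGlobal L g) := hass x hx
  haveI : IsIso (St.map (H22Alg.KosTwist.mulHom G g)) := by
    haveI h1 := H25Euler.isIso_stalk_of_mem_genLocus (homOfGlobal L g) hxg
    have h2 : IsIso ((((DCoh.tensorBi (X := X)).obj G) ⋙ St).map (homOfGlobal L g)) := by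
      rw [NatIso.isIso_map_iff (H16Derived.KFlat.Stalk.leftIso G x) (homOfGlobal L g)]
      exact inferInstanceAs (IsIso ((MonoidalCategory.tensorLeft _).map _))
    haveI h3 : IsIso (St.map (H22Alg.KosTwist.tensorLeftMap G (homOfGlobal L g))) := h2
    rw [H22Alg.KosTwist.mulHom, Functor.map_comp]
    infer_instance
  have hb := (ConcreteCategory.bijective_of_isIso (St.map (H22Alg.KosTwist.mulHom G g))).1
  refine hxne (hb ?_)
  refine (H10Coh.germ_app (H22Alg.KosTwist.mulHom G g) ⊤ x trivial t).trans ?_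
  rw [show (H22Alg.KosTwist.mulHom G g).app ⊤ t = 0 from ht, map_zero]
  exact (map_zero (St.map (H22Alg.KosTwist.mulHom G g)).hom).symm

theorem mulHom_app_top (G : X.Modules) {L : X.Modules} (g : Γ(L, ⊤)) (t : Γ(G, ⊤)) :
    (H22Alg.KosTwist.mulHom G g).app ⊤ t = tm t g := by
  rw [H22Alg.KosTwist.mulHom_app]
  exact congrArg (tm t) (H10Coh.mres_self L _ _)

end mul

/-! ### Linear forms -/

section forms

variable {k : Type u} [Field k] {N : ℕ}

variable (k N) in
/-- Linear forms. -/
abbrev Forms : Submodule k (MvPolynomial (Fin (N + 1)) k) := polyGrading N k 1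

/-- The linear forms vanishing at a point. -/
def vanishAt (x : ↥(CohB1.ProjSpace N k)) : Submodule k (Forms k N) :=
  (x.asHomogeneousIdeal.toIdeal.restrictScalars k).comap (Forms k N).subtype

theorem mem_vanishAt {x : ↥(CohB1.ProjSpace N k)} {m : Forms k N} :
    m ∈ vanishAt x ↔ (m : MvPolynomial (Fin (N + 1)) k) ∈ x.asHomogeneousIdeal := Iff.rfl

theorem aeval_smul_eq {S : Type u} [CommRing S] [Algebra k S] (t : S) (c : Fin (N + 1) → k) {d : ℕ}
    {f : MvPolynomial (Fin (N + 1)) k} (hf : f.IsHomogeneous d) :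
    MvPolynomial.aeval (fun i => c i • t) f = MvPolynomial.eval c f • t ^ d := by
  rw [MvPolynomial.aeval_def, MvPolynomial.eval₂_eq, MvPolynomial.eval_eq, Finset.sum_smul]
  refine Finset.sum_congr rfl fun a ha => ?_
  have hd : ∑ i ∈ a.support, a i = d := by
    rw [← hf (MvPolynomial.mem_support_iff.1 ha)]
    simp [Finsupp.weight_apply, Finsupp.sum]
  simp only [Algebra.smul_def, mul_pow, map_mul, map_prod, map_pow, Finset.prod_mul_distrib,
    Finset.prod_pow_eq_pow_sum, hd]
  ring

/-- A non-closed point has no linear form complementing the forms vanishing at it. -/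
theorem vanishAt_sup_ne_top {x : ↥(CohB1.ProjSpace N k)} (hx : ¬ IsClosed ({x} : Set ↥(CohB1.ProjSpace N k)))
    (l : Forms k N) : vanishAt x ⊔ (k ∙ l) ≠ ⊤ := by
  classical
  intro htop
  have hc : ∀ i : Fin (N + 1), ∃ c : k,
      MvPolynomial.X i - c • (l : MvPolynomial (Fin (N + 1)) k) ∈ x.asHomogeneousIdeal := fun i => by
    obtain ⟨w, hw, z, hz, hwz⟩ := Submodule.mem_sup.1
      (htop ▸ trivial : (⟨MvPolynomial.X i, MvPolynomial.isHomogeneous_X k i⟩ : Forms k N) ∈ vanishAt x ⊔ (k ∙ l))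
    obtain ⟨c, rfl⟩ := Submodule.mem_span_singleton.1 hz
    refine ⟨c, ?_⟩
    have h := congrArg (fun m : Forms k N => (m : MvPolynomial (Fin (N + 1)) k)) hwz
    simp only [Submodule.coe_add, Submodule.coe_smul] at h
    rw [← h, add_sub_cancel_right]
    exact mem_vanishAt.1 hw
  choose c hc using hc
  let p := x.asHomogeneousIdeal.toIdeal
  let t := Ideal.Quotient.mk p (l : MvPolynomial (Fin (N + 1)) k)
  have key : ∀ {d : ℕ} {f : MvPolynomial (Fin (N + 1)) k}, f.IsHomogeneous d →
      f - MvPolynomial.eval c f • (l : MvPolynomial (Fin (N + 1)) k) ^ d ∈ p := fun {d f} hf => by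
    rw [← Ideal.Quotient.mk_eq_mk_iff_sub_mem]
    have he : Ideal.Quotient.mkₐ k p = MvPolynomial.aeval (fun i => c i • t) := by
      refine MvPolynomial.algHom_ext fun i => ?_
      rw [MvPolynomial.aeval_X, Ideal.Quotient.mkₐ_eq_mk]
      exact (Ideal.Quotient.mk_eq_mk_iff_sub_mem _ _).2 (hc i)
    have h2 := DFunLike.congr_fun he f
    rw [aeval_smul_eq t c hf, Ideal.Quotient.mkₐ_eq_mk] at h2
    rw [h2]
    show _ = Ideal.Quotient.mkₐ k p _
    rw [map_smul, map_pow]
    rfl
  refine hx (isClosed_of_closure_subset fun y hy => ?_)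
  have hspec : x ⤳ y := specializes_iff_mem_closure.2 hy
  have hle : ∀ f : MvPolynomial (Fin (N + 1)) k, f ∈ x.asHomogeneousIdeal → f ∈ y.asHomogeneousIdeal := by
    intro f hf
    by_contra hne
    exact (hspec.mem_open (Proj.basicOpen (polyGrading N k) f).isOpen hne) hf
  have hl : (l : MvPolynomial (Fin (N + 1)) k) ∉ y.asHomogeneousIdeal := by
    intro hl
    obtain ⟨i, hi⟩ := exists_mem_basicOpen_X (n := N) (R := k) y
    refine hi ?_
    have h2 := y.asHomogeneousIdeal.toIdeal.add_mem (hle _ (hc i))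
      (show c i • (l : MvPolynomial (Fin (N + 1)) k) ∈ y.asHomogeneousIdeal.toIdeal from
        Submodule.smul_of_tower_mem _ (c i) hl)
    rwa [sub_add_cancel] at h2
  have hge : ∀ f : MvPolynomial (Fin (N + 1)) k, f ∈ y.asHomogeneousIdeal → f ∈ x.asHomogeneousIdeal := by
    intro f hf
    rw [← DirectSum.sum_support_decompose (polyGrading N k) f]
    refine Ideal.sum_mem _ fun d _ => ?_
    have hfd : ((DirectSum.decompose (polyGrading N k) f) d : MvPolynomial (Fin (N + 1)) k) ∈ y.asHomogeneousIdeal :=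
      y.asHomogeneousIdeal.isHomogeneous d hf
    generalize hg : ((DirectSum.decompose (polyGrading N k) f) d : MvPolynomial (Fin (N + 1)) k) = g at hfd
    have hgh : g.IsHomogeneous d := hg ▸ ((DirectSum.decompose (polyGrading N k) f) d).2
    have hkey := key hgh
    have h0 : MvPolynomial.eval c g = 0 := by
      by_contra hne
      have h2 := y.asHomogeneousIdeal.toIdeal.sub_mem hfd (hle _ hkey)
      rw [sub_sub_cancel] at h2
      have h3 := Submodule.smul_of_tower_mem y.asHomogeneousIdeal.toIdeal (MvPolynomial.eval c g)⁻¹ h2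
      rw [smul_smul, inv_mul_cancel₀ hne, one_smul] at h3
      exact hl (y.isPrime.mem_of_pow_mem _ h3)
    rwa [h0, zero_smul, sub_zero] at hkey
  exact Set.mem_singleton_iff.2
    (ProjectiveSpectrum.ext (HomogeneousIdeal.ext (le_antisymm (fun f hf => hge f hf) (fun f hf => hle f hf))))

/-- The section of `O(1)` given by a linear form. -/
def formSec (m : Forms k N) : Γ(Twist.twistProjSpace N k 1, ⊤) :=
  globalSec (polyGrading N k) m.2

theorem mem_gen_formSec {m : Forms k N} {x : ↥(CohB1.ProjSpace N k)}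
    (hm : m ∉ vanishAt x) : x ∈ gen (Twist.twistProjSpace N k 1) (formSec m) := by
  refine (genLocus_globalSec (polyGrading N k) m.2 fun y => ?_).ge hm
  obtain ⟨j, hj⟩ := exists_mem_basicOpen_X (n := N) (R := k) y
  exact ⟨_, H11Ample.X_mem j, hj⟩

theorem fval_constΓ_top (c : k) (x : (⊤ : (Proj (polyGrading N k)).Opens)) :
    fval (polyGrading N k) (H10Coh.Pn.constΓ (n := N) c) x = Localization.mk (MvPolynomial.C c) 1 := by
  obtain ⟨i, hi⟩ := exists_mem_basicOpen_X (n := N) (R := k) x.1
  exact H10Coh.Pn.fval_constΓ (H11Ample.X_mem i) Nat.one_pos c ⟨x.1, hi⟩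

theorem formSec_sub_smul (w v : Forms k N) (c : k) :
    formSec (w - c • v) = formSec w -
      (H10Coh.globA (A := k) (X := CohB1.ProjSpace N k) c) • formSec v := by
  rw [eq_sub_iff_add_eq]
  refine sval_ext (polyGrading N k) (polyGrading N k) fun x => ?_
  erw [sval_add, sval_smul, fval_constΓ_top c x]
  change (Localization.mk _ _ : GrTwist.Loc (polyGrading N k) x.1) +
    Localization.mk _ 1 * Localization.mk _ _ = Localization.mk _ _
  rw [Localization.mk_mul, one_mul]
  refine (Localization.add_mk_self _ _ _).trans ?_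
  congr 1
  simp [Submodule.coe_sub, Submodule.coe_smul, MvPolynomial.smul_eq_C_mul]

end forms

/-! ### The drop -/

variable {k : Type u} [Field k] [IsAlgClosed k] {N : ℕ}

theorem finite_HH {F : (CohB1.ProjSpace N k).Modules} (hF : Coh.IsCoh F) :
    Module.Finite k (Coh.HH (CohB1.ProjSpace N k) F 0) := by
  haveI : IsProper ((CohB1.ProjSpace N k) ↘ Spec (CommRingCat.of k)) :=
    inferInstanceAs (IsProper (CohB1.ProjSpace.toSpec N k))
  exact H10Coh.finite_HH_proper k _ F hF 0

/-- No associated point is closed. -/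
def NoClosedAss (F : (CohB1.ProjSpace N k).Modules) : Prop :=
  ∀ x ∈ AssSch.Ass F, ¬ IsClosed ({x} : Set ↥(CohB1.ProjSpace N k))

/-- `H⁰` of the twist down by one has strictly smaller dimension, unless it is zero. -/
theorem finrank_lt (F : (CohB1.ProjSpace N k).Modules) (hF : Coh.IsCoh F) (hass : NoClosedAss F)
    (h : 0 < Module.finrank k (Coh.HH (CohB1.ProjSpace N k) (CohB1.tensorMod F (Twist.twistProjSpace N k (-1))) 0)) :
    Module.finrank k (Coh.HH (CohB1.ProjSpace N k) (CohB1.tensorMod F (Twist.twistProjSpace N k (-1))) 0) <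
      Module.finrank k (Coh.HH (CohB1.ProjSpace N k) F 0) := by
  classical
  haveI : IsProper ((CohB1.ProjSpace N k) ↘ Spec (CommRingCat.of k)) :=
    inferInstanceAs (IsProper (CohB1.ProjSpace.toSpec N k))
  haveI := H28Int.isNoetherian k (X := CohB1.ProjSpace N k)
  have hs := H22Alg.CMField.setup k N
  have hG : Coh.IsCoh (CohB1.tensorMod F (Twist.twistProjSpace N k (-1))) :=
    H11Ample.isCoh_tensor hF (hs.fam.inv (-1))
  have hassG : AssSch.Ass (CohB1.tensorMod F (Twist.twistProjSpace N k (-1))) = AssSch.Ass F :=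
    H22Alg.NegTwist.mem_ass_tensor (hs.fam.inv (-1)) F
  obtain ⟨a⟩ := hs.fam.add (-1) 1
  obtain ⟨z⟩ := hs.fam.zero
  let φ : CohB1.tensorMod (CohB1.tensorMod F (Twist.twistProjSpace N k (-1))) (Twist.twistProjSpace N k 1) ≅ F :=
    H10Coh.Tw.assoc F _ _ ≪≫ PicGrp.tensorModIso (Iso.refl F)
      (a ≪≫ eqToIso (congrArg (Twist.twistProjSpace N k) (by ring)) ≪≫ z) ≪≫ H10Coh.Tw.rightUnitIso F
  let μ : Forms k N → (CohB1.tensorMod F (Twist.twistProjSpace N k (-1)) ⟶ F) := fun m =>
    H22Alg.KosTwist.mulHom _ (formSec m) ≫ φ.hom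
  haveI : Finite ↥(AssSch.Ass F) := (H17.PrimaryDecomp.finite_ass hF).to_subtype
  haveI : Infinite k := IsAlgClosed.instInfinite
  obtain ⟨v, w, hvw⟩ := exists_pencil (fun x : AssSch.Ass F => vanishAt (x.1)) fun x l =>
    vanishAt_sup_ne_top (hass x.1 x.2) l
  haveI := finite_HH hG
  haveI := finite_HH hF
  have hinj : ∀ m : Forms k N, (∀ x : AssSch.Ass F, m ∉ vanishAt x.1) →
      Function.Injective ((μ m).app ⊤) := by
    intro m hm
    have h1 := injective_mulHom_app hG (formSec m) fun x hx => mem_gen_formSec (hm ⟨x, hassG ▸ hx⟩)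
    exact fun t t' e => h1 ((ConcreteCategory.bijective_of_isIso (φ.hom.app ⊤)).1 e)
  have hHinj : ∀ m : Forms k N, (∀ x : AssSch.Ass F, m ∉ vanishAt x.1) →
      Function.Injective (Canon.HHlin k (μ m) 0) := fun m hm y y' e => by
    refine (H29RR.sec _).injective (hinj m hm ?_)
    rw [← H29RR.sec_natural (k := k), ← H29RR.sec_natural (k := k), e]
  have hv : ∀ x : AssSch.Ass F, v ∉ vanishAt x.1 := fun x => (hvw x).1
  have hw : ∀ x : AssSch.Ass F, w ∉ vanishAt x.1 := fun x h0 => (hvw x).2 0 (by simpa using h0)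
  have hle := LinearMap.finrank_le_finrank_of_injective (hHinj v hv)
  refine lt_of_le_of_ne hle fun he => ?_
  let B := LinearMap.linearEquivOfInjective (Canon.HHlin k (μ v) 0) (hHinj v hv) he
  haveI : Nontrivial (Coh.HH (CohB1.ProjSpace N k) (CohB1.tensorMod F (Twist.twistProjSpace N k (-1))) 0) :=
    Module.nontrivial_of_finrank_pos (R := k) h
  obtain ⟨c, hc⟩ := Module.End.exists_eigenvalue (B.symm.toLinearMap ∘ₗ Canon.HHlin k (μ w) 0)
  obtain ⟨y, hy⟩ := hc.exists_hasEigenvector
  have hyc : Canon.HHlin k (μ w) 0 y = c • Canon.HHlin k (μ v) 0 y := by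
    have := congrArg B hy.apply_eq_smul
    rw [LinearMap.comp_apply, map_smul] at this
    simpa [B] using this
  refine hy.2 (hHinj (w - c • v) (fun x => (hvw x).2 c) ?_)
  refine ((H29RR.sec _).injective ?_).trans (map_zero _).symm
  have hyc' := congrArg (H29RR.sec F) hyc
  rw [H29RR.sec_smul, H29RR.sec_natural, H29RR.sec_natural] at hyc'
  rw [map_zero, H29RR.sec_natural]
  generalize H29RR.sec _ y = t at hyc' ⊢
  change φ.hom.app ⊤ ((H22Alg.KosTwist.mulHom _ (formSec w)).app ⊤ t) =
    _ • φ.hom.app ⊤ ((H22Alg.KosTwist.mulHom _ (formSec v)).app ⊤ t) at hyc'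
  change φ.hom.app ⊤ ((H22Alg.KosTwist.mulHom _ (formSec (w - c • v))).app ⊤ t) = 0
  rw [mulHom_app_top] at hyc' ⊢
  rw [mulHom_app_top, ← Scheme.Modules.Hom.app_smul] at hyc'
  rw [formSec_sub_smul]
  have hd := H11Ample.tm_add_right t (formSec w - (H10Coh.globA (A := k) (X := CohB1.ProjSpace N k) c) • formSec v)
    ((H10Coh.globA (A := k) (X := CohB1.ProjSpace N k) c) • formSec v)
  rw [sub_add_cancel, H11Ample.tm_smul_right] at hd
  rw [eq_sub_of_add_eq hd.symm, map_sub, hyc', sub_self]

/-- `h⁰` of the twists down decreases strictly until it vanishes. -/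
theorem finrank_twist_neg_le (F : (CohB1.ProjSpace N k).Modules) (hF : Coh.IsCoh F) (hass : NoClosedAss F) :
    ∀ n : ℕ, Module.finrank k (Coh.HH (CohB1.ProjSpace N k)
      (CohB1.tensorMod F (Twist.twistProjSpace N k (-(n : ℤ)))) 0) ≤
        Module.finrank k (Coh.HH (CohB1.ProjSpace N k) F 0) - n := by
  haveI : IsProper ((CohB1.ProjSpace N k) ↘ Spec (CommRingCat.of k)) :=
    inferInstanceAs (IsProper (CohB1.ProjSpace.toSpec N k))
  haveI := H28Int.isNoetherian k (X := CohB1.ProjSpace N k)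
  have hs := H22Alg.CMField.setup k N
  intro n
  induction n with
  | zero =>
    obtain ⟨z⟩ := hs.fam.zero
    rw [Nat.sub_zero]
    exact (H22Alg.CurveAmple.finrank_HH_congr (k := k) (PicGrp.tensorModIso (Iso.refl F)
      (eqToIso (congrArg (Twist.twistProjSpace N k) (show -((0 : ℕ) : ℤ) = 0 from neg_zero)) ≪≫ z) ≪≫ H10Coh.Tw.rightUnitIso F) 0).le
  | succ n ih =>
    obtain ⟨a⟩ := hs.fam.add (-(n : ℤ)) (-1)
    have he := H22Alg.CurveAmple.finrank_HH_congr (k := k) (H10Coh.Tw.assoc F _ _ ≪≫ PicGrp.tensorModIso (Iso.refl F)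
      (a ≪≫ eqToIso (congrArg (Twist.twistProjSpace N k) (by push_cast; ring :
        -(n : ℤ) + -1 = -((n + 1 : ℕ) : ℤ))))) 0
    rw [← he]
    have hG : Coh.IsCoh (CohB1.tensorMod F (Twist.twistProjSpace N k (-(n : ℤ)))) :=
      H11Ample.isCoh_tensor hF (hs.fam.inv _)
    have hassG : NoClosedAss (CohB1.tensorMod F (Twist.twistProjSpace N k (-(n : ℤ)))) := fun x hx =>
      hass x (H22Alg.NegTwist.mem_ass_tensor (hs.fam.inv _) F ▸ hx)
    rcases Nat.eq_zero_or_pos (Module.finrank k (Coh.HH (CohB1.ProjSpace N k) (CohB1.tensorMod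
        (CohB1.tensorMod F (Twist.twistProjSpace N k (-(n : ℤ)))) (Twist.twistProjSpace N k (-1))) 0)) with h | h
    · omega
    · have := finrank_lt _ hG hassG h
      omega

end Groth.Agent.H12Pic.NegTwistPn
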