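import Groth.Agent.H28Int.Num
import Groth.Agent.H28Int.Curves
import Groth.Agent.H28Int.FieldExt
import Groth.Agent.H28Bc.FieldPoint
import Groth.Agent.H06Mod.StalkBaseChange
import Groth.Agent.H06Mod.StalkFaithful
import Groth.Agent.H06EGA9.FlatFibreBC
import Groth.Agent.H25Theta.Basic
import Groth.Agent.H17.ConsModModels
import Groth.Agent.H10Coh.FinType2

/-!
# Euler characteristics under algebraic and τ-equivalence
-/

set_option autoImplicit false
set_option linter.style.haveILetI false
universe u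

open CategoryTheory CategoryTheory.Limits AlgebraicGeometry

namespace Groth.Agent.H12Pic.AlgEquivEuler

open Groth.Agent.H25Theta (pb pT pC pI tI)
open Groth.Agent.H28Int

/-- Tensoring with an invertible module keeps flatness over the base. -/
theorem isFlatOverAt_tensor {P T : Scheme.{u}} (p : P ⟶ T) {G M : P.Modules} (hM : PicF.IsInvertible M)
    {x : P} (h : FlatMod.IsFlatOverAt p G x) : FlatMod.IsFlatOverAt p (CohB1.tensorMod G M) x := by
  obtain ⟨U, hxU, ⟨eM⟩⟩ := hM x
  let eM' : pb U.ι M ≅ Coh.structureModule U.toScheme :=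
    ((Scheme.Modules.restrictFunctorIsoPullback U.ι).app M).symm ≪≫ eM
  let e : pb U.ι (CohB1.tensorMod G M) ≅ pb U.ι G :=
    pT U.ι G M ≪≫ tI (Iso.refl _) eM' ≪≫ H10Coh.Tw.rightUnitIso _
  exact (H06Mod.isFlatOverAt_pullback_iff U.ι p _ ⟨x, hxU⟩).1
    ((H06EGA9.isFlatOverAt_congr_iso _ e _).2 ((H06Mod.isFlatOverAt_pullback_iff U.ι p G ⟨x, hxU⟩).2 h))

variable (k : Type u) [Field k] {X : Scheme.{u}} [X.Over (Spec (CommRingCat.of k))]
  [IsProper (X ↘ Spec (CommRingCat.of k))]

/-- The Euler characteristic is constant along a connected flat family. -/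
theorem euler_fibreMod_eq {T : Scheme.{u}} (q : T ⟶ Spec (CommRingCat.of k)) [LocallyOfFiniteType q]
    [ConnectedSpace T] (G : (Pic13.prodK k X q).Modules) (hG : Coh.IsCoh G)
    (hfl : FlatMod.IsFlatOver (pullback.snd (X ↘ Spec (CommRingCat.of k)) q) G)
    (t t₀ : Spec (CommRingCat.of k) ⟶ T) (ht : t ≫ q = 𝟙 _) (ht₀ : t₀ ≫ q = 𝟙 _) :
    Curv2.euler k X (Pic13.fibreMod k X q t ht G) = Curv2.euler k X (Pic13.fibreMod k X q t₀ ht₀ G) := by
  haveI : IsLocallyNoetherian T := LocallyOfFiniteType.isLocallyNoetherian q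
  let f := pullback.snd (X ↘ Spec (CommRingCat.of k)) q
  haveI : IsLocallyNoetherian (Pic13.prodK k X q) := LocallyOfFiniteType.isLocallyNoetherian f
  haveI : LocallyOfFinitePresentation f := LocallyOfFinitePresentation.iff_locallyOfFiniteType.2 inferInstance
  haveI : G.IsQuasicoherent := hG.1
  have key : ∀ (s : Spec (CommRingCat.of k) ⟶ T) (hs : s ≫ q = 𝟙 _),
      Curv2.euler k X (Pic13.fibreMod k X q s hs G) = PerfAux.eulerChar f G (s.base default) := by
    intro s hs
    have hsq : IsPullback (Pic13.sliceAt k X q s hs) (X ↘ Spec (CommRingCat.of k)) f s := by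
      refine IsPullback.of_right ?_ (pullback.lift_snd _ _ _) (IsPullback.of_hasPullback _ q).flip.flip
      rw [hs, show Pic13.sliceAt k X q s hs ≫ pullback.fst _ q = 𝟙 X from pullback.lift_fst _ _ _]
      exact IsPullback.of_horiz_isIso ⟨by simp⟩
    exact H28Bc.euler_eq_eulerChar f G hG hfl (Pic13.sliceAt k X q s hs) s hsq
      (fun z => congrArg s.base (Subsingleton.elim z default))
  rw [key t ht, key t₀ ht₀]
  exact (H28Bc.isLocallyConstant_eulerChar f G (H10Coh.isFP_of_isCoh G hG) hfl).apply_eq_of_preconnectedSpace _ _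

/-- Twisting by a module algebraically equivalent to zero keeps the Euler characteristic. -/
theorem euler_twist_of_algEquiv {L : X.Modules} (h : Pic13.IsAlgEquivZero k X L) {F : X.Modules}
    (hF : Coh.IsCoh F) : Curv2.euler k X (CohB1.tensorMod L F) = Curv2.euler k X F := by
  obtain ⟨T, q, _, _, _, M, hM, t, t₀, ht, ht₀, ⟨e⟩, ⟨e₀⟩⟩ := h
  haveI : IsLocallyNoetherian T := LocallyOfFiniteType.isLocallyNoetherian q
  let p := pullback.fst (X ↘ Spec (CommRingCat.of k)) q
  haveI : IsLocallyNoetherian (Pic13.prodK k X q) :=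
    LocallyOfFiniteType.isLocallyNoetherian (pullback.snd (X ↘ Spec (CommRingCat.of k)) q)
  have hG : Coh.IsCoh (CohB1.tensorMod (pb p F) M) := H11Ample.isCoh_tensor (H17.ConsProp.isCoh_pullback p hF) hM
  have hfl : FlatMod.IsFlatOver (pullback.snd (X ↘ Spec (CommRingCat.of k)) q) (CohB1.tensorMod (pb p F) M) :=
    fun x => isFlatOverAt_tensor _ hM
      (H06Mod.isFlatOverAt_baseChange _ q F x (FieldExt.isFlatOver_of_field _ F _))
  have hs : ∀ (s : Spec (CommRingCat.of k) ⟶ T) (hs : s ≫ q = 𝟙 _),
      Nonempty (Pic13.fibreMod k X q s hs (CohB1.tensorMod (pb p F) M) ≅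
        CohB1.tensorMod (Pic13.fibreMod k X q s hs M) F) := fun s hs =>
    ⟨pT (Pic13.sliceAt k X q s hs) (pb p F) M ≪≫
      tI (pC (Pic13.sliceAt k X q s hs) p (h := 𝟙 X) (pullback.lift_fst _ _ _) F ≪≫ pI (𝟙 X) rfl F) (Iso.refl _) ≪≫
      H10Coh.Tw.commIso _ _⟩
  obtain ⟨f⟩ := hs t ht
  obtain ⟨f₀⟩ := hs t₀ ht₀
  rw [← H25Euler.euler_congr (f ≪≫ tI e (Iso.refl F)), euler_fibreMod_eq k q _ hG hfl t t₀ ht ht₀,
    H25Euler.euler_congr (f₀ ≪≫ tI e₀ (Iso.refl F) ≪≫ H10Coh.Tw.leftUnitIso F)]

/-- Twisting by a module with a positive power algebraically equivalent to zero keeps the Euler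
characteristic of coherent modules with support of bounded dimension. -/
theorem euler_twist_of_tauEquiv {L : X.Modules} (hL : PicF.IsInvertible L) (h : Pic13.IsTauEquivZero k X L) :
    ∀ (r : ℕ) {F : X.Modules}, Coh.IsCoh F → topologicalKrullDim (CohB1.support F) < (r : WithBot ℕ∞) →
      Curv2.euler k X (CohB1.tensorMod L F) = Curv2.euler k X F := by
  obtain ⟨n, hn, halg⟩ := h
  haveI := isNoetherian k (X := X)
  intro r
  induction r with
  | zero =>
    intro F hF hd
    have h1 : Curv2.euler k X F = 0 := D_eq_zero k [] (by simp) F hF hd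
    have h2 : Curv2.euler k X (CohB1.tensorMod L F) = 0 := D_eq_zero k [] (by simp) _ (isCoh_twist hL hF)
      ((dim_le_of_subset (support_twist L F)).trans_lt hd)
    rw [h1, h2]
  | succ r ih =>
    intro F hF hd
    have hle : topologicalKrullDim (CohB1.support F) ≤ (r : WithBot ℕ∞) := by
      rcases hdim : topologicalKrullDim (CohB1.support F) with _ | m
      · exact bot_le
      · rw [hdim] at hd
        have : m < ((r + 1 : ℕ) : ℕ∞) := WithBot.coe_lt_coe.1 hd
        exact WithBot.coe_le_coe.2 (ENat.lt_natCast_add_one_iff.1 (by exact_mod_cast this))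
    have hψ := isAddFn_D k [L] (List.forall_mem_singleton.2 hL)
    have h0 : ∀ G, Coh.IsCoh G → topologicalKrullDim (CohB1.support G) < (r : WithBot ℕ∞) → D k [L] G = 0 :=
      fun G hG hG' => by
        show Curv2.euler k X G - Curv2.euler k X (CohB1.tensorMod L G) = 0
        rw [ih hG hG', sub_self]
    have tel : ∀ j : ℕ,
        Curv2.euler k X F - Curv2.euler k X (CohB1.tensorMod (CohB1.tensorPow L j) F) = j * D k [L] F := by
      intro j
      induction j with
      | zero =>
        show Curv2.euler k X F - Curv2.euler k X (CohB1.tensorMod (Coh.structureModule X) F) = _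
        rw [H25Euler.euler_congr (H10Coh.Tw.leftUnitIso F)]
        simp
      | succ j ihj =>
        have hPF := isCoh_twist (H11Ample.isInvertible_tensorPow hL j) hF
        have e1 : D k [L] (CohB1.tensorMod (CohB1.tensorPow L j) F) = D k [L] F :=
          hψ.twist_eq h0 (H11Ample.isInvertible_tensorPow hL j) hF hle
        have e2 : Curv2.euler k X (CohB1.tensorMod (CohB1.tensorPow L (j + 1)) F) =
            Curv2.euler k X (CohB1.tensorMod L (CohB1.tensorMod (CohB1.tensorPow L j) F)) :=
          H25Euler.euler_congr (tI (H10Coh.Tw.commIso (CohB1.tensorPow L j) L) (Iso.refl F) ≪≫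
            H10Coh.Tw.assoc L (CohB1.tensorPow L j) F)
        change Curv2.euler k X (CohB1.tensorMod (CohB1.tensorPow L j) F) -
          Curv2.euler k X (CohB1.tensorMod L (CohB1.tensorMod (CohB1.tensorPow L j) F)) = D k [L] F at e1
        rw [← e2] at e1
        push_cast
        linarith
    have := tel n
    rw [euler_twist_of_algEquiv k halg hF, sub_self] at this
    have h3 : D k [L] F = 0 := by
      rcases mul_eq_zero.1 this.symm with h | h
      · exact absurd (Nat.cast_eq_zero.1 h) hn.ne'
      · exact h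
    change Curv2.euler k X F - Curv2.euler k X (CohB1.tensorMod L F) = 0 at h3
    omega

end Groth.Agent.H12Pic.AlgEquivEuler
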