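import Groth.Agent.H22Alg.Kleiman
import Groth.Agent.H28Int.FieldExt
import Groth.Agent.H16Derived.ProjFormula.Map
import Groth.Agent.LeadProper.Supp
import Groth.Agent.H8Props.FieldDimScheme
import Groth.Agent.H11Ample.Converse
import Groth.Agent.H17.ConsModModels

/-!
# Nef modules are the limits of ample ones, and nefness under extensions of the ground field
-/

set_option autoImplicit false
set_option linter.style.haveILetI false
set_option linter.unusedSectionVars false
universe u

open CategoryTheory CategoryTheory.Limits AlgebraicGeometry Opposite TopologicalSpace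
open Groth.Agent.H11Ample Groth.Agent.H22Alg

noncomputable section

namespace Groth.Agent.H12Pic.NefBC

variable {X : Scheme.{u}} (k : Type u) [Field k] [X.Over (Spec (CommRingCat.of k))]
  [IsProper (X ↘ Spec (CommRingCat.of k))]

theorem Q_congr {L L' : X.Modules} (e : L ≅ L') (F : X.Modules) : NefQ.Q k [L] F = NefQ.Q k [L'] F := by
  show (-1 : ℤ) ^ 1 * (Curv2.euler k X F - Curv2.euler k X (CohB1.tensorMod L F)) =
    (-1 : ℤ) ^ 1 * (Curv2.euler k X F - Curv2.euler k X (CohB1.tensorMod L' F))
  rw [H25Euler.euler_congr (PicGrp.tensorModIso e (Iso.refl F))]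

theorem nef_congr {L L' : X.Modules} (e : L ≅ L') (h : Kleiman.Nef k L) : Kleiman.Nef k L' :=
  fun Z i _ _ hd => (Q_congr k e _).subst (motive := fun t => 0 ≤ t) (h Z i hd)

/-- The degree on a curve as an intersection number. -/
theorem curveDeg_eq_Q {Z : Scheme.{u}} (i : Z ⟶ X) [IsClosedImmersion i] [IsIntegral Z]
    (hZ : topologicalKrullDim Z = 1) {L : X.Modules} (hL : PicF.IsInvertible L) :
    Pic13.curveDeg k (i ≫ (X ↘ Spec (CommRingCat.of k))) ((Scheme.Modules.pullback i).obj L) =
      NefQ.Q k [L] (ClSub.quotMod i.ker) := by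
  letI : Z.Over (Spec (CommRingCat.of k)) := ⟨i ≫ (X ↘ Spec (CommRingCat.of k))⟩
  haveI : IsProper (Z ↘ Spec (CommRingCat.of k)) := inferInstanceAs (IsProper (i ≫ _))
  rw [← NefQ.Q_quotMod_ker k i rfl (List.forall_mem_singleton.2 hL) (hZ.trans (by simp))]
  refine (H28Int.Curves.curveDeg_eq k hZ (isInvertible_pullback i hL)).trans ?_
  show _ = (-1 : ℤ) ^ 1 * _
  simp

theorem nef_iff_curveDeg {L : X.Modules} (hL : PicF.IsInvertible L) :
    Kleiman.Nef k L ↔ ∀ (Y : Scheme.{u}) (i : Y ⟶ X) [IsClosedImmersion i], IsIntegral Y → topologicalKrullDim Y = 1 →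
      0 ≤ Pic13.curveDeg k (i ≫ (X ↘ Spec (CommRingCat.of k))) ((Scheme.Modules.pullback i).obj L) := by
  constructor
  · intro h Y i _ hY hd
    rw [curveDeg_eq_Q k i hd hL]
    exact h Y i (hd.trans (by simp))
  · intro h Z i _ _ hd
    rw [← curveDeg_eq_Q k i (hd.trans (by simp)) hL]
    exact h Z i inferInstance (hd.trans (by simp))

theorem Q_tensor_pow {L A : X.Modules} (hL : PicF.IsInvertible L) (hA : PicF.IsInvertible A) (ν : ℕ)
    {F : X.Modules} (hF : Coh.IsCoh F) (hd : topologicalKrullDim (CohB1.support F) ≤ ((1 : ℕ) : WithBot ℕ∞)) :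
    NefQ.Q k [CohB1.tensorMod (CohB1.tensorPow L ν) A] F = ν * NefQ.Q k [L] F + NefQ.Q k [A] F := by
  rw [NefQ.Q_cons_tensor k (l := []) (by simp) (isInvertible_tensorPow hL ν) hA hF hd,
    NefQ.Q_cons_pow k (l := []) (by simp) hL hF hd]

include k in
theorem support_quotMod_ker_le {Z : Scheme.{u}} [IsIntegral Z] (f : Z ⟶ X) [IsClosedImmersion f] {d : ℕ}
    (hd : topologicalKrullDim Z = (d : WithBot ℕ∞)) :
    topologicalKrullDim (CohB1.support (ClSub.quotMod f.ker)) ≤ (d : WithBot ℕ∞) := by
  haveI := H28Int.isNoetherian k (X := X)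
  rw [IntPullback.quotMod_ker f]
  refine (H28Int.dim_le_of_subset (H25K.support_redMod_subset _)).trans (le_of_eq ?_)
  show topologicalKrullDim (closure {f (genericPoint Z)} : Set X) = _
  rw [← LeadDev.range_eq_closure f (ξ := f (genericPoint Z)) rfl,
    ← f.isClosedEmbedding.isEmbedding.toHomeomorph.isHomeomorph.topologicalKrullDim_eq, hd]

/-- A combination of a nef and an ample module with positive ample part is ample. -/
theorem isAmple_of_nef {L A : X.Modules} (hL : PicF.IsInvertible L) (hnef : Kleiman.Nef k L)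
    (hA : CohB1.IsAmple A) (ν : ℕ) : CohB1.IsAmple (CohB1.tensorMod (CohB1.tensorPow L ν) A) := by
  haveI := H28Int.isNoetherian k (X := X)
  have hM : PicF.IsInvertible (CohB1.tensorMod (CohB1.tensorPow L ν) A) :=
    H11Ample.isInvertible_tensor (isInvertible_tensorPow hL ν) hA.1
  let M := CohB1.tensorMod (CohB1.tensorPow L ν) (CohB1.tensorPow A 1)
  have e : CohB1.tensorPow A 1 ≅ A := H10Coh.Tw.leftUnitIso A
  refine isAmple_of_iso (PicGrp.tensorModIso (Iso.refl _) e) (Nakai.isAmple_of_pos k
    (H11Ample.isInvertible_tensor (isInvertible_tensorPow hL ν) (isInvertible_tensorPow hA.1 1)) ?_)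
  intro Z f _ _ d hd0 hd
  letI : Z.Over (Spec (CommRingCat.of k)) := ⟨f ≫ (X ↘ Spec (CommRingCat.of k))⟩
  haveI : IsProper (Z ↘ Spec (CommRingCat.of k)) := inferInstanceAs (IsProper (f ≫ _))
  have hex := NefQ.expand k hL hA.1 ν 1 (show Coh.IsCoh (ClSub.quotMod f.ker) from LeadDev.isCoh_push_structure _)
    d 0 0 (by rw [add_zero, add_zero]; exact support_quotMod_ker_le k f hd)
  simp only [List.replicate_zero, List.append_nil, zero_add] at hex
  have hQ : NefQ.Q k (List.replicate d M) (ClSub.quotMod f.ker) =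
      (-1 : ℤ) ^ d * H28Int.D k (List.replicate d M) (ClSub.quotMod f.ker) := by
    rw [NefQ.Q, List.length_replicate]
  rw [← hQ, hex]
  refine Finset.sum_pos' (fun s hs => mul_nonneg (by positivity) ?_) ⟨0, by simp, ?_⟩
  · have hs' : s ≤ d := Nat.le_of_lt_succ (Finset.mem_range.1 hs)
    have h := Kleiman.mixed_nonneg k d Z _ _ (isInvertible_pullback f hL) (Kleiman.nef_pullback k f rfl hL hnef)
      (isAmple_pullback_of_isAffineHom f hA) hd s hs'
    rw [NefQ.I, ← List.map_replicate, ← List.map_replicate, ← List.map_append,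
      NefQ.Q_quotMod_ker k f rfl (NefQ.inv_mixed hL hA.1 _ _) (by
        simp only [List.length_append, List.length_replicate]; rw [hd, Nat.add_sub_cancel' hs'])] at h
    exact h
  · rw [Nat.choose_zero_right, Nat.cast_one, one_mul, pow_zero, one_mul, Nat.sub_zero, one_pow, one_mul]
    have := Nakai.pos_of_isAmple k hA Z f d hd0 hd
    simpa [NefQ.I, NefQ.Q] using this

/-- A module whose twists `Lᵛ ⊗ A` are ample is nef. -/
theorem nef_of_isAmple {L A : X.Modules} (hL : PicF.IsInvertible L) (hA : PicF.IsInvertible A)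
    (h : ∀ ν : ℕ, 0 < ν → CohB1.IsAmple (CohB1.tensorMod (CohB1.tensorPow L ν) A)) : Kleiman.Nef k L := by
  intro Z i _ _ hd
  haveI := H28Int.isNoetherian k (X := X)
  have hF : Coh.IsCoh (ClSub.quotMod i.ker) := LeadDev.isCoh_push_structure _
  have key : ∀ ν : ℕ, 0 < ν → 0 < (ν : ℤ) * NefQ.Q k [L] (ClSub.quotMod i.ker) + NefQ.Q k [A] (ClSub.quotMod i.ker) := by
    intro ν hν
    rw [← Q_tensor_pow k hL hA ν hF (support_quotMod_ker_le k i hd)]
    exact Nakai.pos_of_isAmple k (h ν hν) Z i 1 one_pos hd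
  by_contra hneg
  have h1 := key ((NefQ.Q k [A] (ClSub.quotMod i.ker)).natAbs + 1) (Nat.succ_pos _)
  push_cast at h1
  have hq : NefQ.Q k [L] (ClSub.quotMod i.ker) ≤ -1 := by omega
  nlinarith [le_abs_self (NefQ.Q k [A] (ClSub.quotMod i.ker)), abs_nonneg (NefQ.Q k [A] (ClSub.quotMod i.ker))]

include k in
/-- Chow's lemma: a proper scheme receives a proper surjection from one with an ample module. -/
theorem exists_surjective_ample :
    ∃ (X' : Scheme.{u}) (g : X' ⟶ X) (A : X'.Modules), IsProper g ∧ Surjective g ∧ CohB1.IsAmple A := by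
  obtain ⟨n, X', π, j, hj, hjs, hπ, hs, -⟩ := S0025.result (X ↘ Spec (CommRingCat.of k))
  haveI := hj; haveI := hπ
  haveI : IsProper (CohB1.ProjSpaceOver.toBase n (Spec (CommRingCat.of k))) :=
    H27Weil.isProper_toBase n (Spec (CommRingCat.of k))
  haveI : IsProper j := by
    haveI : IsProper (π ≫ (X ↘ Spec (CommRingCat.of k))) := MorphismProperty.comp_mem _ _ _ inferInstance inferInstance
    haveI : IsProper (j ≫ CohB1.ProjSpaceOver.toBase n (Spec (CommRingCat.of k))) := hjs ▸ inferInstance
    exact IsProper.of_comp j (CohB1.ProjSpaceOver.toBase n (Spec (CommRingCat.of k)))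
  haveI : IsClosedImmersion j := IsClosedImmersion.of_isPreimmersion j (j.isClosedMap.isClosed_range)
  obtain ⟨M, hM⟩ := H8Props.Ample.exists_isAmple_projSpaceOver n
    (H17.LocalProj.exists_isAmple_of_isAffine (Spec (CommRingCat.of k)))
  exact ⟨X', π, _, hπ, hs, isAmple_pullback_of_isAffineHom j hM⟩

section BaseChange

variable (K : Type u) [Field K] [Algebra k K] {X' : Scheme.{u}} [X'.Over (Spec (CommRingCat.of K))]
  [IsProper (X' ↘ Spec (CommRingCat.of K))] {q : X' ⟶ X}

/-- Intersection functions do not change under an extension of the ground field. -/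
theorem D_bc (hsq : IsPullback q (X' ↘ Spec (CommRingCat.of K)) (X ↘ Spec (CommRingCat.of k))
      (Spec.map (CommRingCat.ofHom (algebraMap k K)))) :
    ∀ (l : List X.Modules), (∀ A ∈ l, PicF.IsInvertible A) → ∀ F : X.Modules, Coh.IsCoh F →
      H28Int.D K (l.map (Scheme.Modules.pullback q).obj) ((Scheme.Modules.pullback q).obj F) = H28Int.D k l F
  | [], _, F, hF => H28Int.FieldExt.euler_bc K hsq hF
  | A :: l, hl, F, hF => by
    haveI := H28Int.isNoetherian k (X := X)
    have hl' : ∀ B ∈ l, PicF.IsInvertible B := fun B hB => hl B (List.mem_cons_of_mem _ hB)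
    have hlK : ∀ B ∈ l.map (Scheme.Modules.pullback q).obj, PicF.IsInvertible B := fun B hB => by
      obtain ⟨B', hB', rfl⟩ := List.mem_map.1 hB
      exact isInvertible_pullback q (hl' B' hB')
    have e : (Scheme.Modules.pullback q).obj (CohB1.tensorMod A F) ≅
        CohB1.tensorMod ((Scheme.Modules.pullback q).obj A) ((Scheme.Modules.pullback q).obj F) :=
      (H16Derived.KFlat.Stalk.pullTensorLIso q F).app A
    show H28Int.D K _ _ - H28Int.D K _ _ = H28Int.D k l F - H28Int.D k l _
    rw [← (H28Int.isAddFn_D K _ hlK).congr e, D_bc hsq l hl' F hF,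
      D_bc hsq l hl' _ (H28Int.isCoh_twist (hl A List.mem_cons_self) hF)]

theorem Q_bc (hsq : IsPullback q (X' ↘ Spec (CommRingCat.of K)) (X ↘ Spec (CommRingCat.of k))
      (Spec.map (CommRingCat.ofHom (algebraMap k K)))) {L : X.Modules} (hL : PicF.IsInvertible L)
    {F : X.Modules} (hF : Coh.IsCoh F) :
    NefQ.Q K [(Scheme.Modules.pullback q).obj L] ((Scheme.Modules.pullback q).obj F) = NefQ.Q k [L] F := by
  show (-1 : ℤ) ^ 1 * H28Int.D K ([L].map (Scheme.Modules.pullback q).obj) _ = (-1 : ℤ) ^ 1 * _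
  rw [D_bc k K hsq [L] (List.forall_mem_singleton.2 hL) F hF]

/-- Nefness descends along extensions of the ground field. -/
theorem nef_of_bc (hsq : IsPullback q (X' ↘ Spec (CommRingCat.of K)) (X ↘ Spec (CommRingCat.of k))
      (Spec.map (CommRingCat.ofHom (algebraMap k K)))) {L : X.Modules} (hL : PicF.IsInvertible L)
    (h : Kleiman.Nef K ((Scheme.Modules.pullback q).obj L)) : Kleiman.Nef k L := by
  intro Z i _ _ hd
  haveI := H28Int.isNoetherian k (X := X)
  haveI := H28Int.isNoetherian K (X := X')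
  have hF : Coh.IsCoh (ClSub.quotMod i.ker) := LeadDev.isCoh_push_structure _
  rw [← Q_bc k K hsq hL hF]
  refine NefQ.nonneg_of_integral K (List.forall_mem_singleton.2 (isInvertible_pullback q hL))
    (H17.ConsProp.isCoh_pullback q hF) ?_ fun W _ _ _ w _ hw hW => ?_
  · rw [LeadProper.support_pullback (ClSub.quotMod i.ker) hF.1 hF.2]
    have hsub : CohB1.support (ClSub.quotMod i.ker) ⊆ Set.range i := by
      rw [IntPullback.quotMod_ker i]
      exact (H25K.support_redMod_subset _).trans
        (closure_minimal (Set.singleton_subset_iff.2 ⟨_, rfl⟩) i.isClosedEmbedding.isClosed_range)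
    refine (H28Int.dim_le_of_subset (B := Set.range (pullback.fst q i)) ?_).trans (le_of_eq ?_)
    · rw [Scheme.Pullback.range_fst]
      exact Set.preimage_mono hsub
    rw [← (pullback.fst q i).isClosedEmbedding.isEmbedding.toHomeomorph.isHomeomorph.topologicalKrullDim_eq,
      List.length_singleton, ← hd]
    exact H8Props.FieldDim.dim_baseChange (i ≫ (X ↘ Spec (CommRingCat.of k))) (pullback.snd q i)
      (pullback.fst q i ≫ (X' ↘ Spec (CommRingCat.of K)))
      ((IsPullback.of_hasPullback q i).flip.paste_vert hsq)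
  · rw [NefQ.Q_quotMod_ker K w hw (List.forall_mem_singleton.2 (isInvertible_pullback q hL)) hW]
    exact h W w hW

/-- Nefness is preserved by extensions of the ground field. -/
theorem nef_bc (hsq : IsPullback q (X' ↘ Spec (CommRingCat.of K)) (X ↘ Spec (CommRingCat.of k))
      (Spec.map (CommRingCat.ofHom (algebraMap k K)))) {L : X.Modules} (hL : PicF.IsInvertible L)
    (h : Kleiman.Nef k L) : Kleiman.Nef K ((Scheme.Modules.pullback q).obj L) := by
  obtain ⟨X₁, g, A, hg, hgs, hA⟩ := exists_surjective_ample k (X := X)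
  haveI := hg; haveI := hgs
  letI : X₁.Over (Spec (CommRingCat.of k)) := ⟨g ≫ (X ↘ Spec (CommRingCat.of k))⟩
  haveI : IsProper (X₁ ↘ Spec (CommRingCat.of k)) := inferInstanceAs (IsProper (g ≫ _))
  letI : (pullback q g).Over (Spec (CommRingCat.of K)) := ⟨pullback.fst q g ≫ (X' ↘ Spec (CommRingCat.of K))⟩
  haveI : IsProper ((pullback q g) ↘ Spec (CommRingCat.of K)) :=
    inferInstanceAs (IsProper (pullback.fst q g ≫ _))
  haveI : Surjective (pullback.fst q g) := MorphismProperty.of_isPullback (IsPullback.of_hasPullback q g).flip hgs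
  have hsq₁ := (IsPullback.of_hasPullback q g).flip.paste_vert hsq
  haveI : IsAffineHom (Spec.map (CommRingCat.ofHom (algebraMap k K))) := inferInstance
  haveI : IsAffineHom (pullback.snd q g) := MorphismProperty.of_isPullback hsq₁.flip ‹_›
  have hgL := isInvertible_pullback g hL
  have hnef₁ := Kleiman.nef_pullback k g rfl hL h
  refine Kleiman.nef_descend K (pullback.fst q g) rfl (isInvertible_pullback q hL) ?_
  refine nef_congr K ((Scheme.Modules.pullbackComp (pullback.snd q g) g).app L ≪≫
    (Scheme.Modules.pullbackCongr pullback.condition.symm).app L ≪≫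
    ((Scheme.Modules.pullbackComp (pullback.fst q g) q).app L).symm) ?_
  refine nef_of_isAmple K (isInvertible_pullback _ hgL) (isInvertible_pullback (pullback.snd q g) hA.1) fun ν _ => ?_
  obtain ⟨e⟩ := exists_iso_pullback_tensorPow (pullback.snd q g) hgL ν
  exact isAmple_of_iso ((H16Derived.KFlat.Stalk.pullTensorLIso (pullback.snd q g) A).app _ ≪≫
    PicGrp.tensorModIso e (Iso.refl _))
    (isAmple_pullback_of_isAffineHom (pullback.snd q g) (isAmple_of_nef k hgL hnef₁ hA ν))

theorem nef_bc_iff (hsq : IsPullback q (X' ↘ Spec (CommRingCat.of K)) (X ↘ Spec (CommRingCat.of k))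
      (Spec.map (CommRingCat.ofHom (algebraMap k K)))) {L : X.Modules} (hL : PicF.IsInvertible L) :
    Kleiman.Nef K ((Scheme.Modules.pullback q).obj L) ↔ Kleiman.Nef k L :=
  ⟨nef_of_bc k K hsq hL, nef_bc k K hsq hL⟩

end BaseChange

end Groth.Agent.H12Pic.NefBC
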