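import Groth.Agent.LeadBC.GenBC.AppIso
import Groth.Agent.LeadBC.GenBC.Rank
import Groth.Agent.H28Pinch.DirectImageTrivial
import Groth.Agent.H11Ample.Converse
import Groth.Agent.H11Ample.Pullback
import Groth.Agent.H11Tilde.ProjUPUnique
import Groth.Agent.H10Coh.SheafHom.Flat
import Groth.Agent.H10Coh.Pn.Results
import Groth.Agent.H28Mero.Gen
import Groth.Agent.H18HTop.SpecLiftDVR
import Groth.Agent.H23Para.Local

/-!
# Line bundles trivial on fibres
-/

set_option autoImplicit false
set_option linter.style.haveILetI false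
set_option linter.unusedSectionVars false

universe u

open CategoryTheory CategoryTheory.Limits AlgebraicGeometry Opposite TopologicalSpace
open scoped TensorProduct

namespace Groth.Agent.H12Pic

open Groth.Agent.H10Coh Groth.Agent.H11Tilde Groth.Agent.LeadBC.GenBC

attribute [local instance 10000] hasSheafifyAb hasWeakSheafifyAb hasExtAb enoughInjAb

/-- A section generates a line bundle at a point if its pullback does. -/
theorem bijective_germ_of_pullSect {X' X : Scheme.{u}} (g : X' ⟶ X) {L : X.Modules} (hL : PicF.IsInvertible L)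
    {V : X.Opens} (m : Γ(L, V)) (y : X') (hy : g y ∈ V)
    (h : Function.Bijective fun r : X'.presheaf.stalk y =>
      r • ((Scheme.Modules.pullback g).obj L).presheaf.germ (g ⁻¹ᵁ V) y hy (OmegaSh.pullSect g L V m)) :
    Function.Bijective fun r : X.presheaf.stalk (g y) => r • L.presheaf.germ V (g y) hy m := by
  obtain ⟨V₀, e, hV₀, he⟩ := H11Ample.exists_gen hL (g y)
  have hW : g y ∈ V₀ ⊓ V := ⟨hV₀, hy⟩
  have he' := he.res (inf_le_left : V₀ ⊓ V ≤ V₀)
  obtain ⟨c, hc⟩ := H11Ample.exists_coeff he' (L.presheaf.map (homOfLE (inf_le_right : V₀ ⊓ V ≤ V)).op m)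
  have h1 : OmegaSh.pullSect g L (V₀ ⊓ V) (L.presheaf.map (homOfLE (inf_le_right : V₀ ⊓ V ≤ V)).op m) =
      g.app (V₀ ⊓ V) c • OmegaSh.pullSect g L (V₀ ⊓ V) (L.presheaf.map (homOfLE (inf_le_left : V₀ ⊓ V ≤ V₀)).op e) := by
    rw [hc, OmegaSh.pullSect_smul]
  have h2 : y ∈ X'.basicOpen (g.app (V₀ ⊓ V) c) := by
    refine (H11Ample.bijective_smul_iff (IsGen.pullSect g he') _ (y := y) hW).1 ?_
    rw [← h1, pullSect_res g L inf_le_right m, TopCat.Presheaf.germ_res_apply]
    exact h
  rw [← Scheme.preimage_basicOpen] at h2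
  have h3 := (H11Ample.bijective_smul_iff he' c hW).2 h2
  rw [← hc, TopCat.Presheaf.germ_res_apply] at h3
  exact h3

/-- A section generating on the whole fibre generates over a neighbourhood. -/
theorem exists_isGen_nhd {X S : Scheme.{u}} (f : X ⟶ S) [IsProper f] {L : X.Modules} (hL : PicF.IsInvertible L)
    {V : S.Opens} (m : Γ(L, f ⁻¹ᵁ V)) {s : S} (hs : s ∈ V)
    (h : ∀ (x : X) (hx : f x = s), Function.Bijective fun r : X.presheaf.stalk x =>
      r • L.presheaf.germ (f ⁻¹ᵁ V) x (show f x ∈ V from hx.symm ▸ hs) m) :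
    ∃ (U : S.Opens) (hle : U ≤ V), s ∈ U ∧
      IsGen L (L.presheaf.map (homOfLE (f.preimage_mono hle)).op m) := by
  let G : Set X := {x | ∃ hx : x ∈ f ⁻¹ᵁ V, Function.Bijective fun r : X.presheaf.stalk x =>
      r • L.presheaf.germ (f ⁻¹ᵁ V) x hx m}
  have hG : IsOpen G := by
    refine isOpen_iff_forall_mem_open.2 fun x ⟨hx, hb⟩ => ?_
    obtain ⟨V₀, e, hV₀, he⟩ := H11Ample.exists_gen hL x
    have hW : x ∈ V₀ ⊓ (f ⁻¹ᵁ V) := ⟨hV₀, hx⟩
    have he' := he.res (inf_le_left : V₀ ⊓ (f ⁻¹ᵁ V) ≤ V₀)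
    obtain ⟨c, hc⟩ := H11Ample.exists_coeff he'
      (L.presheaf.map (homOfLE (inf_le_right : V₀ ⊓ (f ⁻¹ᵁ V) ≤ f ⁻¹ᵁ V)).op m)
    refine ⟨X.basicOpen c, fun z hz => ?_, (X.basicOpen c).isOpen, ?_⟩
    · have hzW := X.basicOpen_le c hz
      refine ⟨hzW.2, ?_⟩
      have h3 := (H11Ample.bijective_smul_iff he' c hzW).2 hz
      rw [← hc, TopCat.Presheaf.germ_res_apply] at h3
      exact h3
    · refine (H11Ample.bijective_smul_iff he' c hW).1 ?_
      rw [← hc, TopCat.Presheaf.germ_res_apply]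
      exact hb
  have hclosed : IsClosed (f '' Gᶜ) := f.isClosedMap _ hG.isClosed_compl
  let U : S.Opens := ⟨(f '' Gᶜ)ᶜ, hclosed.isOpen_compl⟩ ⊓ V
  refine ⟨U, inf_le_right, ⟨?_, hs⟩, ?_⟩
  · rintro ⟨x, hx, hxs⟩
    exact hx ⟨show f x ∈ V from hxs.symm ▸ hs, h x hxs⟩
  · intro x hx
    rw [TopCat.Presheaf.germ_res_apply]
    have hxG : x ∈ G := by
      by_contra hne
      exact hx.1 ⟨x, hne, rfl⟩
    exact hxG.2

section fibres

variable {X S : Scheme.{u}} (f : X ⟶ S)

theorem nonempty_fiber_of_appTop (hK : ∀ s : S, IsIso (f.fiberToSpecResidueField s).appTop) (s : S) :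
    Nontrivial Γ(f.fiber s, ⊤) :=
  haveI := hK s
  haveI : Nonempty (Spec (S.residueField s)) := inferInstanceAs (Nonempty (PrimeSpectrum (S.residueField s)))
  haveI : Nontrivial Γ(Spec (S.residueField s), ⊤) :=
    (Scheme.ΓSpecIso (S.residueField s)).commRingCatIsoToRingEquiv.toEquiv.nontrivial
  (ConcreteCategory.bijective_of_isIso (f.fiberToSpecResidueField s).appTop).1.nontrivial

theorem isIso_appTop_of_finrank (s : S) (h1 : Module.finrank (S.residueField s) Γ(f.fiber s, ⊤) = 1) :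
    IsIso (f.fiberToSpecResidueField s).appTop := by
  have halg : Function.Bijective (algebraMap (S.residueField s) Γ(f.fiber s, ⊤)) ↔
      Function.Bijective (f.fiberToSpecResidueField s).appTop :=
    Function.Bijective.of_comp_iff _ (ConcreteCategory.bijective_of_isIso (Scheme.ΓSpecIso (S.residueField s)).inv)
  rw [ConcreteCategory.isIso_iff_bijective, ← halg]
  haveI : Nontrivial Γ(f.fiber s, ⊤) := Module.nontrivial_of_finrank_eq_succ h1
  refine ⟨(algebraMap (S.residueField s) Γ(f.fiber s, ⊤)).injective, fun b => ?_⟩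
  obtain ⟨c, hc⟩ := (finrank_eq_one_iff_of_nonzero' (1 : Γ(f.fiber s, ⊤)) one_ne_zero).1 h1 b
  exact ⟨c, (Algebra.algebraMap_eq_smul_one c).trans hc⟩

/-- Sections of degree zero of isomorphic modules on a fibre have the same dimension. -/
theorem fiberRank_zero_congr {L M : X.Modules} (s : S) (e : CohIII.fiberMod f L s ≅ CohIII.fiberMod f M s) :
    CohIII.fiberRank f L 0 s = CohIII.fiberRank f M 0 s := by
  let eΓ : Γ(CohIII.fiberMod f L s, ⊤) ≃+ Γ(CohIII.fiberMod f M s, ⊤) :=
    AddEquiv.ofBijective (e.hom.app ⊤).hom (ConcreteCategory.bijective_of_isIso (e.hom.app ⊤))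
  let E : CohIII.fiberH f L s 0 ≃+ CohIII.fiberH f M s 0 :=
    (HH0Equiv _).trans (eΓ.trans (HH0Equiv _).symm)
  have hE : ∀ (a : S.residueField s) (x : CohIII.fiberH f L s 0), E (a • x) = a • E x := fun a x => by
    apply (HH0Equiv (CohIII.fiberMod f M s)).injective
    refine ((HH0Equiv _).apply_symm_apply _).trans ?_
    refine (congrArg (fun t => (e.hom.app ⊤).hom t) (HH0Equiv_smul _ _ x)).trans ?_
    refine (Scheme.Modules.Hom.app_smul e.hom _ _).trans ?_
    refine Eq.trans ?_ (HH0Equiv_smul _ _ (E x)).symm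
    exact congrArg (fun t : Γ(CohIII.fiberMod f M s, ⊤) =>
      (show Γ(f.fiber s, ⊤) from Coh.toGlobal (X := f.fiber s) (A := S.residueField s) (f.fiberToSpecResidueField s) a) • t)
      ((HH0Equiv _).apply_symm_apply _).symm
  exact LinearEquiv.finrank_eq ({ E with map_smul' := hE } : CohIII.fiberH f L s 0 ≃ₗ[S.residueField s] CohIII.fiberH f M s 0)

variable [IsProper f] [Flat f] [LocallyOfFinitePresentation f]

theorem isLocallyConstant_fiberRank_of_epiOn (F : X.Modules) [F.IsQuasicoherent] (hfp : CohB1.IsFP F)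
    (hfl : FlatMod.IsFlatOver f F) (hE : ∀ y : S, ∃ (W : S.Opens) (hW : IsAffineOpen W), y ∈ W ∧ EpiOn f F hW 0) :
    IsLocallyConstant (CohIII.fiberRank f F 0) := by
  haveI := H10Coh.enoughInjMod X
  refine (IsLocallyConstant.iff_exists_open _).2 fun y => ?_
  obtain ⟨W, hW, hy, he⟩ := hE y
  obtain ⟨-, -, hc⟩ := sections_of_exact f F hW hfp hfl he (monoOn_zero f F hW hfp hfl)
  obtain ⟨O, hO, hyO, hOc⟩ := (IsLocallyConstant.iff_exists_open _).1 hc ⟨y, hy⟩
  refine ⟨Subtype.val '' O, W.isOpen.isOpenMap_subtype_val _ hO, ⟨⟨y, hy⟩, hyO, rfl⟩, ?_⟩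
  rintro _ ⟨z, hz, rfl⟩
  exact hOc z hz

variable {L : X.Modules} (hL : PicF.IsInvertible L)

include hL in
/-- A generator on a fibre spreads out along the base where base change holds. -/
theorem exists_gen_nhd (hK : ∀ s : S, IsIso (f.fiberToSpecResidueField s).appTop) {s : S}
    {W : S.Opens} (hW : IsAffineOpen W) (hs : s ∈ W) (hE : EpiOn f L hW 0)
    (e : CohIII.fiberMod f L s ≅ Coh.structureModule (f.fiber s)) :
    ∃ (U : S.Opens) (m : Γ(L, f ⁻¹ᵁ U)), s ∈ U ∧ IsGen L m := by
  haveI : L.IsQuasicoherent := H28Mero.isQCoh_of_isInvertible hL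
  have hfp : CohB1.IsFP L := H8Props.FinLocFree.isFP_of_isFinLocFree L (H28Pinch.isFinLocFree_of_isInvertible hL)
  have hfl : FlatMod.IsFlatOver f L :=
    H10Coh.SheafHom.isFlatOver_of_isFinLocFree f L (H28Pinch.isFinLocFree_of_isInvertible hL)
  let K := S.residueField s
  have hsq : IsPullback (f.fiberι s) (f.fiberToSpecResidueField s) f (S.fromSpecResidueField s) :=
    IsPullback.of_hasPullback f (S.fromSpecResidueField s)
  have hle : (⊤ : (Spec K).Opens) ≤ S.fromSpecResidueField s ⁻¹ᵁ W := fun z _ => by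
    show S.fromSpecResidueField s z ∈ W
    rw [Scheme.fromSpecResidueField_apply]
    exact hs
  letI := ((S.fromSpecResidueField s).appLE W ⊤ hle).hom.toAlgebra
  letI := Module.compHom Γ((Scheme.Modules.pushforward (f.fiberToSpecResidueField s)).obj
      ((Scheme.Modules.pullback (f.fiberι s)).obj L), ⊤) ((S.fromSpecResidueField s).appLE W ⊤ hle).hom
  haveI : IsScalarTower Γ(S, W) Γ(Spec K, ⊤) Γ((Scheme.Modules.pushforward (f.fiberToSpecResidueField s)).obj
      ((Scheme.Modules.pullback (f.fiberι s)).obj L), ⊤) := .of_algebraMap_smul fun _ _ => rfl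
  obtain ⟨c, hc, hcf⟩ := exists_transpose_app (S.fromSpecResidueField s)
    (H10Coh.isQuasicoherent_pushforward f L) (τ₀ f L hsq) hW (isAffineOpen_top _) hle
  haveI := isIso_bc_zero f L hsq hfp hfl fun z => ⟨W, hW, by rw [Scheme.fromSpecResidueField_apply]; exact hs, hE⟩
  have hb : Function.Bijective (LinearMap.liftBaseChange Γ(Spec K, ⊤)
      (FBC.locLin (S.fromSpecResidueField s) (τ₀ f L hsq) hle)) := by
    rw [hcf]
    exact (ConcreteCategory.bijective_of_isIso _).comp hc
  haveI := nonempty_fiber_of_appTop f hK s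
  have hbe : Function.Bijective (e.hom.app ⊤) := ConcreteCategory.bijective_of_isIso (e.hom.app ⊤)
  obtain ⟨m, hm⟩ : ∃ m, FBC.locLin (S.fromSpecResidueField s) (τ₀ f L hsq) hle m ≠ 0 := by
    by_contra hall
    push Not at hall
    have h0 : ∀ z, LinearMap.liftBaseChange Γ(Spec K, ⊤)
        (FBC.locLin (S.fromSpecResidueField s) (τ₀ f L hsq) hle) z = 0 := fun z => by
      induction z using TensorProduct.induction_on with
      | zero => exact map_zero _
      | tmul r x => rw [LinearMap.liftBaseChange_tmul, hall, smul_zero]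
      | add a b ha hb => rw [map_add, ha, hb, add_zero]
    obtain ⟨y, hy⟩ := hbe.2 (1 : Γ(f.fiber s, ⊤))
    obtain ⟨z, hz⟩ := hb.2 y
    exact one_ne_zero (α := Γ(f.fiber s, ⊤))
      (hy.symm.trans ((congrArg (e.hom.app ⊤) (hz.symm.trans (h0 z))).trans (map_zero _)))
  have hle' : (⊤ : (f.fiber s).Opens) ≤ f.fiberι s ⁻¹ᵁ (f ⁻¹ᵁ W) :=
    ((Opens.map (f.fiberToSpecResidueField s).base).monotone hle).trans (FBC.preimage_swap hsq W).le
  let σ : Γ(CohIII.fiberMod f L s, ⊤) :=
    (CohIII.fiberMod f L s).presheaf.map (homOfLE hle').op (OmegaSh.pullSect (f.fiberι s) L (f ⁻¹ᵁ W) m)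
  have hσm : FBC.locLin (S.fromSpecResidueField s) (τ₀ f L hsq) hle m = σ := by
    show rs (CohIII.fiberMod f L s) ((Opens.map (f.fiberToSpecResidueField s).base).monotone hle)
      ((τ₀ f L hsq).app W m) = σ
    rw [FBC.τPush_app]
    exact rs_rs (CohIII.fiberMod f L s) (FBC.preimage_swap hsq W).le _ _
  have hσ : σ ≠ 0 := fun h => hm (hσm.trans h)
  haveI := hK s
  obtain ⟨r, hr⟩ := (ConcreteCategory.bijective_of_isIso (f.fiberToSpecResidueField s).appTop).2
    (show Γ(f.fiber s, ⊤) from e.hom.app ⊤ σ)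
  have hr0 : r ≠ 0 := fun h => hσ (hbe.1 ((hr.symm.trans (by rw [h, map_zero])).trans (map_zero _).symm))
  have hF : IsField Γ(Spec K, ⊤) :=
    MulEquiv.isField (Field.toIsField K) (Scheme.ΓSpecIso K).commRingCatIsoToRingEquiv.toMulEquiv
  obtain ⟨r', hr'⟩ := hF.mul_inv_cancel hr0
  have hu : IsUnit (show Γ(f.fiber s, ⊤) from e.hom.app ⊤ σ) :=
    hr ▸ (IsUnit.of_mul_eq_one r' hr').map (f.fiberToSpecResidueField s).appTop.hom
  have hg1 : IsGen (Coh.structureModule (f.fiber s)) (e.hom.app ⊤ σ) := by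
    have h1 := H11Ample.isGen_res (H11Ample.isGen_one (X := f.fiber s) ⊤) le_rfl hu
    rw [H11Ample.one_res] at h1
    rwa [H11Ample.smul_one_eq] at h1
  have hg : IsGen (CohIII.fiberMod f L s) σ := by
    have h1 := IsGen.map_iso e.symm hg1
    rwa [Iso.symm_hom, ← ConcreteCategory.comp_apply, ← Scheme.Modules.Hom.comp_app, e.hom_inv_id] at h1
  obtain ⟨U, hUW, hsU, hgen⟩ := exists_isGen_nhd f hL m hs fun x hx => by
    obtain ⟨y, rfl⟩ : x ∈ Set.range (f.fiberι s) := (f.range_fiberι s).ge hx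
    refine bijective_germ_of_pullSect (f.fiberι s) hL m y _ ?_
    have h1 := hg y trivial
    rw [TopCat.Presheaf.germ_res_apply] at h1
    exact h1
  exact ⟨U, _, hsU, hgen⟩

include hL in
/-- Triviality on a fibre spreads out along the base where base change holds. -/
theorem exists_trivial_nhd (hK : ∀ s : S, IsIso (f.fiberToSpecResidueField s).appTop) {s : S}
    {W : S.Opens} (hW : IsAffineOpen W) (hs : s ∈ W) (hE : EpiOn f L hW 0)
    (e : CohIII.fiberMod f L s ≅ Coh.structureModule (f.fiber s)) :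
    ∃ U : S.Opens, s ∈ U ∧
      Nonempty ((Scheme.Modules.pullback (f ⁻¹ᵁ U).ι).obj L ≅ Coh.structureModule (f ⁻¹ᵁ U)) := by
  obtain ⟨U, m, hsU, hgen⟩ := exists_gen_nhd f hL hK hW hs hE e
  obtain ⟨φ⟩ := nonempty_iso_structureModule L (f ⁻¹ᵁ U) m fun V hV => hgen.bijective hV
  exact ⟨U, hsU, ⟨((Scheme.Modules.restrictFunctorIsoPullback (f ⁻¹ᵁ U).ι).app L).symm ≪≫ φ⟩⟩

include hL in
/-- The seesaw principle over a reduced base. -/
theorem seesaw [IsReduced S] (hK : ∀ s : S, IsIso (f.fiberToSpecResidueField s).appTop)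
    (htriv : ∀ s : S, Nonempty (CohIII.fiberMod f L s ≅ Coh.structureModule (f.fiber s))) :
    PicF.IsInvertible ((Scheme.Modules.pushforward f).obj L) ∧
      IsIso ((Scheme.Modules.pullbackPushforwardAdjunction f).counit.app L) := by
  haveI : L.IsQuasicoherent := H28Mero.isQCoh_of_isInvertible hL
  haveI : (Coh.structureModule X).IsQuasicoherent := isQuasicoherent_unit
  have hfp : CohB1.IsFP L := H8Props.FinLocFree.isFP_of_isFinLocFree L (H28Pinch.isFinLocFree_of_isInvertible hL)
  have hfl : FlatMod.IsFlatOver f L :=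
    H10Coh.SheafHom.isFlatOver_of_isFinLocFree f L (H28Pinch.isFinLocFree_of_isInvertible hL)
  have hconst : IsLocallyConstant (CohIII.fiberRank f L 0) := by
    rw [show CohIII.fiberRank f L 0 = CohIII.fiberRank f (Coh.structureModule X) 0 from funext fun s =>
      fiberRank_zero_congr f s ((htriv s).some ≪≫ (PicLoc.pullbackStructureIso (f.fiberι s)).symm)]
    exact isLocallyConstant_fiberRank_of_epiOn f _ H06EGA9.isFP_structureModule (isFlatOver_structure f)
      (exists_epiOn_of_fibres f hK)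
  have hf : ∀ U : S.Opens, Function.Bijective (f.app U) := fun U =>
    haveI := isIso_app_of_fibres f hK U
    ConcreteCategory.bijective_of_isIso (f.app U)
  obtain ⟨N, hN, ⟨φ⟩⟩ := H28Pinch.exists_invertible_of_locally_trivial f hf L fun s => by
    obtain ⟨W, hW, hs, -⟩ := exists_isAffineOpen_mem_and_subset (U := (⊤ : S.Opens)) (x := s) trivial
    exact exists_trivial_nhd f hL hK hW hs (exact_of_rank_const f L hfp hfl hW 0 hconst).1 (htriv s).some
  let adj := Scheme.Modules.pullbackPushforwardAdjunction f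
  haveI : IsIso (adj.unit.app N) :=
    H28Pinch.isIso_unit_of_isFinLocFree f hf N (H28Pinch.isFinLocFree_of_isInvertible hN)
  refine ⟨isInvertible_of_iso (asIso (adj.unit.app N) ≪≫ (Scheme.Modules.pushforward f).mapIso φ.symm) hN, ?_⟩
  haveI : IsIso (adj.counit.app ((Scheme.Modules.pullback f).obj N)) := by
    haveI : IsIso ((Scheme.Modules.pullback f).map (adj.unit.app N) ≫
        adj.counit.app ((Scheme.Modules.pullback f).obj N)) := by
      rw [adj.left_triangle_components N]
      infer_instance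
    exact IsIso.of_isIso_comp_left ((Scheme.Modules.pullback f).map (adj.unit.app N)) _
  exact (NatTrans.isIso_app_iff_of_iso adj.counit φ).2 inferInstance

/-- Invertible modules on the spectrum of a field are trivial. -/
theorem nonempty_iso_of_field {K : Type u} [Field K] {N : (Spec (CommRingCat.of K)).Modules}
    (hN : PicF.IsInvertible N) : Nonempty (N ≅ Coh.structureModule (Spec (CommRingCat.of K))) := by
  obtain ⟨φ⟩ := H23Para.nonempty_iso_structureModule hN (𝟙 (Spec (CommRingCat.of K)))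
  exact ⟨(Scheme.Modules.restrictFunctorId.app N).symm ≪≫ φ⟩

/-- A pullback from the base is trivial on every fibre. -/
theorem trivial_on_fibre {X S : Scheme.{u}} (f : X ⟶ S) {M : S.Modules} (hM : PicF.IsInvertible M) (s : S) :
    Nonempty (CohIII.fiberMod f ((Scheme.Modules.pullback f).obj M) s ≅ Coh.structureModule (f.fiber s)) := by
  obtain ⟨φ⟩ := nonempty_iso_of_field (H11Ample.isInvertible_pullback (S.fromSpecResidueField s) hM)
  let ψ : (Scheme.Modules.pullback (S.fromSpecResidueField s)).obj M ≅ Coh.structureModule _ :=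
    φ
  exact ⟨(Scheme.Modules.pullbackComp (f.fiberι s) f).app M ≪≫
    (Scheme.Modules.pullbackCongr (IsPullback.of_hasPullback f (S.fromSpecResidueField s)).w).app M ≪≫
    ((Scheme.Modules.pullbackComp (f.fiberToSpecResidueField s) (S.fromSpecResidueField s)).app M).symm ≪≫
    (Scheme.Modules.pullback (f.fiberToSpecResidueField s)).mapIso ψ ≪≫ PicLoc.pullbackStructureIso _⟩

end fibres

end Groth.Agent.H12Pic
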