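import Groth.Agent.LeadBC.Corep
import Groth.Agent.LeadBC.GenBC.ModelBC
import Groth.Agent.H06FlatCx.BaseChange
import Groth.Agent.H29Fitt.Rank
import Mathlib.LinearAlgebra.TensorProduct.Tower

/-!
# Right exactness of the top homology after base change, through the corepresenting module
-/

set_option autoImplicit false
set_option linter.style.haveILetI false
set_option linter.unusedSectionVars false

noncomputable section

universe u

open CategoryTheory CategoryTheory.Limits
open scoped TensorProduct

namespace Groth.Agent.H12Pic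

open Groth.Agent.LeadBC Groth.Agent.H06FlatCx Groth.Agent.LeadBC.GenBC

variable {A : Type u} [CommRing A]

theorem cancelE_lTensor {B : Type u} [CommRing B] [Algebra A B] {M M' : Type u} [AddCommGroup M] [Module B M]
    [Module A M] [IsScalarTower A B M] [AddCommGroup M'] [Module B M'] [Module A M'] [IsScalarTower A B M']
    (φ : M →ₗ[B] M') (X : Type u) [AddCommGroup X] [Module A X] (z : (B ⊗[A] X) ⊗[B] M) :
    cancelE (A := B) M' X (φ.lTensor (B ⊗[A] X) z) = (φ.restrictScalars A).lTensor X (cancelE (A := B) M X z) := by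
  induction z using TensorProduct.induction_on with
  | zero => simp
  | add a b ha hb => simp only [map_add, ha, hb]
  | tmul y m =>
    induction y using TensorProduct.induction_on with
    | zero => simp [cancelE]
    | tmul a x => simp [cancelE]
    | add a b ha hb => simp only [TensorProduct.add_tmul, map_add, ha, hb]

section corep

variable (P : ChainComplex (ModuleCat.{u} A) ℤ) {N : ℤ}
  (hP : ∀ i, Module.Finite A (P.X i) ∧ Module.Free A (P.X i))
  (hvan : ∀ M : ModuleCat.{u} A, Subsingleton ((CohIII.TFun P (N + 1)).obj M))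

theorem topG_lTensor {M M' : Type u} [AddCommGroup M] [Module A M] [AddCommGroup M'] [Module A M']
    (g : M →ₗ[A] M') (w : LinearMap.ker ((P.d N (N - 1)).hom.rTensor M)) (r : topR P N) :
    topG (ModuleCat.of A M') ⟨g.lTensor (P.X N) w.1, by
      rw [LinearMap.mem_ker, ← lTensor_rTensor_apply, LinearMap.mem_ker.1 w.2, map_zero]⟩ r =
        g (topG (ModuleCat.of A M) w r) := by
  obtain ⟨φ, rfl⟩ := Submodule.Quotient.mk_surjective _ r
  rw [topG_mk, topG_mk]
  have h := αQ_natural (LinearMap.id : topQ P N →ₗ[A] topQ P N) g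
    ((Submodule.mkQ (LinearMap.range (P.d (N + 1) N).hom)).rTensor M w.1)
  have hz : ∀ z : P.X N ⊗[A] M, (Submodule.mkQ (LinearMap.range (P.d (N + 1) N).hom)).rTensor M'
      (g.lTensor (P.X N) z) = TensorProduct.map LinearMap.id g
        ((Submodule.mkQ (LinearMap.range (P.d (N + 1) N).hom)).rTensor M z) := fun z => by
    induction z using TensorProduct.induction_on with
    | zero => simp
    | add a b ha hb => simp only [map_add, ha, hb]
    | tmul a b => simp
  show αQ (topQ P N) M' ((Submodule.mkQ _).rTensor M' (g.lTensor (P.X N) w.1)) φ = _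
  rw [hz, h]
  rfl

include hP hvan in
/-- The base changed top homology is right exact as soon as maps out of the corepresenting module lift. -/
theorem preservesEpi_bc {B : Type u} [CommRing B] (ρ : A →+* B)
    (hlift : letI := ρ.toAlgebra; ∀ (M M' : Type u) [AddCommGroup M] [Module A M] [Module B M] [IsScalarTower A B M]
      [AddCommGroup M'] [Module A M'] [Module B M'] [IsScalarTower A B M'] (φ : M →ₗ[B] M'),
      Function.Surjective φ → ∀ h : topR P N →ₗ[A] M', ∃ h' : topR P N →ₗ[A] M, (φ.restrictScalars A) ∘ₗ h' = h) :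
    (CohIII.TFun (CohIII.bcCx ρ P) N).PreservesEpimorphisms := by
  letI := ρ.toAlgebra
  refine (preservesEpi_iff_epiLift (CohIII.bcCx ρ P) (down_prev N) (down_next N)).2 ?_
  intro M M' _ _ _ _ φ hφ z hz
  letI : Module A M := Module.compHom M ρ
  letI : Module A M' := Module.compHom M' ρ
  haveI : IsScalarTower A B M := .of_algebraMap_smul fun _ _ => rfl
  haveI : IsScalarTower A B M' := .of_algebraMap_smul fun _ _ => rfl
  suffices h : ∃ w : P.X N ⊗[A] M, (P.d N (N - 1)).hom.rTensor M w = 0 ∧
      (φ.restrictScalars A).lTensor (P.X N) w = cancelE (A := B) M' (P.X N) z by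
    obtain ⟨w, hw, hwz⟩ := h
    refine ⟨(cancelE (A := B) M (P.X N)).symm w, ?_, ?_⟩
    · refine (ker_iff (A := B) M (P.d N (N - 1)).hom _).2 ?_
      rw [AddEquiv.apply_symm_apply]
      exact hw
    · refine (cancelE (A := B) M' (P.X N)).injective ((cancelE_lTensor φ (P.X N) _).trans ?_)
      rw [AddEquiv.apply_symm_apply]
      exact hwz
  have hz0 : (P.d N (N - 1)).hom.rTensor M' (cancelE (A := B) M' (P.X N) z) = 0 :=
    (ker_iff (A := B) M' (P.d N (N - 1)).hom z).1 hz
  obtain ⟨h', hh'⟩ := hlift M M' φ hφ (topG (ModuleCat.of A M') ⟨_, hz0⟩)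
  obtain ⟨w, hw⟩ := (topG_spec hP hvan (ModuleCat.of A M)).1 h'
  let g := φ.restrictScalars A
  have hwker : (P.d N (N - 1)).hom.rTensor M' (g.lTensor (P.X N) w.1) = 0 := by
    rw [← lTensor_rTensor_apply, LinearMap.mem_ker.1 w.2, map_zero]
  have hdiff : (⟨_, hz0⟩ : LinearMap.ker ((P.d N (N - 1)).hom.rTensor M')) - ⟨_, hwker⟩ ∈
      LinearMap.ker (topG (P := P) (N := N) (ModuleCat.of A M')) := by
    rw [LinearMap.mem_ker, map_sub, sub_eq_zero]
    exact LinearMap.ext fun r => ((LinearMap.congr_fun hh' r).symm.trans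
      (congrArg (fun t : topR P N →ₗ[A] M => g (t r)) hw.symm)).trans (topG_lTensor P g w r).symm
  rw [(topG_spec hP hvan (ModuleCat.of A M')).2, LinearMap.mem_ker,
    tcls_eq_zero_iff P (down_prev N) (down_next N)] at hdiff
  obtain ⟨b, hb⟩ := hdiff
  obtain ⟨b', hb'⟩ := LinearMap.lTensor_surjective (P.X (N + 1)) (g := g) hφ b
  refine ⟨w.1 + (P.d (N + 1) N).hom.rTensor M b', ?_, ?_⟩
  · rw [map_add, LinearMap.mem_ker.1 w.2, rTensor_comp_zero (d_comp_d P _ _ _), add_zero]
  · rw [map_add, lTensor_rTensor_apply, hb']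
    exact (congrArg (g.lTensor (P.X N) w.1 + ·) hb).trans (add_sub_cancel _ _)

end corep

variable {Q : Type u} [AddCommGroup Q] [Module A Q]

/-- Locally cyclic with annihilator killed: maps lift along surjections. -/
theorem exists_lift_of_cyclic {B : Type u} [CommRing B] [Algebra A B] (q : Q) (s : A)
    (hu : IsUnit (algebraMap A B s)) (hq : ∀ y : Q, ∃ c : A, s • y = c • q)
    (hann : ∀ a ∈ Module.annihilator A Q, algebraMap A B a = 0)
    (M M' : Type u) [AddCommGroup M] [Module A M] [Module B M] [IsScalarTower A B M]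
    [AddCommGroup M'] [Module A M'] [Module B M'] [IsScalarTower A B M'] (φ : M →ₗ[B] M')
    (hφ : Function.Surjective φ) (h : Q →ₗ[A] M') :
    ∃ h' : Q →ₗ[A] M, (φ.restrictScalars A) ∘ₗ h' = h := by
  choose c hc using hq
  obtain ⟨v, hv⟩ := hu
  have hwd : ∀ a b : A, a • q = b • q → algebraMap A B a = algebraMap A B b := fun a b hab => by
    have h1 : (a - b) * s ∈ Module.annihilator A Q := Module.mem_annihilator.2 fun y => by
      rw [mul_smul, hc, smul_smul, mul_comm, mul_smul, sub_smul, hab, sub_self, smul_zero]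
    have h2 := hann _ h1
    rw [map_mul, ← hv, Units.mul_left_eq_zero, map_sub, sub_eq_zero] at h2
    exact h2
  let γ : Q →ₗ[A] B :=
    { toFun := fun y => algebraMap A B (c y) * ↑v⁻¹
      map_add' := fun y z => by
        rw [← add_mul, ← map_add, hwd (c (y + z)) (c y + c z) (by rw [add_smul, ← hc, ← hc, ← hc, smul_add])]
      map_smul' := fun a y => by
        rw [RingHom.id_apply, Algebra.smul_def, ← mul_assoc, ← map_mul,
          hwd (c (a • y)) (a * c y) (by rw [mul_smul, ← hc, ← hc, smul_comm])] }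
  obtain ⟨m, hm⟩ := hφ (h q)
  refine ⟨(LinearMap.toSpanSingleton B M m).restrictScalars A ∘ₗ γ, LinearMap.ext fun y => ?_⟩
  show φ (γ y • m) = h y
  rw [map_smul, hm]
  show (algebraMap A B (c y) * ↑v⁻¹) • h q = h y
  rw [mul_comm, mul_smul, algebraMap_smul, ← map_smul, ← hc, map_smul, ← algebraMap_smul B s (h y), ← mul_smul,
    ← hv, Units.inv_mul, one_smul]

/-- Small fibre dimension: cyclic near the point. -/
theorem exists_cyclic_nhd [Module.Finite A Q] {K : Type u} [Field K] [Algebra A K]
    (h : Module.finrank K (K ⊗[A] Q) ≤ 1) :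
    ∃ (q : Q) (s : A), algebraMap A K s ≠ 0 ∧ ∀ y : Q, ∃ c : A, s • y = c • q := by
  classical
  haveI : (RingHom.ker (algebraMap A K)).IsPrime := RingHom.ker_isPrime _
  have hle : ¬ Fitt.ideal A Q 1 ≤ RingHom.ker (algebraMap A K) := by
    rw [← Ideal.map_eq_bot_iff_le_ker, ← H29Fitt.ideal_baseChange 1, H29Fitt.ideal_field, if_pos h]
    exact top_ne_bot
  obtain ⟨a, ha, m, hm⟩ := H29Fitt.exists_spansUpTo_powers hle
  have hspan : ∀ y : Q, ∃ n : ℕ, a ^ n • y ∈ (A ∙ m 0 : Submodule A Q) := fun y => by
    obtain ⟨_, ⟨n, rfl⟩, hy⟩ := hm y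
    have hr : Set.range m = {m 0} := by
      ext x
      simp [Fin.exists_fin_one, eq_comm]
    rw [hr] at hy
    exact ⟨n, hy⟩
  choose n hn using hspan
  obtain ⟨T, hT⟩ := (Module.Finite.fg_top : (⊤ : Submodule A Q).FG)
  refine ⟨m 0, a ^ T.sup n, ?_, fun y => ?_⟩
  · rw [map_pow]
    exact pow_ne_zero _ fun h0 => ha h0
  · have hy : y ∈ Submodule.span A (T : Set Q) := hT ▸ Submodule.mem_top
    suffices a ^ T.sup n • y ∈ (A ∙ m 0 : Submodule A Q) by
      obtain ⟨c, hc⟩ := Submodule.mem_span_singleton.1 this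
      exact ⟨c, hc.symm⟩
    induction hy using Submodule.span_induction with
    | mem x hx =>
      have hle' : n x ≤ T.sup n := Finset.le_sup hx
      rw [← Nat.sub_add_cancel hle', pow_add, mul_smul]
      exact Submodule.smul_mem _ _ (hn x)
    | zero => simp
    | add x y _ _ hx hy => rw [smul_add]; exact add_mem hx hy
    | smul r x _ hx => rw [smul_comm]; exact Submodule.smul_mem _ _ hx

/-- Where a finitely presented module is cyclic its annihilator is finitely generated. -/
theorem exists_fg_annihilator [Module.FinitePresentation A Q] (q : Q) (a : A)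
    (hq : ∀ y : Q, ∃ c : A, a • y = c • q) :
    ∃ J : Ideal A, J.FG ∧ J ≤ Module.annihilator A Q ∧ ∀ c ∈ Module.annihilator A Q, a ^ 2 * c ∈ J := by
  classical
  obtain ⟨n, π, hπ, hker⟩ : ∃ (n : ℕ) (π : (Fin n → A) →ₗ[A] Q), Function.Surjective π ∧ (LinearMap.ker π).FG := by
    obtain ⟨n, π, hπ⟩ := Module.Finite.exists_fin' A Q
    exact ⟨n, π, hπ, Module.FinitePresentation.fg_ker π hπ⟩
  choose c hc using fun i => hq (π (Pi.single i 1))
  let φ : (Fin n → A) →ₗ[A] A := ∑ i, c i • LinearMap.proj i
  have hφ : ∀ x, a • π x = φ x • q := fun x => by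
    conv_lhs => rw [← Finset.univ_sum_single x]
    simp only [φ, LinearMap.sum_apply, LinearMap.smul_apply, LinearMap.proj_apply, map_sum, Finset.smul_sum,
      Finset.sum_smul]
    refine Finset.sum_congr rfl fun i _ => ?_
    rw [show (Pi.single i (x i) : Fin n → A) = x i • Pi.single i (1 : A) by
      rw [← Pi.single_smul, smul_eq_mul, mul_one], map_smul, smul_comm, hc, smul_smul, smul_eq_mul, mul_comm]
  have hann : ∀ d : A, d • q = 0 → a * d ∈ Module.annihilator A Q := fun d hd => Module.mem_annihilator.2 fun y => by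
    obtain ⟨t, ht⟩ := hq y
    rw [mul_comm, mul_smul, ht, smul_comm, hd, smul_zero]
  obtain ⟨v, hv⟩ := hπ q
  obtain ⟨R, hR⟩ := hker
  let d := φ v - a
  have hd : d • q = 0 := by rw [sub_smul, ← hφ, hv, sub_self]
  refine ⟨Ideal.span (↑(insert (a * d) (R.image fun r => a * φ r))), ⟨_, rfl⟩, ?_, fun t ht => ?_⟩
  · rw [Ideal.span_le, Finset.coe_insert, Finset.coe_image]
    rintro x (rfl | ⟨r, hr, rfl⟩)
    · exact hann d hd
    · refine hann _ ?_
      have h0 : π r = 0 := LinearMap.mem_ker.1 (hR ▸ Submodule.subset_span hr)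
      rw [← hφ, h0, smul_zero]
  · set J := Ideal.span (↑(insert (a * d) (R.image fun r => a * φ r)) : Set A)
    have h1 : t • v ∈ Submodule.span A (R : Set (Fin n → A)) := hR.symm ▸ LinearMap.mem_ker.2 (by
      rw [map_smul, hv, Module.mem_annihilator.1 ht])
    have h2 : ∀ x ∈ Submodule.span A (R : Set (Fin n → A)), a * φ x ∈ J := fun x hx => by
      induction hx using Submodule.span_induction with
      | mem r hr => exact Ideal.subset_span (Finset.mem_coe.2 (Finset.mem_insert_of_mem (Finset.mem_image_of_mem _ hr)))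
      | zero => rw [map_zero, mul_zero]; exact zero_mem _
      | add x y _ _ hx hy => rw [map_add, mul_add]; exact add_mem hx hy
      | smul r x _ hx => rw [map_smul, smul_eq_mul, mul_left_comm]; exact Ideal.mul_mem_left _ _ hx
    have h3 : a ^ 2 * t = a * φ (t • v) - t * (a * d) := by
      rw [map_smul, smul_eq_mul]
      ring
    rw [h3]
    exact sub_mem (h2 _ h1) (Ideal.mul_mem_left _ _ (Ideal.subset_span (Finset.mem_coe.2 (Finset.mem_insert_self _ _))))

/-- Fibres at primes containing the annihilator are non zero. -/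
theorem finrank_fibre_pos [Module.Finite A Q] {K : Type u} [Field K] [Algebra A K]
    (h : Module.annihilator A Q ≤ RingHom.ker (algebraMap A K)) : 0 < Module.finrank K (K ⊗[A] Q) := by
  by_contra hn
  have h1 := (Ideal.map_eq_bot_iff_le_ker (algebraMap A K)).2 ((H29Fitt.ideal_zero_le_annihilator (R := A) (M := Q)).trans h)
  rw [← H29Fitt.ideal_baseChange 0, H29Fitt.ideal_field, if_pos (by omega)] at h1
  exact top_ne_bot h1

theorem finrank_hom [Module.Finite A Q] {K : Type u} [Field K] [Algebra A K] :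
    Module.finrank K (Q →ₗ[A] K) = Module.finrank K (K ⊗[A] Q) := by
  rw [(LinearMap.liftBaseChangeEquiv K).finrank_eq]
  exact Subspace.dual_finrank_eq

end Groth.Agent.H12Pic
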