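import Groth.Agent.H12Pic.RigDescent
import Groth.Agent.H12Pic.InvDesc.DisjointUnion

/-!
# Rigidified classes are the points of a representing scheme
-/

set_option autoImplicit false
set_option linter.style.haveILetI false
set_option linter.unusedSectionVars false

noncomputable section

universe u

open CategoryTheory CategoryTheory.Limits AlgebraicGeometry TopologicalSpace Opposite

namespace Groth.Agent.H12Pic.RigPoints

open Groth.Agent.H17.PullCl

variable {X S : Scheme.{u}} (f : X ⟶ S)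

/-- A member through each point of an fppf covering. -/
theorem exists_member {T : Scheme.{u}} {R : Presieve T} (hR : R ∈ Scheme.fppfPrecoverage T) :
    ∃ (U : T → Scheme.{u}) (v : ∀ t, U t ⟶ T), (∀ t, R (v t)) ∧ (∀ t, t ∈ Set.range (v t)) ∧
      Flat (Sigma.desc v) ∧ LocallyOfFinitePresentation (Sigma.desc v) ∧ Surjective (Sigma.desc v) := by
  have h : ∀ t : T, ∃ (U : Scheme.{u}) (v : U ⟶ T), R v ∧ t ∈ Set.range v := fun t => by
    obtain ⟨U, v, hv, z, hz⟩ := (Presieve.mem_comap_jointlySurjectivePrecoverage_iff _).1 hR.1 t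
    exact ⟨U, v, hv, z, hz⟩
  choose U v hv hz using h
  haveI : ∀ t, Flat (v t) := fun t => (hR.2 (hv t)).1
  haveI : ∀ t, LocallyOfFinitePresentation (v t) := fun t => (hR.2 (hv t)).2
  refine ⟨U, v, hv, hz, IsZariskiLocalAtSource.sigmaDesc fun t => inferInstance,
    IsZariskiLocalAtSource.sigmaDesc fun t => inferInstance, ⟨fun t => ?_⟩⟩
  obtain ⟨z, hz'⟩ := hz t
  exact ⟨Sigma.ι U t z, by rw [← Scheme.Hom.comp_apply, Sigma.ι_desc, hz']⟩

/-- Two classes equal on each member are equal on the disjoint union. -/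
theorem pullCl_eq_sigma (T : Over S) {κ : Type u} {U : κ → Scheme.{u}} (v : ∀ k, U k ⟶ T.left)
    {c d : PicF.Cl (PicF.XT f T)} (hc : PicF.IsInvertibleCl c) (hd : PicF.IsInvertibleCl d)
    (h : ∀ k, PicF.pullCl (PicF.XTmap f (AbDual.ovrHom T (v k))) c =
      PicF.pullCl (PicF.XTmap f (AbDual.ovrHom T (v k))) d) :
    PicF.pullCl (PicF.XTmap f (AbDual.ovrHom T (Sigma.desc v))) c =
      PicF.pullCl (PicF.XTmap f (AbDual.ovrHom T (Sigma.desc v))) d := by
  obtain ⟨L₁, rfl, h₁⟩ := hc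
  obtain ⟨L₂, rfl, h₂⟩ := hd
  obtain ⟨M, hM, ⟨e⟩⟩ := H11Sym.exists_inverse h₂
  exact (Sep.pullCl_eq_iff f T _ L₁ L₂).2 ((Sep.tensor_trivial_iff _ h₁ h₂ hM e).1
    (InvDesc.nonempty_iso_sigma (pullback.snd f T.hom) v _ fun k =>
      (Sep.tensor_trivial_iff _ h₁ h₂ hM e).2 ((Sep.pullCl_eq_iff f T (v k) L₁ L₂).1 (h k))))

variable {σ : S ⟶ X} (hσ : σ ≫ f = 𝟙 S)

theorem secT_XTmap {T T' : Over S} (h : T' ⟶ T) :
    PicF.secT f σ hσ T' ≫ PicF.XTmap f h = h.left ≫ PicF.secT f σ hσ T := by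
  unfold PicF.secT
  apply pullback.hom_ext
  · rw [Category.assoc, XTmap_fst, pullback.lift_fst]
    exact ((Category.assoc _ _ _).symm.trans (congrArg (· ≫ σ) (Over.w h))).symm.trans
      ((congrArg (h.left ≫ ·) (pullback.lift_fst _ _ _).symm).trans (Category.assoc _ _ _).symm)
  · rw [Category.assoc, XTmap_snd, pullback.lift_snd_assoc, Category.assoc, pullback.lift_snd]
    exact (Category.id_comp _).trans (Category.comp_id _).symm

/-- The pullback of a rigidified class. -/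
def rigPull {T T' : Over S} (h : T' ⟶ T) (c : PicF.Rig f σ hσ T) : PicF.Rig f σ hσ T' :=
  ⟨PicF.pullCl (PicF.XTmap f h) c.1, isInvertibleCl_pullCl _ c.2.1, by
    unfold PicF.IsTrivialCl
    rw [← pullCl_comp, secT_XTmap, pullCl_comp, c.2.2]
    exact Quot.sound ⟨PicLoc.pullbackStructureIso _⟩⟩

variable (P : Over S) {φ : ∀ T : Over S, PicF.Cl (PicF.XT f T) → (T ⟶ P)}
  (hP : AbDual.IsRelPicK Scheme.fppfPrecoverage f P φ)

include hP in
/-- Every class has the same point as a rigidified one. -/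
theorem exists_rig_same_point (T : Over S) {c : PicF.Cl (PicF.XT f T)} (hc : PicF.IsInvertibleCl c) :
    ∃ c' : PicF.Rig f σ hσ T, φ T c'.1 = φ T c := by
  obtain ⟨L, rfl, hL⟩ := hc
  obtain ⟨L', hL', ⟨r⟩, hq⟩ := RigDescent.exists_rigidified (pullback.snd f T.hom) (PicF.secT f σ hσ T)
    (RigDescent.secT_snd f hσ T) hL
  refine ⟨⟨PicF.cl L', ⟨L', rfl, hL'⟩, Quot.sound ⟨r⟩⟩, Over.OverMorphism.ext ?_⟩
  obtain ⟨N, hN⟩ : ∃ N : T.left.Modules, N = (Scheme.Modules.pullback (PicF.secT f σ hσ T)).obj L := ⟨_, rfl⟩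
  have hNinv : PicF.IsInvertible N := hN ▸ H11Ample.isInvertible_pullback _ hL
  choose V hV ν using hNinv
  refine (Scheme.openCoverOfIsOpenCover T.left V ?_).hom_ext _ _ fun x => ?_
  · exact IsOpenCover.mk (top_le_iff.1 fun x _ => Opens.mem_iSup.2 ⟨x, hV x⟩)
  change (V x).ι ≫ _ = (V x).ι ≫ _
  let h := AbDual.ovrHom T (V x).ι
  have key : PicF.pullCl (PicF.XTmap f h) (PicF.cl L') = PicF.pullCl (PicF.XTmap f h) (PicF.cl L) := by
    refine Quot.sound (hq (PicF.XTmap f h) ⟨?_⟩)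
    exact (Scheme.Modules.pullbackCongr (XTmap_snd (f := f) h)).app _ ≪≫
      ((Scheme.Modules.pullbackComp _ _).app _).symm ≪≫
      (Scheme.Modules.pullback _).mapIso (((Scheme.Modules.restrictFunctorIsoPullback (V x).ι).app _).symm ≪≫
        (Scheme.Modules.restrictFunctor (V x).ι).mapIso (eqToIso hN.symm) ≪≫ (ν x).some) ≪≫
      PicLoc.pullbackStructureIso _
  exact congrArg CommaMorphism.left ((hP.natural _ _ h _ ⟨L', rfl, hL'⟩).symm.trans
    ((congrArg (φ _) key).trans (hP.natural _ _ h _ ⟨L, rfl, hL⟩)))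

variable (ha : ∀ (T : Over S) (U : T.left.Opens), IsIso ((PicF.XTproj f T).app U))

include hP ha in
/-- Rigidified classes with the same point are equal. -/
theorem point_injective (T : Over S) (c d : PicF.Rig f σ hσ T) (h : φ T c.1 = φ T d.1) : c = d := by
  obtain ⟨R, hR, hR'⟩ := hP.locallyInjective T c.1 d.1 c.2.1 d.2.1 h
  obtain ⟨U, v, hv, -, hf, hp, hs⟩ := exists_member hR
  exact RigDescent.eq_of_cover f hσ ha T (Sigma.desc v) c d
    (pullCl_eq_sigma f T v c.2.1 d.2.1 fun k => hR' (v k) (hv k))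

include hP in
/-- Rigidified classes on the pieces of a disjoint union assemble. -/
theorem exists_rig_sigma (T : Over S) {κ : Type u} {U : κ → Scheme.{u}} (v : ∀ k, U k ⟶ T.left) (g : T ⟶ P)
    (c : ∀ k, PicF.Rig f σ hσ (AbDual.ovr T (v k))) (hc : ∀ k, φ _ (c k).1 = AbDual.ovrHom T (v k) ≫ g) :
    ∃ c' : PicF.Rig f σ hσ (AbDual.ovr T (Sigma.desc v)), φ _ c'.1 = AbDual.ovrHom T (Sigma.desc v) ≫ g := by
  let A := AbDual.ovr T (Sigma.desc v)
  let j : ∀ k, AbDual.ovr T (v k) ⟶ A := fun k => Over.homMk (Sigma.ι U k) (Sigma.ι_desc_assoc v k T.hom)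
  have hj : ∀ k, j k ≫ AbDual.ovrHom T (Sigma.desc v) = AbDual.ovrHom T (v k) :=
    fun k => Over.OverMorphism.ext (Sigma.ι_desc v k)
  let π : PicF.XT f A ⟶ ∐ U := pullback.snd f A.hom
  let O : κ → (PicF.XT f A).Opens := fun k => π ⁻¹ᵁ (Sigma.ι U k).opensRange
  let l : ∀ k, (O k).toScheme ⟶ U k := fun k => IsOpenImmersion.lift (Sigma.ι U k) ((O k).ι ≫ π) (by
    rintro _ ⟨x, rfl⟩
    exact x.2)
  let b : ∀ k, (O k).toScheme ⟶ PicF.XT f (AbDual.ovr T (v k)) := fun k =>
    pullback.lift ((O k).ι ≫ pullback.fst f A.hom) (l k) (by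
      refine (Category.assoc _ _ _).trans ((congrArg ((O k).ι ≫ ·) pullback.condition).trans ?_)
      refine ((Category.assoc _ _ _).symm.trans (congrArg (· ≫ A.hom) ?_)).trans
        ((Category.assoc _ _ _).trans (congrArg (l k ≫ ·) (Over.w (j k))))
      exact (IsOpenImmersion.lift_fac _ _ _).symm)
  let m : ∀ k, PicF.XT f (AbDual.ovr T (v k)) ⟶ (O k).toScheme := fun k =>
    IsOpenImmersion.lift (O k).ι (PicF.XTmap f (j k)) (by
      rintro _ ⟨x, rfl⟩
      rw [Scheme.Opens.range_ι]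
      change (PicF.XTmap f (j k) ≫ π) x ∈ (Sigma.ι U k).opensRange
      rw [XTmap_snd]
      exact ⟨_, rfl⟩)
  have hmb : ∀ k, m k ≫ b k = 𝟙 _ := fun k => by
    apply pullback.hom_ext
    · rw [Category.assoc, pullback.lift_fst, ← Category.assoc, IsOpenImmersion.lift_fac, XTmap_fst, Category.id_comp]
    · rw [Category.assoc, pullback.lift_snd, Category.id_comp, ← cancel_mono (Sigma.ι U k), Category.assoc,
        IsOpenImmersion.lift_fac, ← Category.assoc, IsOpenImmersion.lift_fac, XTmap_snd]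
      rfl
  choose L hLc hL using fun k => (c k).2.1
  obtain ⟨M, hM, θ⟩ := InvDesc.Eff.exists_line_of_disjoint O
    (fun x => (sigmaOpenCover U).exists_eq (π x))
    (fun k k' hkk' => by
      change π ⁻¹ᵁ _ ⊓ π ⁻¹ᵁ _ = ⊥
      rw [← Scheme.Hom.preimage_inf, (disjoint_opensRange_sigmaι U k k' hkk').eq_bot]
      rfl)
    (fun k => (Scheme.Modules.pullback (b k)).obj (L k)) (fun k => H11Ample.isInvertible_pullback _ (hL k))
  have hres : ∀ k, PicF.pullCl (PicF.XTmap f (j k)) (PicF.cl M) = (c k).1 := fun k => by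
    have h1 : PicF.pullCl (O k).ι (PicF.cl M) = PicF.pullCl (b k) (PicF.cl (L k)) := Quot.sound (θ k)
    rw [show PicF.XTmap f (j k) = m k ≫ (O k).ι from (IsOpenImmersion.lift_fac _ _ _).symm, pullCl_comp, h1,
      ← pullCl_comp, hmb, pullCl_id, hLc]
  have htriv : Nonempty ((Scheme.Modules.pullback (PicF.secT f σ hσ A)).obj M ≅ Coh.structureModule (∐ U)) := by
    have hg : ∀ k, ∃ e : Γ((Scheme.Modules.pullback (PicF.secT f σ hσ A)).obj M,
        (Sigma.ι U k).opensRange.ι ''ᵁ ⊤), H11Tilde.IsGen _ e := fun k => by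
      have h2 : PicF.pullCl (Sigma.ι U k) (PicF.pullCl (PicF.secT f σ hσ A) (PicF.cl M)) =
          PicF.cl (Coh.structureModule (U k)) := by
        rw [← pullCl_comp, ← show PicF.secT f σ hσ _ ≫ PicF.XTmap f (j k) = Sigma.ι U k ≫ PicF.secT f σ hσ A from
          secT_XTmap f hσ (j k), pullCl_comp, hres k]
        exact (c k).2.2
      have h3 := congrArg (PicF.pullCl (Sigma.ι U k).isoOpensRange.inv) h2
      rw [← pullCl_comp, show (Sigma.ι U k).isoOpensRange.inv ≫ Sigma.ι U k = (Sigma.ι U k).opensRange.ι from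
        (Sigma.ι U k).isoOpensRange_inv_comp] at h3
      exact InvDesc.exists_gen_of_restrict_iso ((Scheme.Modules.restrictFunctorIsoPullback _).app _ ≪≫
        (Sep.iso_of_cl_eq h3).some ≪≫ PicLoc.pullbackStructureIso _)
    choose e he using hg
    refine InvDesc.nonempty_iso_of_disjoint_gens (fun k => (Sigma.ι U k).opensRange.ι ''ᵁ ⊤) (fun x => ?_)
      (fun k k' hkk' => ?_) e he
    · obtain ⟨k, hk⟩ := (sigmaOpenCover U).exists_eq x
      exact ⟨k, ⟨x, hk⟩, trivial, rfl⟩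
    · rw [Scheme.Opens.ι_image_top, Scheme.Opens.ι_image_top]
      exact (disjoint_opensRange_sigmaι U k k' hkk').eq_bot
  refine ⟨⟨PicF.cl M, ⟨M, rfl, hM⟩, Quot.sound htriv⟩, Over.OverMorphism.ext (Sigma.hom_ext _ _ fun k => ?_)⟩
  have h4 := (hP.natural _ _ (j k) _ ⟨M, rfl, hM⟩).symm.trans ((congrArg (φ _) (hres k)).trans (hc k))
  rw [← hj k, Category.assoc] at h4
  exact congrArg CommaMorphism.left h4

include hP ha in
/-- Every point comes from a rigidified class. -/
theorem point_surjective (T : Over S) (g : T ⟶ P) : ∃ c : PicF.Rig f σ hσ T, φ T c.1 = g := by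
  obtain ⟨R, hR, hR'⟩ := hP.locallySurjective T g
  obtain ⟨U, v, hv, -, hf, hp, hs⟩ := exists_member hR
  choose c₀ hc₀ hφ₀ using fun k => hR' (v k) (hv k)
  choose c₁ hc₁ using fun k => exists_rig_same_point f hσ P hP _ (hc₀ k)
  let u := Sigma.desc v
  obtain ⟨c', hc'⟩ := exists_rig_sigma f hσ P hP T v g c₁ fun k => (hc₁ k).trans (hφ₀ k)
  obtain ⟨c, hc⟩ := RigDescent.exists_descended f hσ ha T u c' (by
    refine congrArg Subtype.val (point_injective f hσ P hP ha _ (rigPull f hσ _ c') (rigPull f hσ _ c') ?_)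
    change φ _ (PicF.pullCl _ c'.1) = φ _ (PicF.pullCl _ c'.1)
    rw [hP.natural _ _ _ _ c'.2.1, hP.natural _ _ _ _ c'.2.1, hc', ← Category.assoc, ← Category.assoc]
    exact congrArg (· ≫ g) (Over.OverMorphism.ext pullback.condition))
  refine ⟨c, Over.OverMorphism.ext ?_⟩
  haveI : Epi u := Flat.epi_of_flat_of_surjective u
  exact (cancel_epi u).1 (congrArg CommaMorphism.left
    ((hP.natural _ _ (AbDual.ovrHom T u) _ c.2.1).symm.trans ((congrArg (φ _) hc).trans hc')))

end Groth.Agent.H12Pic.RigPoints
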