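import Groth.Agent.H3CAlg.Traverso
import Groth.Agent.H18Subint.Local
import Groth.Agent.H11Tilde.AffineInvertible
import Mathlib.RingTheory.Localization.Algebra
import Mathlib.RingTheory.PicardGroup

/-!
# Invertible modules on `A[T]`, `A` seminormal, are free locally on `A`
-/

set_option autoImplicit false
set_option linter.style.haveILetI false

noncomputable section

universe u

open Polynomial TensorProduct

namespace Groth.Agent.H12Pic.AffineLineAlg

/-- An invertible module over `A[T]` is freely generated by one element over `D(a)` for some `a` outside a given prime. -/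
theorem exists_genOn {A R' : Type u} [CommRing A] [CommRing R'] (hA : HTop.IsSeminormalRing A) (e : A[X] ≃+* R')
    (p : Ideal A) [p.IsPrime] (Q : Type u) [AddCommGroup Q] [Module R' Q] [Module.Invertible R' Q] :
    ∃ (a : A) (m : Q), a ∉ p ∧ H11Tilde.GenOn (e (C a)) m := by
  classical
  let Ap := Localization.AtPrime p
  let S' : Submonoid R' := (p.primeCompl.map C).map e.toMonoidHom
  letI : Algebra A[X] Ap[X] := Polynomial.algebra A Ap
  haveI : IsLocalization (p.primeCompl.map C) Ap[X] := Polynomial.isLocalization p.primeCompl Ap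
  letI : Algebra R' Ap[X] := ((algebraMap A[X] Ap[X]).comp e.symm.toRingHom).toAlgebra
  haveI : IsLocalization S' Ap[X] := IsLocalization.isLocalization_of_base_ringEquiv (p.primeCompl.map C) Ap[X] e
  let Ql := LocalizedModule S' Q
  let RS := Localization S'
  haveI : Module.Invertible RS Ql :=
    Module.Invertible.congr (IsLocalizedModule.isBaseChange S' RS (LocalizedModule.mkLinearMap S' Q)).equiv
  have hsn : HTop.IsSeminormalRing Ap := H18Subint.sn_localization p.primeCompl hA
  let ε : RS ≃+* Ap[X] := (IsLocalization.algEquiv S' RS Ap[X]).toRingEquiv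
  haveI : Subsingleton (CommRing.Pic Ap[X]) := CommRing.Pic.subsingleton_iff.2 fun M _ _ _ =>
    H3CAlg.Traverso.free Ap hsn M
  haveI : Subsingleton (CommRing.Pic RS) := ⟨fun x y => by
    have h := congrArg (CommRing.Pic.mapRingHom ε.symm.toRingHom)
      (Subsingleton.elim (CommRing.Pic.mapRingHom ε.toRingHom x) (CommRing.Pic.mapRingHom ε.toRingHom y))
    rwa [CommRing.Pic.mapRingHom_mapRingHom, CommRing.Pic.mapRingHom_mapRingHom,
      show ε.symm.toRingHom.comp ε.toRingHom = RingHom.id _ from ε.symm_comp,
      CommRing.Pic.mapRingHom_id_apply, CommRing.Pic.mapRingHom_id_apply] at h⟩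
  haveI : Module.Free RS Ql := CommRing.Pic.mk_eq_one_iff_free.1 (Subsingleton.elim _ _)
  obtain ⟨θ⟩ := Module.Invertible.free_iff_linearEquiv.1 (inferInstance : Module.Free RS Ql)
  obtain ⟨⟨m, s⟩, hms⟩ := IsLocalizedModule.surj S' (LocalizedModule.mkLinearMap S' Q) (θ.symm 1)
  change (s : R') • θ.symm 1 = LocalizedModule.mkLinearMap S' Q m at hms
  have hs : IsUnit (algebraMap R' RS s) := IsLocalization.map_units RS s
  let θ' : RS ≃ₗ[RS] Ql := (LinearEquiv.smulOfUnit hs.unit).trans θ.symm
  have hθ' : ∀ r : RS, θ' r = r • LocalizedModule.mkLinearMap S' Q m := fun r => by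
    show θ.symm (hs.unit • r) = _
    rw [Units.smul_def, IsUnit.unit_spec, smul_eq_mul, ← hms, ← algebraMap_smul RS (s : R'), smul_smul,
      ← map_smul, smul_eq_mul, mul_one, mul_comm]
  let l : R' →ₗ[R'] Q := LinearMap.toSpanSingleton R' Q m
  let f : R' →ₗ[R'] RS := Algebra.linearMap R' RS
  have hbij : Function.Bijective (IsLocalizedModule.map S' f (LocalizedModule.mkLinearMap S' Q) l) := by
    have hF : IsLocalizedModule.map S' f (LocalizedModule.mkLinearMap S' Q) l = θ'.toLinearMap.restrictScalars R' := by
      refine IsLocalizedModule.ext S' f (IsLocalizedModule.map_units (LocalizedModule.mkLinearMap S' Q))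
        (LinearMap.ext fun c => ?_)
      rw [LinearMap.comp_apply, LinearMap.comp_apply, IsLocalizedModule.map_apply]
      change LocalizedModule.mkLinearMap S' Q (c • m) = θ' (algebraMap R' RS c)
      rw [hθ', map_smul, algebraMap_smul]
    rw [hF]
    exact θ'.bijective
  haveI : Module.FinitePresentation R' Q := Module.finitePresentation_of_projective R' Q
  obtain ⟨b, hb, hb'⟩ := exists_bijective_map_powers S' f (LocalizedModule.mkLinearMap S' Q) l hbij
  obtain ⟨_, ⟨a, ha, rfl⟩, rfl⟩ := hb
  have hb'' := hb' _ dvd_rfl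
  refine ⟨a, m, ha, fun q => ?_, fun c hc => ?_⟩
  · obtain ⟨z, hz⟩ := hb''.2 (LocalizedModule.mk q 1)
    induction z using LocalizedModule.induction_on with
    | h c t =>
      rw [LocalizedModule.map_mk, LocalizedModule.mk_eq] at hz
      obtain ⟨⟨_, i, rfl⟩, hu⟩ := hz
      obtain ⟨_, k, rfl⟩ := t
      simp only [Submonoid.smul_def, one_smul, l, LinearMap.toSpanSingleton_apply, OneMemClass.coe_one,
        smul_smul] at hu
      exact ⟨i + k, e (C a) ^ i * c, by rw [pow_add]; exact hu.symm⟩
  · have h0 : LocalizedModule.map (Submonoid.powers (e.toMonoidHom (C a))) l (LocalizedModule.mk c 1) =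
        LocalizedModule.map (Submonoid.powers (e.toMonoidHom (C a))) l 0 := by
      rw [LocalizedModule.map_mk, map_zero, show l c = 0 from hc, LocalizedModule.zero_mk]
    have h1 := hb''.1 h0
    rw [← LocalizedModule.zero_mk 1, LocalizedModule.mk_eq] at h1
    obtain ⟨⟨_, i, rfl⟩, hu⟩ := h1
    simp only [Submonoid.smul_def, OneMemClass.coe_one, smul_zero, one_smul, smul_eq_mul] at hu
    exact ⟨i, hu⟩

/-- A unit of a polynomial ring over a reduced ring which is `1` at zero is `1`. -/
theorem eq_one_of_isUnit {A : Type u} [CommRing A] [IsReduced A] {v : A[X]} (hv : IsUnit v) (h0 : v.eval 0 = 1) :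
    v = 1 := by
  rw [Polynomial.isUnit_iff_coeff_isUnit_isNilpotent] at hv
  ext i
  rcases eq_or_ne i 0 with rfl | hi
  · rw [coeff_zero_eq_eval_zero, h0, coeff_one_zero]
  · rw [(hv.2 i hi).eq_zero, coeff_one, if_neg hi]

end Groth.Agent.H12Pic.AffineLineAlg
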