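import Groth.Agent.H12Pic.AffineLineAlg
import Groth.Agent.H12Pic.PicCurve.ValExtend
import Groth.Agent.H11Tilde.ProjUP
import Groth.Agent.S7421
import Mathlib.AlgebraicGeometry.AffineSpace

/-!
# Homotopy invariance of the Picard group of a seminormal scheme
-/

set_option autoImplicit false
set_option linter.style.haveILetI false
set_option linter.unusedSectionVars false
set_option maxHeartbeats 800000
set_option backward.isDefEq.respectTransparency.types false

noncomputable section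

universe u

open CategoryTheory CategoryTheory.Limits AlgebraicGeometry TopologicalSpace Opposite

namespace Groth.Agent.H12Pic.AffineLinePic

open Groth.Agent.H11Tilde Groth.Agent.H7Flat
open Groth.Agent.H25Theta (pb pC pI)

variable {X S : Scheme.{u}} (f : X ⟶ S)

/-- The structure map of the affine line. -/
abbrev line (S : Scheme.{u}) : 𝔸(PUnit.{u + 1}; S) ⟶ S := 𝔸(PUnit.{u + 1}; S) ↘ S

theorem pullSect_smul {Y Z : Scheme.{u}} (i : Z ⟶ Y) {M : Y.Modules} (U : Y.Opens) (r : Γ(Y, U)) (m : Γ(M, U)) :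
    OmegaSh.pullSect i M U (r • m) = i.app U r • OmegaSh.pullSect i M U m :=
  ((Scheme.Modules.pullbackPushforwardAdjunction i).unit.app M).app_smul r m

theorem id_appLE (W : X.Opens) (h : W ≤ (𝟙 X : X ⟶ X) ⁻¹ᵁ W) : (𝟙 X : X ⟶ X).appLE W W h = 𝟙 _ := by
  rw [Scheme.Hom.appLE]
  erw [Category.id_comp]
  exact X.presheaf.map_id _

/-- The affine line over `X`. -/
abbrev XA : Scheme.{u} := pullback f (line S)

/-- The projection. -/
abbrev prA : XA f ⟶ X := pullback.fst f (line S)

/-- The zero section. -/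
abbrev zeroA : X ⟶ XA f :=
  pullback.lift (𝟙 X) (f ≫ AffineSpace.homOfVector (𝟙 S) (fun _ => 0)) (by simp)

theorem zeroA_prA : zeroA f ≫ prA f = 𝟙 X := pullback.lift_fst _ _ _

instance : IsAffineHom (prA f) := MorphismProperty.pullback_fst (P := @IsAffineHom) _ _ inferInstance

/-- The coordinate. -/
def coordA : Γ(XA f, ⊤) := (pullback.snd f (line S)).appTop (AffineSpace.coord S PUnit.unit)

/-- Polynomials over an open as functions on its preimage. -/
def psi (W : X.Opens) : Polynomial Γ(X, W) →+* Γ(XA f, prA f ⁻¹ᵁ W) :=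
  Polynomial.eval₂RingHom ((prA f).app W).hom
    ((XA f).presheaf.map (homOfLE (le_top : prA f ⁻¹ᵁ W ≤ ⊤)).op (coordA f))

theorem psi_C (W : X.Opens) (a : Γ(X, W)) : psi f W (Polynomial.C a) = (prA f).app W a :=
  Polynomial.eval₂_C _ _

theorem psi_X (W : X.Opens) :
    psi f W Polynomial.X = (XA f).presheaf.map (homOfLE (le_top : prA f ⁻¹ᵁ W ≤ ⊤)).op (coordA f) :=
  Polynomial.eval₂_X _ _

/-- Over an affine open the functions on the preimage are the polynomials. -/
theorem psi_bijective {W : X.Opens} (hW : IsAffineOpen W) : Function.Bijective (psi f W) := by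
  haveI : IsAffine W.toScheme := hW
  let n := PUnit.{u + 1}
  let o : 𝔸(n; W.toScheme) ⟶ W.toScheme := 𝔸(n; W.toScheme) ↘ W.toScheme
  let q : 𝔸(n; W.toScheme) ⟶ XA f := pullback.lift (o ≫ W.ι) (AffineSpace.map n (W.ι ≫ f))
    (by rw [AffineSpace.map_over, Category.assoc])
  have hq1 : q ≫ prA f = o ≫ W.ι := pullback.lift_fst _ _ _
  have hq2 : q ≫ pullback.snd f (line S) = AffineSpace.map n (W.ι ≫ f) := pullback.lift_snd _ _ _
  have hsq : IsPullback q o (prA f) W.ι := by
    refine IsPullback.of_right ?_ hq1 (IsPullback.of_hasPullback f (line S)).flip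
    rw [hq2]
    exact AffineSpace.isPullback_map (W.ι ≫ f)
  haveI : IsOpenImmersion q := MorphismProperty.of_isPullback hsq.flip inferInstance
  have hrange : prA f ⁻¹ᵁ W ≤ q.opensRange := fun y hy => by
    obtain ⟨w, hw⟩ : prA f y ∈ Set.range W.ι := by rw [Scheme.Opens.range_ι]; exact hy
    obtain ⟨v, hv, -⟩ := Scheme.Pullback.exists_preimage_pullback (f := prA f) (g := W.ι) y w hw.symm
    refine ⟨hsq.isoPullback.inv v, ?_⟩
    rw [← Scheme.Hom.comp_apply, hsq.isoPullback_inv_fst]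
    exact hv
  have htop : (⊤ : (𝔸(n; W.toScheme)).Opens) ≤ q ⁻¹ᵁ (prA f ⁻¹ᵁ W) := fun v _ => by
    rw [← Scheme.Hom.comp_preimage, hq1]
    exact (o v).2
  have hr : Function.Bijective (q.appLE (prA f ⁻¹ᵁ W) ⊤ htop) := by
    haveI := q.isIso_app _ hrange
    haveI : IsIso ((𝔸(n; W.toScheme)).presheaf.map (homOfLE htop).op) := by
      rw [show (homOfLE htop) = eqToHom (top_le_iff.1 htop).symm from Subsingleton.elim _ _]
      infer_instance
    rw [Scheme.Hom.appLE]
    exact ConcreteCategory.bijective_of_isIso _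
  let E := MvPolynomial.eval₂Hom o.appTop.hom (AffineSpace.coord W.toScheme)
  have hE : Function.Bijective (E : MvPolynomial n Γ(W.toScheme, ⊤) → _) := by
    haveI : IsIso ((AffineSpace.isoOfIsAffine n W.toScheme).hom.appTop) :=
      inferInstanceAs (IsIso ((AffineSpace.isoOfIsAffine n W.toScheme).hom.app ⊤))
    have h := ConcreteCategory.bijective_of_isIso (AffineSpace.isoOfIsAffine n W.toScheme).hom.appTop
    rw [AffineSpace.isoOfIsAffine_hom_appTop] at h
    exact (Function.Bijective.of_comp_iff _ (ConcreteCategory.bijective_of_isIso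
      (Scheme.ΓSpecIso (CommRingCat.of (MvPolynomial n Γ(W.toScheme, ⊤)))).hom)).1 h
  have htW : (⊤ : W.toScheme.Opens) ≤ W.ι ⁻¹ᵁ W := fun w _ => w.2
  let ι₀ : Γ(X, W) →+* Γ(W.toScheme, ⊤) := (W.ι.appLE W ⊤ htW).hom
  have hι₀ : Function.Bijective ι₀ := by
    haveI := W.ι.isIso_app W (by rw [Scheme.Opens.opensRange_ι])
    haveI : IsIso (W.toScheme.presheaf.map (homOfLE htW).op) := by
      rw [show (homOfLE htW) = eqToHom (top_le_iff.1 htW).symm from Subsingleton.elim _ _]
      infer_instance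
    show Function.Bijective (W.ι.appLE W ⊤ htW)
    rw [Scheme.Hom.appLE]
    exact ConcreteCategory.bijective_of_isIso _
  let eP : Polynomial Γ(X, W) ≃+* MvPolynomial n Γ(W.toScheme, ⊤) :=
    (MvPolynomial.pUnitAlgEquiv Γ(X, W)).symm.toRingEquiv.trans (MvPolynomial.mapEquiv _ (RingEquiv.ofBijective ι₀ hι₀))
  have hcomp : (q.appLE (prA f ⁻¹ᵁ W) ⊤ htop).hom.comp (psi f W) = E.comp eP.toRingHom := by
    refine Polynomial.ringHom_ext (fun a => ?_) ?_
    · rw [RingHom.comp_apply, RingHom.comp_apply, psi_C]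
      have h1 : eP.toRingHom (Polynomial.C a) = MvPolynomial.C (ι₀ a) := by simp [eP]
      rw [h1]
      simp only [E, MvPolynomial.eval₂Hom_C]
      show ((prA f).app W ≫ q.appLE (prA f ⁻¹ᵁ W) ⊤ htop) a = (W.ι.appLE W ⊤ htW ≫ o.appTop) a
      rw [(prA f).app_eq_appLE, Scheme.Hom.appLE_comp_appLE, show o.appTop = o.appLE ⊤ ⊤ le_top from o.app_eq_appLE,
        Scheme.Hom.appLE_comp_appLE]
      simp only [hq1]
    · rw [RingHom.comp_apply, RingHom.comp_apply, psi_X]
      have h1 : eP.toRingHom Polynomial.X = MvPolynomial.X PUnit.unit := by simp [eP]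
      rw [h1]
      simp only [E, MvPolynomial.eval₂Hom_X']
      rw [← AffineSpace.map_appTop_coord (W.ι ≫ f) PUnit.unit, ← hq2]
      show ((XA f).presheaf.map _ ≫ q.appLE (prA f ⁻¹ᵁ W) ⊤ htop) (coordA f) = _
      rw [Scheme.Hom.map_appLE]
      rw [show q.appLE ⊤ ⊤ le_top = q.appTop from (q.app_eq_appLE).symm, Scheme.Hom.comp_appTop]
      rfl
  have h : Function.Bijective ((q.appLE (prA f ⁻¹ᵁ W) ⊤ htop).hom.comp (psi f W)) := by
    rw [hcomp]
    exact hE.comp eP.bijective
  exact (Function.Bijective.of_comp_iff' hr _).1 h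

theorem zeroA_appTop_coordA : (zeroA f).appTop (coordA f) = 0 := by
  rw [coordA, ← CommRingCat.comp_apply, ← Scheme.Hom.comp_appTop,
    show zeroA f ≫ pullback.snd f (line S) = f ≫ AffineSpace.homOfVector (𝟙 S) (fun _ => 0) from pullback.lift_snd _ _ _,
    Scheme.Hom.comp_appTop, CommRingCat.comp_apply, AffineSpace.homOfVector_appTop_coord, map_zero]

theorem le_zeroA (W : X.Opens) : W ≤ zeroA f ⁻¹ᵁ (prA f ⁻¹ᵁ W) := by
  rw [← Scheme.Hom.comp_preimage, zeroA_prA]
  exact le_rfl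

/-- Restriction to the zero section is evaluation at zero. -/
theorem zeroA_psi (W : X.Opens) (v : Polynomial Γ(X, W)) :
    (zeroA f).appLE (prA f ⁻¹ᵁ W) W (le_zeroA f W) (psi f W v) = v.eval 0 := by
  suffices h : ((zeroA f).appLE (prA f ⁻¹ᵁ W) W (le_zeroA f W)).hom.comp (psi f W) = Polynomial.evalRingHom 0 from
    congrArg (fun φ : Polynomial Γ(X, W) →+* Γ(X, W) => φ v) h
  refine Polynomial.ringHom_ext (fun a => ?_) ?_
  · rw [RingHom.comp_apply, psi_C]
    show ((prA f).app W ≫ (zeroA f).appLE _ _ _) a = _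
    rw [(prA f).app_eq_appLE, Scheme.Hom.appLE_comp_appLE]
    simp only [zeroA_prA]
    rw [Polynomial.coe_evalRingHom, Polynomial.eval_C, id_appLE]
    rfl
  · rw [RingHom.comp_apply, psi_X, Polynomial.coe_evalRingHom, Polynomial.eval_X]
    show ((XA f).presheaf.map _ ≫ (zeroA f).appLE _ _ _) (coordA f) = _
    rw [Scheme.Hom.map_appLE, Scheme.Hom.appLE, CommRingCat.comp_apply]
    erw [zeroA_appTop_coordA, map_zero]

/-- Around every point there is a generator over the preimage of a neighbourhood. -/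
theorem exists_gen_nhd (hX : HTop.IsSeminormal X) {N : (XA f).Modules} (hN : PicF.IsInvertible N) (x : X) :
    ∃ (U : X.Opens) (e : Γ(N, prA f ⁻¹ᵁ U)), x ∈ U ∧ IsGen N e := by
  obtain ⟨⟨W, hW⟩, hxW, hsn⟩ := hX x
  let U₀ := prA f ⁻¹ᵁ W
  have hU₀ : IsAffineOpen U₀ := hW.preimage _
  let C := Γ(XA f, U₀)
  let h := hU₀.fromSpec
  let L' := pb h N
  have hL' : PicF.IsInvertible L' := H11Ample.isInvertible_pullback _ hN
  haveI : L'.IsQuasicoherent := H28Mero.isQCoh_of_isInvertible hL'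
  have hcov : ∀ y : PrimeSpectrum C, ∃ (b : C) (m : Γ(L', ⊤)), b ∉ y.asIdeal ∧ H11Tilde.GenOn b m := fun y => by
    obtain ⟨O, e, hy, he⟩ := H11Ample.exists_gen hL' y
    obtain ⟨_, ⟨b, rfl⟩, hyb, hbO⟩ :=
      PrimeSpectrum.isTopologicalBasis_basic_opens.exists_subset_of_mem_open (show y ∈ O from hy) O.isOpen
    have heb := he.res (show Db b ≤ O from hbO)
    obtain ⟨n, p, hp⟩ := exists_pow_smul_eq_map L' b (L'.presheaf.map (homOfLE (show Db b ≤ O from hbO)).op e)
    refine ⟨b, p, hyb, H11Tilde.genOn_of_isGen L' ?_⟩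
    rw [hp, smul_eq_cst_smul]
    exact PicCurve.SqZeroPic.isGen_smul heb (by rw [map_pow]; exact (isUnit_cst le_rfl).pow n)
  obtain ⟨-, -, hinv⟩ := PicCurve.ValUnits.finite_projective_invertible_of_genOn hcov
  haveI := hinv
  obtain ⟨a, m, ha, hgen⟩ := AffineLineAlg.exists_genOn hsn (RingEquiv.ofBijective _ (psi_bijective f hW))
    (hW.primeIdealOf ⟨x, hxW⟩).asIdeal Γ(L', ⊤)
  have hg := H11Tilde.isGen_of_genOn L' hgen
  let κ : U₀.toScheme ⟶ Spec Γ(XA f, U₀) := hU₀.isoSpec.hom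
  have hκ : κ ≫ h = U₀.ι := hU₀.isoSpec_hom_fromSpec
  let θ : pb κ L' ≅ N.restrict U₀.ι :=
    pC κ h hκ N ≪≫ ((Scheme.Modules.restrictFunctorIsoPullback U₀.ι).app N).symm
  have hg'' := H11Proj.isGen_toImg U₀ ((hg.pullSect κ).map_iso θ)
  let U := X.basicOpen a
  have hle : prA f ⁻¹ᵁ U ≤ U₀.ι ''ᵁ (κ ⁻¹ᵁ PrimeSpectrum.basicOpen (psi f W (Polynomial.C a))) := by
    intro z hz
    have hz₀ : z ∈ U₀ := (prA f).preimage_mono (X.basicOpen_le a) hz
    refine ⟨⟨z, hz₀⟩, ?_, rfl⟩
    rw [psi_C]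
    have hmem : κ ⟨z, hz₀⟩ ∈ h ⁻¹ᵁ (XA f).basicOpen ((prA f).app W a) := by
      rw [Scheme.Hom.mem_preimage, ← Scheme.Hom.comp_apply, hκ, ← Scheme.preimage_basicOpen]
      exact hz
    rw [hU₀.fromSpec_preimage_basicOpen] at hmem
    exact hmem
  refine ⟨U, N.presheaf.map (homOfLE hle).op _, ?_, hg''.res hle⟩
  have h2 : hW.primeIdealOf ⟨x, hxW⟩ ∈ hW.fromSpec ⁻¹ᵁ X.basicOpen a := by
    rw [hW.fromSpec_preimage_basicOpen]
    exact ha
  change hW.fromSpec (hW.primeIdealOf ⟨x, hxW⟩) ∈ X.basicOpen a at h2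
  rwa [hW.fromSpec_primeIdealOf] at h2

/-- A unit over the preimage of an open which is `1` on the zero section is `1`. -/
theorem unit_eq_one [IsReduced X] {O : X.Opens} {v : Γ(XA f, prA f ⁻¹ᵁ O)} (hv : IsUnit v)
    (h0 : (zeroA f).appLE (prA f ⁻¹ᵁ O) O (le_zeroA f O) v = 1) : v = 1 := by
  refine LineCocycle.rr_locally _ _ fun y hy => ?_
  obtain ⟨W, hW, hyW, hWO⟩ := exists_isAffineOpen_mem_and_subset (U := O) (x := prA f y) hy
  refine ⟨prA f ⁻¹ᵁ W, (prA f).preimage_mono hWO, hyW, ?_⟩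
  obtain ⟨w, hw⟩ := (psi_bijective f hW).2 ((XA f).presheaf.map (homOfLE ((prA f).preimage_mono hWO)).op v)
  haveI : _root_.IsReduced Γ(X, W) := IsReduced.component_reduced W
  have hwu : IsUnit w := by
    have h1 := (hv.map ((XA f).presheaf.map (homOfLE ((prA f).preimage_mono hWO)).op).hom)
    rw [← hw] at h1
    exact (MulEquiv.isUnit_map (RingEquiv.ofBijective _ (psi_bijective f hW)).toMulEquiv).1 h1
  have hw0 : w.eval 0 = 1 := by
    rw [← zeroA_psi f W w, hw, ← CommRingCat.comp_apply, Scheme.Hom.map_appLE]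
    rw [← Scheme.Hom.appLE_map (zeroA f) (le_zeroA f O) (homOfLE hWO).op, CommRingCat.comp_apply, h0, map_one]
  show (XA f).presheaf.map _ v = (XA f).presheaf.map _ 1
  rw [← hw, AffineLineAlg.eq_one_of_isUnit hwu hw0, map_one, map_one]

/-- An invertible module on the affine line which is trivial on the zero section is trivial. -/
theorem trivial_of_zero (hX : HTop.IsSeminormal X) {N : (XA f).Modules} (hN : PicF.IsInvertible N)
    (η : pb (zeroA f) N ≅ Coh.structureModule X) : Nonempty (N ≅ Coh.structureModule (XA f)) := by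
  haveI := (S7421.result).2 X hX
  choose U₁ e₁ hxU he₁ using fun x => exists_gen_nhd f hX hN x
  -- normalise on the zero section
  have hnorm : ∀ x, ∃ e : Γ(N, prA f ⁻¹ᵁ U₁ x), IsGen N e ∧
      (Coh.structureModule X).presheaf.map (homOfLE (le_zeroA f (U₁ x))).op
        (η.hom.app _ (OmegaSh.pullSect (zeroA f) N _ e)) = H11Ample.one (U₁ x) := by
    intro x
    let w := (Coh.structureModule X).presheaf.map (homOfLE (le_zeroA f (U₁ x))).op
        (η.hom.app _ (OmegaSh.pullSect (zeroA f) N _ (e₁ x)))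
    have hw : IsGen (Coh.structureModule X) w := (((he₁ x).pullSect (zeroA f)).map_iso η).res (le_zeroA f (U₁ x))
    obtain ⟨c, hc⟩ := H11Ample.exists_coeff hw (H11Ample.one (U₁ x))
    have hcu : IsUnit c := PowerRoot.isUnit_coeff hw (H11Ample.isGen_one (U₁ x)) hc
    refine ⟨(prA f).app (U₁ x) c • e₁ x, PicCurve.SqZeroPic.isGen_smul (he₁ x) (hcu.map ((prA f).app (U₁ x)).hom), ?_⟩
    rw [pullSect_smul, Scheme.Modules.Hom.app_smul, Scheme.Modules.map_smul, hc]
    refine congrArg (· • w) ?_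
    show ((prA f).app (U₁ x) ≫ (zeroA f).app _ ≫ X.presheaf.map _) c = c
    rw [(prA f).app_eq_appLE]
    show ((prA f).appLE _ _ le_rfl ≫ (zeroA f).appLE _ _ (le_zeroA f (U₁ x))) c = c
    rw [Scheme.Hom.appLE_comp_appLE]
    simp only [zeroA_prA]
    rw [id_appLE]
    rfl
  choose e he hone using hnorm
  let V := fun x => prA f ⁻¹ᵁ U₁ x
  suffices key : ∀ x y (v : Γ(XA f, prA f ⁻¹ᵁ (U₁ x ⊓ U₁ y))),
      N.presheaf.map (homOfLE ((prA f).preimage_mono (inf_le_left (b := U₁ y)))).op (e x) =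
        v • N.presheaf.map (homOfLE ((prA f).preimage_mono (inf_le_right (a := U₁ x)))).op (e y) →
      (Coh.structureModule (XA f)).presheaf.map (homOfLE ((prA f).preimage_mono (inf_le_left (b := U₁ y)))).op (H11Ample.one (V x)) =
        v • (Coh.structureModule (XA f)).presheaf.map (homOfLE ((prA f).preimage_mono (inf_le_right (a := U₁ x)))).op (H11Ample.one (V y)) by
    obtain ⟨ψ, -⟩ := H11Ample.exists_iso_of_gen V (fun y => ⟨prA f y, hxU _⟩) e he
      (fun x => H11Ample.one (V x)) (fun x => H11Ample.isGen_one _) key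
    exact ⟨ψ⟩
  intro x y v hv
  have hvu : IsUnit v := PowerRoot.isUnit_coeff ((he y).res _) ((he x).res _) hv
  let O := U₁ x ⊓ U₁ y
  have h1 : v = 1 := by
    refine unit_eq_one f (O := O) hvu ?_
    let Φ : Γ(N, prA f ⁻¹ᵁ O) → Γ(Coh.structureModule X, O) := fun t =>
      (Coh.structureModule X).presheaf.map (homOfLE (le_zeroA f O)).op
        (η.hom.app _ (OmegaSh.pullSect (zeroA f) N (prA f ⁻¹ᵁ O) t))
    have hΦ : ∀ (U : X.Opens) (hU : O ≤ U) (t : Γ(N, prA f ⁻¹ᵁ U)),
        Φ (N.presheaf.map (homOfLE ((prA f).preimage_mono hU)).op t) =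
          (Coh.structureModule X).presheaf.map (homOfLE hU).op ((Coh.structureModule X).presheaf.map
            (homOfLE (le_zeroA f U)).op (η.hom.app _ (OmegaSh.pullSect (zeroA f) N _ t))) := by
      intro U hU t
      simp only [Φ]
      rw [H11Tilde.pullSect_res, H11Tilde.app_map_apply, H10Coh.mres_mres, H10Coh.mres_mres]
    have h2 := congrArg Φ hv
    rw [show Φ (v • N.presheaf.map (homOfLE ((prA f).preimage_mono (inf_le_right (a := U₁ x)))).op (e y)) =
        (zeroA f).appLE (prA f ⁻¹ᵁ O) O (le_zeroA f O) v •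
          Φ (N.presheaf.map (homOfLE ((prA f).preimage_mono (inf_le_right (a := U₁ x)))).op (e y)) by
      simp only [Φ]
      rw [pullSect_smul, Scheme.Modules.Hom.app_smul, Scheme.Modules.map_smul]
      rfl] at h2
    have hx' := hΦ (U₁ x) inf_le_left (e x)
    have hy' := hΦ (U₁ y) inf_le_right (e y)
    rw [hone, H11Ample.one_res] at hx' hy'
    erw [hx', hy'] at h2
    exact (((H11Ample.isGen_one O).bijective le_rfl).1 (by
      beta_reduce
      rw [H10Coh.mres_self, one_smul]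
      exact h2)).symm
  show (Coh.structureModule (XA f)).presheaf.map _ _ = v • _
  rw [h1, one_smul, H11Ample.one_res]
  exact (H11Ample.one_res _).symm

end Groth.Agent.H12Pic.AffineLinePic
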