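import Groth.Agent.H12Pic.AlgEquivEuler
import Groth.Agent.H7Flat.GenericFlatStrat
import Groth.Agent.H17.Reduced
import Groth.Agent.H28Int.Core

/-!
# Euler characteristics in bounded families take finitely many values
-/

set_option autoImplicit false
set_option linter.style.haveILetI false
universe u

open CategoryTheory CategoryTheory.Limits AlgebraicGeometry TopologicalSpace

namespace Groth.Agent.H12Pic.BoundedEuler

open Groth.Agent.H25Theta (pb pT pC pI tI)
open Groth.Agent.H28Int

variable (k : Type u) [Field k] {X : Scheme.{u}} [X.Over (Spec (CommRingCat.of k))]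
  [IsProper (X ↘ Spec (CommRingCat.of k))] {T : Scheme.{u}} (q : T ⟶ Spec (CommRingCat.of k))
  [LocallyOfFiniteType q] [QuasiCompact q]

/-- A coherent family is flat over finitely many Noetherian subschemes through which all rational points factor. -/
theorem exists_strata (G : (Pic13.prodK k X q).Modules) (hG : Coh.IsCoh G) :
    ∃ (n : ℕ) (W : Fin n → Scheme.{u}) (g : ∀ i, W i ⟶ T),
      (∀ i, IsNoetherian (W i) ∧ IsImmersion (g i) ∧ FlatMod.IsFlatOver
        (pullback.snd (pullback.snd (X ↘ Spec (CommRingCat.of k)) q) (g i))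
        (pb (pullback.fst (pullback.snd (X ↘ Spec (CommRingCat.of k)) q) (g i)) G)) ∧
      ∀ t : Spec (CommRingCat.of k) ⟶ T, ∃ (i : Fin n) (w : Spec (CommRingCat.of k) ⟶ W i), w ≫ g i = t := by
  classical
  haveI : IsLocallyNoetherian T := LocallyOfFiniteType.isLocallyNoetherian q
  haveI : CompactSpace T := QuasiCompact.compactSpace_of_compactSpace q
  haveI : IsNoetherian T := {}
  let f := pullback.snd (X ↘ Spec (CommRingCat.of k)) q
  haveI : IsLocallyNoetherian (Pic13.prodK k X q) := LocallyOfFiniteType.isLocallyNoetherian f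
  haveI : LocallyOfFinitePresentation f := LocallyOfFinitePresentation.iff_locallyOfFiniteType.2 inferInstance
  haveI : G.IsQuasicoherent := hG.1
  obtain ⟨n, I, -, htop, h0, -, hflat⟩ :=
    H7Flat.exists_flat_stratification f G hG.1 (H10Coh.isFP_of_isCoh G hG)
  refine ⟨n, fun i => ((I i.castSucc).subschemeι ⁻¹ᵁ (I i.succ).support.compl).toScheme,
    fun i => ((I i.castSucc).subschemeι ⁻¹ᵁ (I i.succ).support.compl).ι ≫ (I i.castSucc).subschemeι,
    fun i => ?_, fun t => ?_⟩
  · haveI : IsLocallyNoetherian (I i.castSucc).subscheme :=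
      LocallyOfFiniteType.isLocallyNoetherian (I i.castSucc).subschemeι
    haveI : CompactSpace (I i.castSucc).subscheme :=
      QuasiCompact.compactSpace_of_compactSpace (I i.castSucc).subschemeι
    haveI : IsNoetherian (I i.castSucc).subscheme := {}
    haveI : CompactSpace ((I i.castSucc).subschemeι ⁻¹ᵁ (I i.succ).support.compl).toScheme :=
      isCompact_iff_compactSpace.1 (NoetherianSpace.isCompact _)
    exact ⟨{}, inferInstance, hflat i⟩
  · obtain ⟨i, hin, hout⟩ : ∃ i : Fin n,
        t.base default ∈ (I i.castSucc).support ∧ t.base default ∉ (I i.succ).support := by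
      by_contra hc
      push Not at hc
      have hall : ∀ j : Fin (n + 1), t.base default ∈ (I j).support := by
        intro j
        induction j using Fin.induction with
        | zero =>
          show t.base default ∈ ((I 0).support : Set ↑T)
          rw [h0]; trivial
        | succ j ih => exact hc j ih
      have := hall (Fin.last n)
      rw [htop, Scheme.IdealSheafData.support_top] at this
      exact this
    refine ⟨i, H17.exists_lift_immersion_of_range_subset t _ ?_⟩
    rintro _ ⟨z, rfl⟩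
    rw [Subsingleton.elim z default]
    obtain ⟨y, hy⟩ : t.base default ∈ Set.range (I i.castSucc).subschemeι := by
      rw [Scheme.IdealSheafData.range_subschemeι]; exact hin
    have hyW : y ∈ (I i.castSucc).subschemeι ⁻¹ᵁ (I i.succ).support.compl := by
      show (I i.castSucc).subschemeι y ∈ (I i.succ).support.compl
      rw [hy]; exact hout
    exact ⟨⟨y, hyW⟩, hy⟩

omit [IsProper (X ↘ Spec (CommRingCat.of k))] [LocallyOfFiniteType q] [QuasiCompact q] in
/-- The fibre at a rational point of a stratum. -/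
theorem exists_slice {W : Scheme.{u}} (g : W ⟶ T) (w : Spec (CommRingCat.of k) ⟶ W) (ht : (w ≫ g) ≫ q = 𝟙 _)
    (G : (Pic13.prodK k X q).Modules) :
    ∃ σ : X ⟶ pullback (pullback.snd (X ↘ Spec (CommRingCat.of k)) q) g,
      IsPullback σ (X ↘ Spec (CommRingCat.of k)) (pullback.snd _ g) w ∧
      σ ≫ pullback.fst _ g = Pic13.sliceAt k X q (w ≫ g) ht ∧
      Nonempty (pb σ (pb (pullback.fst _ g) G) ≅ Pic13.fibreMod k X q (w ≫ g) ht G) := by
  let f := pullback.snd (X ↘ Spec (CommRingCat.of k)) q
  have hsl : IsPullback (Pic13.sliceAt k X q (w ≫ g) ht) (X ↘ Spec (CommRingCat.of k)) f (w ≫ g) := by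
    refine IsPullback.of_right ?_ (pullback.lift_snd _ _ _) (IsPullback.of_hasPullback _ q).flip.flip
    rw [ht, show Pic13.sliceAt k X q (w ≫ g) ht ≫ pullback.fst _ q = 𝟙 X from pullback.lift_fst _ _ _]
    exact IsPullback.of_horiz_isIso ⟨by simp⟩
  let σ : X ⟶ pullback f g := pullback.lift (Pic13.sliceAt k X q (w ≫ g) ht)
    ((X ↘ Spec (CommRingCat.of k)) ≫ w) (by rw [hsl.w, Category.assoc])
  refine ⟨σ, ?_, pullback.lift_fst _ _ _, ⟨pC σ (pullback.fst f g) (pullback.lift_fst _ _ _) G⟩⟩
  refine IsPullback.of_right ?_ (pullback.lift_snd _ _ _) (IsPullback.of_hasPullback f g)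
  rw [show σ ≫ pullback.fst f g = Pic13.sliceAt k X q (w ≫ g) ht from pullback.lift_fst _ _ _]
  exact hsl

/-- The Euler characteristic of the fibres of a coherent family at the rational points takes finitely many values. -/
theorem exists_bound_euler (G : (Pic13.prodK k X q).Modules) (hG : Coh.IsCoh G) :
    ∃ B : ℤ, ∀ (t : Spec (CommRingCat.of k) ⟶ T) (ht : t ≫ q = 𝟙 _),
      |Curv2.euler k X (Pic13.fibreMod k X q t ht G)| ≤ B := by
  classical
  obtain ⟨n, W, g, hW, hlift⟩ := exists_strata k q G hG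
  have hbd : ∀ i : Fin n, ∃ B : ℤ, ∀ (w : Spec (CommRingCat.of k) ⟶ W i) (ht : (w ≫ g i) ≫ q = 𝟙 _),
      |Curv2.euler k X (Pic13.fibreMod k X q (w ≫ g i) ht G)| ≤ B := by
    intro i
    obtain ⟨hN, hI, hfl⟩ := hW i
    let fi := pullback.snd (pullback.snd (X ↘ Spec (CommRingCat.of k)) q) (g i)
    haveI : IsLocallyNoetherian T := LocallyOfFiniteType.isLocallyNoetherian q
    haveI : IsLocallyNoetherian (pullback (pullback.snd (X ↘ Spec (CommRingCat.of k)) q) (g i)) :=
      LocallyOfFiniteType.isLocallyNoetherian fi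
    haveI : LocallyOfFinitePresentation fi := LocallyOfFinitePresentation.iff_locallyOfFiniteType.2 inferInstance
    have hGi : Coh.IsCoh (pb (pullback.fst (pullback.snd (X ↘ Spec (CommRingCat.of k)) q) (g i)) G) := H17.ConsProp.isCoh_pullback (pullback.fst (pullback.snd (X ↘ Spec (CommRingCat.of k)) q) (g i)) hG
    haveI := hGi.1
    have hlc := H28Bc.isLocallyConstant_eulerChar fi _ (H10Coh.isFP_of_isCoh _ hGi) hfl
    obtain ⟨B, hB⟩ := (hlc.range_finite.image (fun z : ℤ => |z|)).bddAbove
    refine ⟨B, fun w ht => ?_⟩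
    obtain ⟨σ, hsq, -, ⟨e⟩⟩ := exists_slice k q (g i) w ht G
    rw [← H25Euler.euler_congr e, H28Bc.euler_eq_eulerChar fi _ hGi hfl σ w hsq
      (fun z => congrArg w.base (Subsingleton.elim z default))]
    exact hB ⟨_, ⟨w.base default, rfl⟩, rfl⟩
  choose B hB using hbd
  refine ⟨∑ i, |B i|, fun t ht => ?_⟩
  obtain ⟨i, w, rfl⟩ := hlift t
  exact (hB i w ht).trans ((le_abs_self _).trans
    (Finset.single_le_sum (fun j _ => abs_nonneg (B j)) (Finset.mem_univ i)))

/-- Intersection symbols on the fibres of a coherent family take bounded values. -/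
theorem exists_bound_D : ∀ (l : List X.Modules), (∀ A ∈ l, PicF.IsInvertible A) →
    ∀ G : (Pic13.prodK k X q).Modules, Coh.IsCoh G →
    ∃ B : ℤ, ∀ (t : Spec (CommRingCat.of k) ⟶ T) (ht : t ≫ q = 𝟙 _),
      |D k l (Pic13.fibreMod k X q t ht G)| ≤ B
  | [], _, G, hG => exists_bound_euler k q G hG
  | A :: l, h, G, hG => by
    haveI : IsLocallyNoetherian T := LocallyOfFiniteType.isLocallyNoetherian q
    haveI : IsLocallyNoetherian (Pic13.prodK k X q) :=
      LocallyOfFiniteType.isLocallyNoetherian (pullback.snd (X ↘ Spec (CommRingCat.of k)) q)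
    have hl := fun B hB => h B (List.mem_cons_of_mem A hB)
    let p := pullback.fst (X ↘ Spec (CommRingCat.of k)) q
    obtain ⟨B₁, hB₁⟩ := exists_bound_D l hl G hG
    obtain ⟨B₂, hB₂⟩ := exists_bound_D l hl (CohB1.tensorMod G (pb p A))
      (H11Ample.isCoh_tensor hG (H11Ample.isInvertible_pullback p (h A List.mem_cons_self)))
    refine ⟨B₁ + B₂, fun t ht => ?_⟩
    haveI := isNoetherian k (X := X)
    show |D k l _ - D k l _| ≤ _
    rw [← (isAddFn_D k l hl).congr (pT (Pic13.sliceAt k X q t ht) G (pb p A) ≪≫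
      tI (Iso.refl _) (pC (Pic13.sliceAt k X q t ht) p (h := 𝟙 X) (pullback.lift_fst _ _ _) A ≪≫ pI (𝟙 X) rfl A) ≪≫
      H10Coh.Tw.commIso (Pic13.fibreMod k X q t ht G) A)]
    exact (abs_sub _ _).trans (add_le_add (hB₁ t ht) (hB₂ t ht))

end Groth.Agent.H12Pic.BoundedEuler
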