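import Groth.Agent.H12Pic.BoundedEuler
import Groth.Agent.H10Coh.AmpleVanishing
import Groth.Agent.H22Alg.AcyclicPush
import Groth.Agent.H06FlatCx.FlatH0
import Groth.Agent.H11Ample.AmpleOn

/-!
# Uniform Serre vanishing in bounded families
-/

set_option autoImplicit false
set_option linter.style.haveILetI false
universe u

open CategoryTheory CategoryTheory.Limits AlgebraicGeometry TopologicalSpace Opposite

attribute [local instance 10000] Groth.Agent.H10Coh.hasSheafifyAb Groth.Agent.H10Coh.hasWeakSheafifyAb Groth.Agent.H10Coh.hasExtAb Groth.Agent.H10Coh.enoughInjAb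
attribute [local instance] Groth.Agent.H10Coh.enoughInjMod

namespace Groth.Agent.H12Pic.BoundedVanish

open Groth.Agent.H25Theta (pb pT pC pI tI)
open Groth.Agent.LeadBC Groth.Agent.H06FlatCx

section acyclic

variable {X Y : Scheme.{u}} (f : X ⟶ Y) [IsProper f] [IsLocallyNoetherian Y]

/-- A flat module without higher direct images has acyclic fibres. -/
theorem finrank_fibre_eq_zero {F : X.Modules} (hF : Coh.IsCoh F) (hfl : FlatMod.IsFlatOver f F)
    (hvan : ∀ i : ℕ, 1 ≤ i → IsZero ((Coh.RpushAb f i).obj (Coh.toAb F)))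
    {K : Type u} [Field K] {X' : Scheme.{u}} [X'.Over (Spec (CommRingCat.of K))] (g : X' ⟶ X)
    (t : Spec (CommRingCat.of K) ⟶ Y) (hsq : IsPullback g (X' ↘ Spec (CommRingCat.of K)) f t)
    (p : ℕ) (hp : 1 ≤ p) : Module.finrank K (Coh.HH X' (pb g F) p) = 0 := by
  haveI : F.IsQuasicoherent := hF.1
  obtain ⟨V, hV, hy, -⟩ := exists_isAffineOpen_mem_and_subset (U := (⊤ : Y.Opens)) (x := t.base default) trivial
  obtain ⟨ι, hι, U, hU, ⟨m⟩⟩ := exists_chart_model (f := f) (hV := hV) hF hfl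
  haveI : (chartF f hV F).IsQuasicoherent := H29Fitt.isQCoh_pullback _ F hF.1
  have hz : ∀ q : ℤ, q ≤ (m.N : ℤ) - 1 → Subsingleton (HH m.P q) := fun q hq => by
    by_cases hq0 : q < 0
    · haveI := ModuleCat.subsingleton_of_isZero (m.isZero_neg q hq0)
      infer_instance
    obtain ⟨r, hr, rfl⟩ : ∃ r : ℕ, 1 ≤ r ∧ (m.N : ℤ) - r = q := ⟨((m.N : ℤ) - q).toNat, by omega, by omega⟩
    obtain ⟨e⟩ := m.exists_sections_equiv hU r
    haveI : Subsingleton Γ((Coh.Rpush f r).obj F, V) := by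
      obtain ⟨e'⟩ := H10Coh.nonempty_toAb_rpush (M := F) (f := f) r
      have h1 : IsZero ((H10Coh.shF Y).obj ((Coh.Rpush f r).obj F)) := (hvan r hr).of_iso e'
      have h2 : IsZero ((Coh.Rpush f r).obj F) := by
        rw [IsZero.iff_id_eq_zero] at h1 ⊢
        apply (H10Coh.shF Y).map_injective
        rw [CategoryTheory.Functor.map_id, Functor.map_zero]
        exact h1
      refine subsingleton_of_forall_eq 0 fun x => ?_
      exact ConcreteCategory.congr_hom (congrArg (fun φ => Scheme.Modules.Hom.app φ V) (h2.eq_of_src (𝟙 _) 0)) x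
    exact e.toEquiv.subsingleton
  have hfl' : ∀ q, q ≤ (m.N : ℤ) - p → Module.Flat Γ(Y, V) (HH m.P q) := fun q hq =>
    haveI := hz q (by omega)
    inferInstance
  have he := (preserves_of_flat m.P (fun i => (m.finite_flat i).2) 0 m.isZero_neg _ hfl' _ le_rfl).2
  rw [m.finrank_bc_chart hU g t hsq hy (fun s => congrArg t.base (Subsingleton.elim s default)) _ (Iso.refl _) p,
    dRank_eq_fibDim m.P (fun i => (m.finite_flat i).2) _ he]
  haveI := hz ((m.N : ℤ) - p) (by omega)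
  exact Module.finrank_zero_of_subsingleton

end acyclic

variable (k : Type u) [Field k] {X : Scheme.{u}} [X.Over (Spec (CommRingCat.of k))]
  [IsProper (X ↘ Spec (CommRingCat.of k))] {T : Scheme.{u}} (q : T ⟶ Spec (CommRingCat.of k))
  [LocallyOfFiniteType q] [QuasiCompact q]

/-- Serre vanishing, uniformly in a bounded family. -/
theorem exists_bound_van (G : (Pic13.prodK k X q).Modules) (hG : Coh.IsCoh G) {L : X.Modules} (hL : CohB1.IsAmple L) :
    ∃ n₀ : ℕ, ∀ e : ℕ, n₀ ≤ e → ∀ p : ℕ, 1 ≤ p → ∀ (t : Spec (CommRingCat.of k) ⟶ T) (ht : t ≫ q = 𝟙 _),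
      Subsingleton (Coh.HH X (CohB1.tensorMod (Pic13.fibreMod k X q t ht G) (CohB1.tensorPow L e)) p) := by
  classical
  haveI := H28Int.isNoetherian k (X := X)
  have hLi := H11Ample.isInvertible_of_isAmple hL
  obtain ⟨n, W, g, hW, hlift⟩ := BoundedEuler.exists_strata k q G hG
  have hbd : ∀ i : Fin n, ∃ n₀ : ℕ, ∀ e : ℕ, n₀ ≤ e → ∀ p : ℕ, 1 ≤ p →
      ∀ (w : Spec (CommRingCat.of k) ⟶ W i) (ht : (w ≫ g i) ≫ q = 𝟙 _),
      Subsingleton (Coh.HH X (CohB1.tensorMod (Pic13.fibreMod k X q (w ≫ g i) ht G) (CohB1.tensorPow L e)) p) := by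
    intro i
    obtain ⟨hN, hI, hfl⟩ := hW i
    let f := pullback.snd (X ↘ Spec (CommRingCat.of k)) q
    let fi := pullback.snd f (g i)
    let pr : pullback f (g i) ⟶ X := pullback.fst f (g i) ≫ pullback.fst _ q
    haveI : IsLocallyNoetherian (pullback f (g i)) := LocallyOfFiniteType.isLocallyNoetherian fi
    have hLp := H11Ample.isInvertible_pullback pr hLi
    have hGi : Coh.IsCoh (pb (pullback.fst f (g i)) G) := H17.ConsProp.isCoh_pullback _ hG
    have ha : ∀ V : (W i).Opens, IsAffineOpen V → CohB1.IsAmple ((pb pr L).restrict (fi ⁻¹ᵁ V).ι) := by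
      intro V hV
      haveI : IsAffine V.toScheme := hV
      have hsq : IsPullback ((fi ⁻¹ᵁ V).ι ≫ pr) (fi ∣_ V) (X ↘ Spec (CommRingCat.of k)) (V.ι ≫ g i ≫ q) :=
        (isPullback_morphismRestrict fi V).flip.paste_horiz
          ((IsPullback.of_hasPullback f (g i)).paste_horiz (IsPullback.of_hasPullback _ q))
      haveI : IsAffineHom ((fi ⁻¹ᵁ V).ι ≫ pr) :=
        MorphismProperty.of_isPullback (P := @IsAffineHom) hsq.flip inferInstance
      exact H11Ample.isAmple_of_iso (((Scheme.Modules.restrictFunctorIsoPullback (fi ⁻¹ᵁ V).ι).app (pb pr L)) ≪≫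
        (Scheme.Modules.pullbackComp (fi ⁻¹ᵁ V).ι pr).app L).symm (H11Ample.isAmple_pullback_of_isAffineHom _ hL)
    obtain ⟨n₀, hn₀⟩ := H10Coh.Tw.exists_isZero_rpush fi hLp ha _ hGi
    refine ⟨n₀, fun e he p hp w ht => ?_⟩
    obtain ⟨σ, hsq, hσ, ⟨E⟩⟩ := BoundedEuler.exists_slice k q (g i) w ht G
    obtain ⟨e₁⟩ := H11Ample.exists_iso_pullback_tensorPow σ hLp e
    have hσpr : σ ≫ pr = 𝟙 X := by
      rw [← Category.assoc, hσ]
      exact pullback.lift_fst _ _ _
    have hflat : FlatMod.IsFlatOver fi (CohB1.tensorMod (pb (pullback.fst f (g i)) G) (CohB1.tensorPow (pb pr L) e)) :=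
      fun x => AlgEquivEuler.isFlatOverAt_tensor _ (H11Ample.isInvertible_tensorPow hLp e) (hfl x)
    have hcoh : Coh.IsCoh (CohB1.tensorMod (pb (pullback.fst f (g i)) G) (CohB1.tensorPow (pb pr L) e)) :=
      H11Ample.isCoh_tensor hGi (H11Ample.isInvertible_tensorPow hLp e)
    have h0 := finrank_fibre_eq_zero fi hcoh hflat (fun r hr => hn₀ e he r hr) σ w hsq p hp
    haveI : Module.Finite k (Coh.HH X (pb σ (CohB1.tensorMod (pb (pullback.fst f (g i)) G)
        (CohB1.tensorPow (pb pr L) e))) p) :=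
      H10Coh.finite_HH_proper k X _ (H17.ConsProp.isCoh_pullback σ hcoh) p
    have hs := Module.finrank_zero_iff.1 h0
    exact ((LeadBC.HMod k p).mapIso ((pT σ _ _) ≪≫ tI E (e₁ ≪≫
      (H10Coh.Tw.tensorPowIso (pC σ pr hσpr L ≪≫ pI (𝟙 X) rfl L) e)))).toLinearEquiv.toEquiv.subsingleton_congr.1 hs
  choose n₀ hn₀ using hbd
  refine ⟨∑ i, n₀ i, fun e he p hp t ht => ?_⟩
  obtain ⟨i, w, rfl⟩ := hlift t
  exact hn₀ i e ((Finset.single_le_sum (fun j _ => Nat.zero_le _) (Finset.mem_univ i)).trans he) p hp w ht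

end Groth.Agent.H12Pic.BoundedVanish
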