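import Groth.Agent.H12Pic.SeesawAlg
import Groth.Agent.LeadBC.GenBC.Zero
import Groth.Agent.LeadBC.GenBC.Chart
import Groth.Agent.LeadBC.Gamma

/-!
# Sections over all base changes from one chart
-/

set_option autoImplicit false
set_option linter.style.haveILetI false
set_option linter.unusedSectionVars false

noncomputable section

universe u

open CategoryTheory CategoryTheory.Limits AlgebraicGeometry Opposite TopologicalSpace

namespace Groth.Agent.H12Pic

open Groth.Agent.LeadBC Groth.Agent.LeadBC.GenBC Groth.Agent.LeadFF Groth.Agent.H10Coh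

attribute [local instance 10000] H10Coh.hasSheafifyAb H10Coh.hasWeakSheafifyAb H10Coh.hasExtAb H10Coh.enoughInjAb

/-- Degree zero cohomology of isomorphic modules. -/
def hmEquiv {Y : Scheme.{u}} (A : Type u) [CommRing A] [Y.Over (Spec (CommRingCat.of A))] {G G' : Y.Modules}
    (φ : G ≅ G') : Coh.HH Y G 0 ≃ₗ[A] Coh.HH Y G' 0 :=
  ((HMod (X := Y) A 0).mapIso φ).toLinearEquiv

/-- Maps out of a corepresenting module are the degree zero values, semilinearly. -/
theorem exists_homEquiv {A : Type u} [CommRing A] {B : Type u} [CommRing B] [Algebra A B]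
    (P : ChainComplex (ModuleCat.{u} A) ℤ) {N : ℤ} {Q : Type u} [AddCommGroup Q] [Module A Q]
    (c : CohIII.TFun P N ≅ (linearCoyoneda A (ModuleCat.{u} A)).obj (op (ModuleCat.of A Q)))
    {H : Type u} [AddCommGroup H] [Module B H] (e₀ : CohIII.T P N (ModuleCat.of A B) ≃+ H)
    (he₀ : ∀ (b : B) (t : CohIII.T P N (ModuleCat.of A B)),
      e₀ (((CohIII.TFun P N).map (mulS B A b)).hom t) = b • e₀ t)
    {G : Type u} [AddCommGroup G] (sm : B → G → G) (e₁ : H ≃+ G) (he₁ : ∀ b x, e₁ (b • x) = sm b (e₁ x)) :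
    ∃ E : (Q →ₗ[A] B) ≃+ G, ∀ (b : B) (h : Q →ₗ[A] B), E (b • h) = sm b (E h) := by
  let eC : CohIII.T P N (ModuleCat.of A B) ≃+ (Q →ₗ[A] B) :=
    ((c.app (ModuleCat.of A B)).toLinearEquiv.trans
      (ModuleCat.homLinearEquiv (R := A) (S := A) (M := ModuleCat.of A Q) (N := ModuleCat.of A B))).toAddEquiv
  refine ⟨eC.symm.trans (e₀.trans e₁), fun b x => ?_⟩
  obtain ⟨t, rfl⟩ := eC.surjective x
  have hn : eC (((CohIII.TFun P N).map (mulS B A b)).hom t) = b • eC t :=
    congrArg (ModuleCat.homLinearEquiv (R := A) (S := A) (M := ModuleCat.of A Q) (N := ModuleCat.of A B))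
      (ConcreteCategory.congr_hom (c.hom.naturality (mulS B A b)) t)
  rw [← hn]
  simp only [AddEquiv.trans_apply, AddEquiv.symm_apply_apply]
  rw [he₀, he₁]

set_option maxHeartbeats 1600000 in
theorem nonempty_qMap_iso {X S X' S' : Scheme.{u}} (f : X ⟶ S) {V : S.Opens} {g : S' ⟶ S} {g' : X' ⟶ X}
    {f' : X' ⟶ S'} (h : IsPullback g' f' f g) {W : S'.Opens} (hle : W ≤ g ⁻¹ᵁ V) (F : X.Modules) :
    Nonempty ((Scheme.Modules.pullback (qMap f h hle)).obj (F.restrict (f ⁻¹ᵁ V).ι) ≅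
      ((Scheme.Modules.pullback g').obj F).restrict (f' ⁻¹ᵁ W).ι) :=
  ⟨(exists_rH_pullOn f h hle F).choose⟩

set_option maxHeartbeats 1600000 in
/-- Over an affine chart, sections over base changes are maps out of one finite module, and maps lifting
gives base change exactness. -/
theorem exists_chartHom {X S : Scheme.{u}} (f : X ⟶ S) [IsProper f] [LocallyOfFinitePresentation f]
    (F : X.Modules) [F.IsQuasicoherent] (hfp : CohB1.IsFP F) (hfl : FlatMod.IsFlatOver f F)
    {V : S.Opens} (hV : IsAffineOpen V) :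
    ∃ Q : ModuleCat.{u} Γ(S, V), Module.FinitePresentation Γ(S, V) Q ∧
      ∀ {X' S' : Scheme.{u}} {g : S' ⟶ S} {g' : X' ⟶ X} {f' : X' ⟶ S'} (_ : IsPullback g' f' f g)
        {W : S'.Opens} (hW : IsAffineOpen W) (hle : W ≤ g ⁻¹ᵁ V),
        letI := (g.appLE V W hle).hom.toAlgebra
        (∃ E : (Q →ₗ[Γ(S, V)] Γ(S', W)) ≃+ Γ((Scheme.Modules.pullback g').obj F, f' ⁻¹ᵁ W),
          ∀ (b : Γ(S', W)) (h : Q →ₗ[Γ(S, V)] Γ(S', W)), E (b • h) = f'.app W b • E h) ∧
        ((∀ (M M' : Type u) [AddCommGroup M] [Module Γ(S, V) M] [Module Γ(S', W) M]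
            [IsScalarTower Γ(S, V) Γ(S', W) M] [AddCommGroup M'] [Module Γ(S, V) M'] [Module Γ(S', W) M']
            [IsScalarTower Γ(S, V) Γ(S', W) M'] (φ : M →ₗ[Γ(S', W)] M'), Function.Surjective φ →
              ∀ h : Q →ₗ[Γ(S, V)] M', ∃ h' : Q →ₗ[Γ(S, V)] M, (φ.restrictScalars Γ(S, V)) ∘ₗ h' = h) →
          EpiOn f' ((Scheme.Modules.pullback g').obj F) hW 0) := by
  letI := preOver f hV
  obtain ⟨ι, hι, U, hU, ⟨m⟩⟩ := exists_chart f hV F hfp hfl
  let G := F.restrict (f ⁻¹ᵁ V).ι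
  haveI : G.IsQuasicoherent := Scheme.Modules.isQuasicoherent_restrictFunctor _ F
  let N : ℤ := (m.N : ℤ) - ((0 : ℕ) : ℤ)
  have hvan : ∀ M : ModuleCat.{u} Γ(S, V), Subsingleton ((CohIII.TFun m.P (N + 1)).obj M) := fun M =>
    m.subsingleton_above (by simp [N]) M
  obtain ⟨c⟩ := nonempty_corep m.finite_free hvan
  refine ⟨ModuleCat.of _ (topR m.P N), finitePresentation_topR m.finite_free hvan, fun {X' S' g g' f'} h {W} hW hle => ?_⟩
  letI := preOver f' hW
  letI := (g.appLE V W hle).hom.toAlgebra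
  have hsq := isPullback_qMap f hV h hW hle
  haveI : IsProper f' := MorphismProperty.of_isPullback h ‹IsProper f›
  haveI := LeadFF.isAffineHom_fst hsq
  let F' := (Scheme.Modules.pullback g').obj F
  haveI : F'.IsQuasicoherent := H29Fitt.isQCoh_pullback g' F ‹_›
  haveI : (F'.restrict (f' ⁻¹ᵁ W).ι).IsQuasicoherent := Scheme.Modules.isQuasicoherent_restrictFunctor _ F'
  obtain ⟨Ψ⟩ := nonempty_qMap_iso f h hle F
  refine ⟨?_, fun hlift => ?_⟩
  · have hh := Model.exists_bcEquiv (q := qMap f h hle) Γ(S', W) hsq hU m 0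
    exact exists_homEquiv m.P (N := N) c hh.choose hh.choose_spec (fun b x => f'.app W b • x)
      ((hmEquiv Γ(S', W) Ψ).trans (pushLin f' F' hW)).toAddEquiv
      fun b x => ((hmEquiv Γ(S', W) Ψ).trans (pushLin f' F' hW)).map_smul b x
  · obtain ⟨m', hN, hP⟩ := exists_model_bc (algebraMap Γ(S, V) Γ(S', W)) hsq hU m rfl
      (hbound_of_isAffineHom (qMap f h hle) m.bound) (F'.restrict (f' ⁻¹ᵁ W).ι) Ψ
    refine (epiOn_iff f' F' hW (goodCover_preU (hsq := hsq) (hU := hU)) m' 0).2 ?_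
    rw [hN, hP]
    exact preservesEpi_bc m.P m.finite_free hvan (g.appLE V W hle).hom hlift

end Groth.Agent.H12Pic
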