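import Groth.Agent.H12Pic.ChartHom
import Groth.Agent.H12Pic.Seesaw
import Groth.Agent.LeadBC.TrivFiber

/-!
# The locus over which a line bundle comes from the base
-/

set_option autoImplicit false
set_option linter.style.haveILetI false
set_option linter.unusedSectionVars false

noncomputable section

universe u

open CategoryTheory CategoryTheory.Limits AlgebraicGeometry Opposite TopologicalSpace
open scoped TensorProduct

namespace Groth.Agent.H12Pic

open Groth.Agent.H10Coh Groth.Agent.H11Tilde Groth.Agent.LeadBC.GenBC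

attribute [local instance 10000] H10Coh.hasSheafifyAb H10Coh.hasWeakSheafifyAb H10Coh.hasExtAb H10Coh.enoughInjAb

/-- Near each point of `W` the module is generated by one section over the preimage. -/
def GenOn {X T : Scheme.{u}} (f : X ⟶ T) (L : X.Modules) (W : T.Opens) : Prop :=
  ∀ t ∈ W, ∃ (U : T.Opens) (e : Γ(L, f ⁻¹ᵁ U)), t ∈ U ∧ IsGen L e

variable {X S : Scheme.{u}} (f : X ⟶ S)

/-- The conclusion of `exists_chartHom`. -/
def IsChartHom (F : X.Modules) {V : S.Opens} (_hV : IsAffineOpen V) (Q : ModuleCat.{u} Γ(S, V)) : Prop :=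
  Module.FinitePresentation Γ(S, V) Q ∧
    ∀ {X' S' : Scheme.{u}} {g : S' ⟶ S} {g' : X' ⟶ X} {f' : X' ⟶ S'} (_ : IsPullback g' f' f g)
      {W : S'.Opens} (hW : IsAffineOpen W) (hle : W ≤ g ⁻¹ᵁ V),
      letI := (g.appLE V W hle).hom.toAlgebra
      (∃ E : (Q →ₗ[Γ(S, V)] Γ(S', W)) ≃+ Γ((Scheme.Modules.pullback g').obj F, f' ⁻¹ᵁ W),
        ∀ (b : Γ(S', W)) (h : Q →ₗ[Γ(S, V)] Γ(S', W)), E (b • h) = f'.app W b • E h) ∧
      ((∀ (M M' : Type u) [AddCommGroup M] [Module Γ(S, V) M] [Module Γ(S', W) M]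
          [IsScalarTower Γ(S, V) Γ(S', W) M] [AddCommGroup M'] [Module Γ(S, V) M'] [Module Γ(S', W) M']
          [IsScalarTower Γ(S, V) Γ(S', W) M'] (φ : M →ₗ[Γ(S', W)] M'), Function.Surjective φ →
            ∀ h : Q →ₗ[Γ(S, V)] M', ∃ h' : Q →ₗ[Γ(S, V)] M, (φ.restrictScalars Γ(S, V)) ∘ₗ h' = h) →
        EpiOn f' ((Scheme.Modules.pullback g').obj F) hW 0)

variable {V : S.Opens} {hV : IsAffineOpen V} {F : X.Modules} {Q : ModuleCat.{u} Γ(S, V)}

/-- Where the pullback is generated by one section the annihilator dies. -/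
theorem annihilator_le_ker (hQ : IsChartHom f F hV Q) {X' T : Scheme.{u}} {g : T ⟶ S} {g' : X' ⟶ X}
    {f' : X' ⟶ T} (h : IsPullback g' f' f g) (hbij : ∀ U : T.Opens, Function.Bijective (f'.app U))
    {W : T.Opens} (hle : W ≤ g ⁻¹ᵁ V) (hgen : GenOn f' ((Scheme.Modules.pullback g').obj F) W) :
    Module.annihilator Γ(S, V) Q ≤ RingHom.ker (g.appLE V W hle).hom := by
  intro a ha
  refine TopCat.Presheaf.section_ext ⟨T.presheaf, T.sheaf.property⟩ W _ _ fun t ht => ?_
  obtain ⟨U, e, htU, he⟩ := hgen t ht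
  obtain ⟨U', hU', htU', hU'le⟩ := exists_isAffineOpen_mem_and_subset (U := U ⊓ W) (x := t) ⟨htU, ht⟩
  have h1 : U' ≤ U := hU'le.trans inf_le_left
  have h2 : U' ≤ W := hU'le.trans inf_le_right
  have hle' : U' ≤ g ⁻¹ᵁ V := h2.trans hle
  suffices hz : g.appLE V U' hle' a = 0 by
    rw [map_zero, ← Scheme.Hom.appLE_map g hle (homOfLE h2).op, CommRingCat.comp_apply] at *
    rw [← TopCat.Presheaf.germ_res_apply T.presheaf (homOfLE h2) t htU']
    exact (congrArg (T.presheaf.germ U' t htU') hz).trans (map_zero _)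
  letI := (g.appLE V U' hle').hom.toAlgebra
  obtain ⟨⟨E, hE⟩, -⟩ := hQ.2 h hU' hle'
  let e' := ((Scheme.Modules.pullback g').obj F).presheaf.map (homOfLE (f'.preimage_mono h1)).op e
  have he' : Function.Bijective fun c : Γ(X', f' ⁻¹ᵁ U') => c • e' := (he.bijective (f'.preimage_mono h1))
  have hzero : (g.appLE V U' hle' a) • E.symm e' = 0 := LinearMap.ext fun q => by
    rw [LinearMap.smul_apply, LinearMap.zero_apply]
    show algebraMap Γ(S, V) Γ(T, U') a * E.symm e' q = 0
    rw [← Algebra.smul_def, ← map_smul, Module.mem_annihilator.1 ha q, map_zero]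
  have h3 := congrArg E hzero
  rw [hE, AddEquiv.apply_symm_apply, map_zero] at h3
  exact (hbij U').1 ((he'.1 (h3.trans (zero_smul _ e').symm)).trans (map_zero _).symm)

variable [IsProper f]

/-- Where the annihilator dies the fibre has sections. -/
theorem exists_ne_zero_point (hQ : IsChartHom f F hV Q) {s : S}
    (hle : (⊤ : (Spec (S.residueField s)).Opens) ≤ S.fromSpecResidueField s ⁻¹ᵁ V)
    (hann : Module.annihilator Γ(S, V) Q ≤ RingHom.ker ((S.fromSpecResidueField s).appLE V ⊤ hle).hom) :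
    ∃ a : Γ(CohIII.fiberMod f F s, ⊤), a ≠ 0 := by
  let K := S.residueField s
  letI := ((S.fromSpecResidueField s).appLE V ⊤ hle).hom.toAlgebra
  have hF : IsField Γ(Spec K, ⊤) :=
    MulEquiv.isField (Field.toIsField K) (Scheme.ΓSpecIso K).commRingCatIsoToRingEquiv.toMulEquiv
  letI : Field Γ(Spec K, ⊤) := hF.toField
  haveI := hQ.1
  obtain ⟨⟨E, -⟩, -⟩ := hQ.2 (IsPullback.of_hasPullback f (S.fromSpecResidueField s)) (isAffineOpen_top _) hle
  have hpos := finrank_fibre_pos (A := Γ(S, V)) (Q := Q) (K := Γ(Spec K, ⊤)) hann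
  rw [← finrank_hom] at hpos
  haveI := Module.nontrivial_of_finrank_pos hpos
  obtain ⟨x, hx⟩ := exists_ne (0 : Q →ₗ[Γ(S, V)] Γ(Spec K, ⊤))
  exact ⟨E x, fun h0 => hx (E.injective (h0.trans (map_zero E).symm))⟩

/-- A trivial fibre makes the module cyclic near the point. -/
theorem exists_cyclic_point (hQ : IsChartHom f F hV Q) {s : S}
    (hle : (⊤ : (Spec (S.residueField s)).Opens) ≤ S.fromSpecResidueField s ⁻¹ᵁ V)
    (hK : IsIso (f.fiberToSpecResidueField s).appTop)
    (e : CohIII.fiberMod f F s ≅ Coh.structureModule (f.fiber s)) :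
    ∃ (q : Q) (a : Γ(S, V)), s ∈ S.basicOpen a ∧ ∀ y : Q, ∃ c : Γ(S, V), a • y = c • q := by
  let K := S.residueField s
  letI := ((S.fromSpecResidueField s).appLE V ⊤ hle).hom.toAlgebra
  have hF : IsField Γ(Spec K, ⊤) :=
    MulEquiv.isField (Field.toIsField K) (Scheme.ΓSpecIso K).commRingCatIsoToRingEquiv.toMulEquiv
  letI : Field Γ(Spec K, ⊤) := hF.toField
  haveI := hQ.1
  obtain ⟨⟨E, hE⟩, -⟩ := hQ.2 (IsPullback.of_hasPullback f (S.fromSpecResidueField s)) (isAffineOpen_top _) hle
  let g₀ : Γ(CohIII.fiberMod f F s, ⊤) := e.inv.app ⊤ (H11Ample.one ⊤)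
  have hg : IsGen (CohIII.fiberMod f F s) g₀ := IsGen.map_iso e.symm (H11Ample.isGen_one ⊤)
  have hb : ∀ x : Γ(CohIII.fiberMod f F s, ⊤), ∃ c : Γ(Spec K, ⊤),
      x = (f.fiberToSpecResidueField s).appTop c • g₀ := fun x => by
    obtain ⟨d, rfl⟩ := H11Ample.exists_coeff hg x
    obtain ⟨c, rfl⟩ := (ConcreteCategory.bijective_of_isIso (f.fiberToSpecResidueField s).appTop).2 d
    exact ⟨c, rfl⟩
  have hrank : Module.finrank Γ(Spec K, ⊤) (Q →ₗ[Γ(S, V)] Γ(Spec K, ⊤)) ≤ 1 := by
    refine finrank_le_one (E.symm g₀) fun w => ?_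
    obtain ⟨c, hc⟩ := hb (E w)
    refine ⟨c, E.injective ?_⟩
    rw [hE, AddEquiv.apply_symm_apply, hc]
    rfl
  rw [finrank_hom] at hrank
  obtain ⟨q, a, ha, hq⟩ := exists_cyclic_nhd hrank
  refine ⟨q, a, ?_, hq⟩
  have hu : IsUnit ((S.fromSpecResidueField s).appLE V ⊤ hle a) := isUnit_iff_ne_zero.2 ha
  haveI : Nonempty (Spec K) := inferInstanceAs (Nonempty (PrimeSpectrum K))
  let z : Spec K := Classical.arbitrary _
  have hz : z ∈ (Spec K).basicOpen ((S.fromSpecResidueField s).appLE V ⊤ hle a) := by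
    rw [Scheme.basicOpen_of_isUnit _ hu]; trivial
  rw [Scheme.basicOpen_appLE] at hz
  have : S.fromSpecResidueField s z ∈ S.basicOpen a := hz.2
  rwa [Scheme.fromSpecResidueField_apply] at this

variable [Flat f] [LocallyOfFinitePresentation f]

/-- Where the annihilator dies and the fibres are trivial, a generator exists near each point. -/
theorem exists_gen_of_annihilator (hQ : IsChartHom f F hV Q) (hFi : PicF.IsInvertible F)
    (hK : ∀ s : S, IsIso (f.fiberToSpecResidueField s).appTop) {X' T : Scheme.{u}} {g : T ⟶ S}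
    {g' : X' ⟶ X} {f' : X' ⟶ T} (h : IsPullback g' f' f g) {W : T.Opens} (hW : IsAffineOpen W)
    (hle : W ≤ g ⁻¹ᵁ V) (hann : Module.annihilator Γ(S, V) Q ≤ RingHom.ker (g.appLE V W hle).hom)
    {t : T} (ht : t ∈ W) (e : CohIII.fiberMod f F (g t) ≅ Coh.structureModule (f.fiber (g t))) :
    ∃ (U : T.Opens) (m : Γ((Scheme.Modules.pullback g').obj F, f' ⁻¹ᵁ U)),
      t ∈ U ∧ IsGen ((Scheme.Modules.pullback g').obj F) m := by
  haveI : IsProper f' := MorphismProperty.of_isPullback h ‹IsProper f›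
  haveI : Flat f' := MorphismProperty.of_isPullback h ‹Flat f›
  haveI : LocallyOfFinitePresentation f' := MorphismProperty.of_isPullback h ‹LocallyOfFinitePresentation f›
  have hs : g t ∈ V := hle ht
  have hleK : (⊤ : (Spec (S.residueField (g t))).Opens) ≤ S.fromSpecResidueField (g t) ⁻¹ᵁ V := fun z _ => by
    show S.fromSpecResidueField (g t) z ∈ V
    rw [Scheme.fromSpecResidueField_apply]
    exact hs
  obtain ⟨q, a, hsa, hq⟩ := exists_cyclic_point f hQ hleK (hK (g t)) e
  let U := T.basicOpen (g.appLE V W hle a)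
  have hUW : U ≤ W := T.basicOpen_le _
  have htU : t ∈ U := by
    show t ∈ T.basicOpen (g.appLE V W hle a)
    rw [Scheme.basicOpen_appLE]
    exact ⟨ht, hsa⟩
  have hU : IsAffineOpen U := hW.basicOpen _
  letI := (g.appLE V U (hUW.trans hle)).hom.toAlgebra
  have hmap : ∀ b, algebraMap Γ(S, V) Γ(T, U) b = T.presheaf.map (homOfLE hUW).op (g.appLE V W hle b) := fun b =>
    (ConcreteCategory.congr_hom (Scheme.Hom.appLE_map g hle (homOfLE hUW).op) b).symm
  have hEpi := (hQ.2 h hU (hUW.trans hle)).2 (exists_lift_of_cyclic q a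
    (by rw [hmap]; exact T.toRingedSpace.isUnit_res_basicOpen _)
    hq fun b hb => by rw [hmap, RingHom.mem_ker.1 (hann hb)]; exact map_zero _)
  let φ : f'.fiber t ⟶ f.fiber (g t) := pullback.lift (f'.fiberι t ≫ g')
    (f'.fiberToSpecResidueField t ≫ Spec.map (g.residueFieldMap t)) (by
      rw [Category.assoc, h.w, ← Category.assoc, Category.assoc _ (Spec.map _)]
      rw [Scheme.Hom.SpecMap_residueFieldMap_fromSpecResidueField]
      rw [← Category.assoc]
      exact congrArg (· ≫ g) (f'.fiber_fac t))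
  have hφ : φ ≫ f.fiberι (g t) = f'.fiberι t ≫ g' := pullback.lift_fst _ _ _
  let e' : CohIII.fiberMod f' ((Scheme.Modules.pullback g').obj F) t ≅ Coh.structureModule (f'.fiber t) :=
    (Scheme.Modules.pullbackComp (f'.fiberι t) g').app F ≪≫ (Scheme.Modules.pullbackCongr hφ.symm).app F ≪≫
      ((Scheme.Modules.pullbackComp φ (f.fiberι (g t))).app F).symm ≪≫ (Scheme.Modules.pullback φ).mapIso e ≪≫
      PicLoc.pullbackStructureIso φ
  exact exists_gen_nhd f' (H11Ample.isInvertible_pullback g' hFi)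
    (isIso_appTop_fibre_baseChange f h hK) hU htU hEpi e'

/-- The ideal of the locus where a line bundle and its inverse are generated by one section. -/
theorem exists_locus_ideal (hint : ∀ s : S, IsIntegral (f.fiber s))
    (hK : ∀ s : S, IsIso (f.fiberToSpecResidueField s).appTop) {L M : X.Modules} (hL : PicF.IsInvertible L)
    (hM : PicF.IsInvertible M) (e : CohB1.tensorMod L M ≅ Coh.structureModule X) (hV : IsAffineOpen V) :
    ∃ I : Ideal Γ(S, V), (∀ {X' T : Scheme.{u}} {g : T ⟶ S} {g' : X' ⟶ X} {f' : X' ⟶ T}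
      (_ : IsPullback g' f' f g) {W : T.Opens} (_ : IsAffineOpen W) (hle : W ≤ g ⁻¹ᵁ V),
      (GenOn f' ((Scheme.Modules.pullback g').obj L) W ∧ GenOn f' ((Scheme.Modules.pullback g').obj M) W) ↔
        I ≤ RingHom.ker (g.appLE V W hle).hom) ∧
      ∀ s ∈ V, Nonempty (CohIII.fiberMod f L s ≅ Coh.structureModule (f.fiber s)) →
        Nonempty (CohIII.fiberMod f M s ≅ Coh.structureModule (f.fiber s)) →
          ∃ (a : Γ(S, V)) (J : Ideal Γ(S, V)), s ∈ S.basicOpen a ∧ J.FG ∧ J ≤ I ∧ ∀ c ∈ I, a * c ∈ J := by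
  have hmk : ∀ {N : X.Modules}, PicF.IsInvertible N → ∃ Q, IsChartHom f N hV Q := fun {N} hN => by
    have hlf := H28Pinch.isFinLocFree_of_isInvertible hN
    haveI : N.IsQuasicoherent := H28Mero.isQCoh_of_isInvertible hN
    exact exists_chartHom f N (H8Props.FinLocFree.isFP_of_isFinLocFree N hlf)
      (H10Coh.SheafHom.isFlatOver_of_isFinLocFree f N hlf) hV
  obtain ⟨QL, hQL⟩ := hmk hL
  obtain ⟨QM, hQM⟩ := hmk hM
  refine ⟨Module.annihilator Γ(S, V) QL ⊔ Module.annihilator Γ(S, V) QM,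
    fun {X' T g g' f'} h {W} hW hle => ⟨fun ⟨h₁, h₂⟩ => ?_, fun hI => ?_⟩, ?_⟩
  case refine_3 =>
    intro s hs hLs hMs
    have hleK : (⊤ : (Spec (S.residueField s)).Opens) ≤ S.fromSpecResidueField s ⁻¹ᵁ V := fun z _ => by
      show S.fromSpecResidueField s z ∈ V
      rw [Scheme.fromSpecResidueField_apply]
      exact hs
    haveI := hQL.1
    haveI := hQM.1
    obtain ⟨q, a, ha, hq⟩ := exists_cyclic_point f hQL hleK (hK s) hLs.some
    obtain ⟨q', a', ha', hq'⟩ := exists_cyclic_point f hQM hleK (hK s) hMs.some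
    obtain ⟨J, hJ, hJle, hJa⟩ := exists_fg_annihilator q a hq
    obtain ⟨J', hJ', hJle', hJa'⟩ := exists_fg_annihilator q' a' hq'
    refine ⟨a ^ 2 * a' ^ 2, J ⊔ J', ?_, Submodule.FG.sup hJ hJ', sup_le_sup hJle hJle', fun c hc => ?_⟩
    · rw [Scheme.basicOpen_mul, pow_two, pow_two, Scheme.basicOpen_mul, Scheme.basicOpen_mul]
      exact ⟨⟨ha, ha⟩, ⟨ha', ha'⟩⟩
    obtain ⟨x, hx, y, hy, rfl⟩ := Submodule.mem_sup.1 hc
    rw [mul_add]
    refine add_mem (Ideal.mem_sup_left ?_) (Ideal.mem_sup_right ?_)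
    · rw [mul_right_comm]; exact J.mul_mem_right _ (hJa x hx)
    · rw [mul_assoc]; exact J'.mul_mem_left _ (hJa' y hy)
  · haveI : IsProper f' := MorphismProperty.of_isPullback h ‹IsProper f›
    haveI : Flat f' := MorphismProperty.of_isPullback h ‹Flat f›
    haveI : LocallyOfFinitePresentation f' := MorphismProperty.of_isPullback h ‹LocallyOfFinitePresentation f›
    have hbij : ∀ U : T.Opens, Function.Bijective (f'.app U) := fun U =>
      haveI := isIso_app_of_fibres f' (isIso_appTop_fibre_baseChange f h hK) U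
      ConcreteCategory.bijective_of_isIso (f'.app U)
    exact sup_le (annihilator_le_ker f hQL h hbij hle h₁) (annihilator_le_ker f hQM h hbij hle h₂)
  · have key : ∀ t ∈ W, Nonempty (CohIII.fiberMod f L (g t) ≅ Coh.structureModule (f.fiber (g t))) ∧
        Nonempty (CohIII.fiberMod f M (g t) ≅ Coh.structureModule (f.fiber (g t))) := fun t ht => by
      have hleK : (⊤ : (Spec (S.residueField (g t))).Opens) ≤ S.fromSpecResidueField (g t) ⁻¹ᵁ V :=
        fun z _ => by
          show S.fromSpecResidueField (g t) z ∈ V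
          rw [Scheme.fromSpecResidueField_apply]
          exact hle ht
      have hIK : Module.annihilator Γ(S, V) QL ⊔ Module.annihilator Γ(S, V) QM ≤
          RingHom.ker ((S.fromSpecResidueField (g t)).appLE V ⊤ hleK).hom := fun b hb => by
        by_contra hne
        have hF : IsField Γ(Spec (S.residueField (g t)), ⊤) := MulEquiv.isField (Field.toIsField _)
          (Scheme.ΓSpecIso (S.residueField (g t))).commRingCatIsoToRingEquiv.toMulEquiv
        obtain ⟨r, hr⟩ := hF.mul_inv_cancel (a := (S.fromSpecResidueField (g t)).appLE V ⊤ hleK b) hne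
        haveI : Nonempty (Spec (S.residueField (g t))) :=
          inferInstanceAs (Nonempty (PrimeSpectrum (S.residueField (g t))))
        let z : Spec (S.residueField (g t)) := Classical.arbitrary _
        have hz : z ∈ (Spec (S.residueField (g t))).basicOpen
            ((S.fromSpecResidueField (g t)).appLE V ⊤ hleK b) := by
          rw [Scheme.basicOpen_of_isUnit _ (IsUnit.of_mul_eq_one r hr)]; trivial
        rw [Scheme.basicOpen_appLE] at hz
        have hzb : g t ∈ S.basicOpen b := by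
          have : S.fromSpecResidueField (g t) z ∈ S.basicOpen b := hz.2
          rwa [Scheme.fromSpecResidueField_apply] at this
        have ht' : t ∈ T.basicOpen (g.appLE V W hle b) := by
          rw [Scheme.basicOpen_appLE]
          exact ⟨ht, hzb⟩
        rw [RingHom.mem_ker.1 (hI hb), Scheme.basicOpen_zero] at ht'
        exact ht'
      obtain ⟨a, ha⟩ := exists_ne_zero_point f hQL hleK (le_sup_left.trans hIK)
      obtain ⟨b, hb⟩ := exists_ne_zero_point f hQM hleK (le_sup_right.trans hIK)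
      haveI := hint (g t)
      obtain ⟨τ⟩ := H11Ample.exists_iso_pullback_tensor (f.fiberι (g t)) hL hM
      haveI : IsProper (f.fiberToSpecResidueField (g t)) := MorphismProperty.pullback_snd _ _ inferInstance
      exact LeadBC.TrivInv.nonempty_iso_of_proper (k := S.residueField (g t)) (f.fiberToSpecResidueField (g t))
        (H11Ample.isInvertible_pullback (f.fiberι (g t)) hL) (H11Ample.isInvertible_pullback (f.fiberι (g t)) hM)
        (τ.symm ≪≫ (Scheme.Modules.pullback (f.fiberι (g t))).mapIso e ≪≫ PicLoc.pullbackStructureIso _) ha hb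
    exact ⟨fun t ht => exists_gen_of_annihilator f hQL hL hK h hW hle (le_sup_left.trans hI) ht (key t ht).1.some,
      fun t ht => exists_gen_of_annihilator f hQM hM hK h hW hle (le_sup_right.trans hI) ht (key t ht).2.some⟩

end Groth.Agent.H12Pic
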