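import Groth.Agent.H12Pic.InvDesc.Trivial
import Groth.Agent.H11Ample.Ample

/-!
# Descent of trivialisations of `p`-torsion line bundles in characteristic `p`
-/

set_option autoImplicit false
set_option linter.style.haveILetI false
set_option linter.unusedSectionVars false

noncomputable section

universe u

open CategoryTheory CategoryTheory.Limits AlgebraicGeometry TopologicalSpace Opposite

namespace Groth.Agent.H12Pic.PTorsion

open Groth.Agent.H11Tilde Groth.Agent.H11Ample Groth.Agent.H12Pic.InvDesc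

theorem pow_injective {R : Type u} [CommRing R] [_root_.IsReduced R] {p : ℕ} (hp : p.Prime)
    (hchar : (p : R) = 0) {a b : R} (h : a ^ p = b ^ p) : a = b := by
  obtain ⟨r, hr⟩ := exists_add_pow_prime_eq hp (a - b) b
  rw [sub_add_cancel, hchar, h] at hr
  refine sub_eq_zero.1 (IsNilpotent.eq_zero ⟨p, ?_⟩)
  linear_combination -hr

theorem isGen_unit {X : Scheme.{u}} {V : X.Opens} {z : Γ(X, V)} (hz : IsUnit z) :
    IsGen (Coh.structureModule X) (show Γ(Coh.structureModule X, V) from z) := by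
  have h := isGen_res (isGen_one V) le_rfl hz
  rw [one_res, smul_one_eq] at h
  exact h

theorem nat {P X : Scheme.{u}} (f : P ⟶ X) {V W : X.Opens} (h : W ≤ V) (s : Γ(X, V)) :
    f.app W (X.presheaf.map (homOfLE h).op s) = P.presheaf.map (homOfLE (f.preimage_mono h)).op (f.app V s) :=
  ConcreteCategory.congr_hom (f.naturality (homOfLE h).op) s

theorem res_res (P : Scheme.{u}) {U V W : P.Opens} (h : V ≤ U) (h' : W ≤ V) (s : Γ(P, U)) :
    P.presheaf.map (homOfLE h').op (P.presheaf.map (homOfLE h).op s) = P.presheaf.map (homOfLE (h'.trans h)).op s :=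
  (ConcreteCategory.congr_hom (P.presheaf.map_comp (homOfLE h).op (homOfLE h').op) s).symm

theorem cancel_aux {R : Type u} [CommRing R] {Bx By A V F : R} (h1 : Bx * (A * F) = 1) (h2 : By * F = 1) :
    A * V * Bx = V * By := by linear_combination (V * By) * h1 - (V * A * Bx) * h2

theorem norm_aux {R : Type u} [CommRing R] {S V B F : R} {p : ℕ} (h1 : S ^ p * (V ^ p * B) = 1)
    (h2 : B * F = 1) : (V * S) ^ p = F := by
  rw [mul_pow]
  linear_combination F * h1 - (V ^ p * S ^ p) * h2

variable {P X : Scheme.{u}} (f : P ⟶ X) [Flat f] [Surjective f] [QuasiCompact f] [IsReduced (pullback f f)]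

/-- A line bundle killed by the characteristic `p` which becomes trivial on a faithfully flat cover with
reduced fibre square, on which units have `p`-th roots, is trivial. -/
theorem nonempty_iso_of_pullback {p : ℕ} (hp : p.Prime) (hchar : (p : Γ(X, ⊤)) = 0) {L : X.Modules}
    (hL : PicF.IsInvertible L) (φ : CohB1.tensorPow L p ≅ Coh.structureModule X)
    (θ : (Scheme.Modules.pullback f).obj L ≅ Coh.structureModule P)
    (hroot : ∀ u : Γ(P, ⊤), IsUnit u → ∃ v : Γ(P, ⊤), v ^ p = u) :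
    Nonempty (L ≅ Coh.structureModule X) := by
  choose U e hxU he using H11Ample.exists_gen hL
  let v : ∀ x, Γ(P, f ⁻¹ᵁ U x) := fun x => θ.hom.app _ (OmegaSh.pullSect f L (U x) (e x))
  have hv : ∀ x, IsUnit (v x) := fun x => isUnit_of_isGen (IsGen.map_iso θ ((he x).pullSect f))
  let b : ∀ x, Γ(X, U x) := fun x => φ.hom.app _ (spow (e x) p)
  have hb : ∀ x, IsUnit (b x) := fun x => isUnit_of_isGen (IsGen.map_iso φ (isGen_spow (he x) p))
  have hv' : ∀ x y (a : Γ(X, U x ⊓ U y)),
      L.presheaf.map (homOfLE inf_le_left).op (e x) = a • L.presheaf.map (homOfLE inf_le_right).op (e y) →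
      P.presheaf.map (homOfLE (f.preimage_mono inf_le_left)).op (v x) =
        f.app (U x ⊓ U y) a * P.presheaf.map (homOfLE (f.preimage_mono inf_le_right)).op (v y) := by
    intro x y a ha
    have h₀ := congrArg (OmegaSh.pullSect f L (U x ⊓ U y)) ha
    rw [OmegaSh.pullSect_smul, pullSect_res, pullSect_res] at h₀
    have h₁ := congrArg (θ.hom.app _) h₀
    rw [Scheme.Modules.Hom.app_smul, H11Tilde.app_map_apply, H11Tilde.app_map_apply] at h₁
    exact h₁
  have hb' : ∀ x y (a : Γ(X, U x ⊓ U y)),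
      L.presheaf.map (homOfLE inf_le_left).op (e x) = a • L.presheaf.map (homOfLE inf_le_right).op (e y) →
      X.presheaf.map (homOfLE (inf_le_left : U x ⊓ U y ≤ U x)).op (b x) =
        a ^ p * X.presheaf.map (homOfLE (inf_le_right : U x ⊓ U y ≤ U y)).op (b y) := by
    intro x y a ha
    have h₁ := congrArg (fun s => φ.hom.app _ (spow s p)) ha
    beta_reduce at h₁
    rw [spow_smul, Scheme.Modules.Hom.app_smul, ← spow_res, ← spow_res, H11Tilde.app_map_apply,
      H11Tilde.app_map_apply] at h₁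
    exact h₁
  choose B hB using fun x => ((hb x).map (f.app (U x)).hom).exists_left_inv
  -- the unit comparing the two trivialisations
  obtain ⟨w, hw, -⟩ := TopCat.Sheaf.existsUnique_gluing' ⟨P.presheaf, P.sheaf.property⟩
    (fun x : X => f ⁻¹ᵁ U x) ⊤ (fun x => homOfLE le_top)
    (fun z _ => Opens.mem_iSup.2 ⟨f z, hxU _⟩) (fun x => v x ^ p * B x) fun x y => by
      obtain ⟨a, ha⟩ := H11Ample.transition (ei := e x) (he y)
      change P.presheaf.map (homOfLE (f.preimage_mono (inf_le_left : U x ⊓ U y ≤ U x))).op (v x ^ p * B x) =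
        P.presheaf.map (homOfLE (f.preimage_mono (inf_le_right : U x ⊓ U y ≤ U y))).op (v y ^ p * B y)
      have h1 := congrArg (f.app (U x ⊓ U y)) (hb' x y a ha)
      rw [map_mul, map_pow, nat f, nat f] at h1
      have h2 := congrArg (P.presheaf.map (homOfLE (f.preimage_mono (inf_le_left : U x ⊓ U y ≤ U x))).op) (hB x)
      have h3 := congrArg (P.presheaf.map (homOfLE (f.preimage_mono (inf_le_right : U x ⊓ U y ≤ U y))).op) (hB y)
      erw [map_mul, map_one] at h2 h3
      rw [h1] at h2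
      rw [map_mul, map_mul, map_pow, map_pow, hv' x y a ha, mul_pow]
      exact cancel_aux h2 h3
  have hwu : IsUnit w := isUnit_of_cover w fun z =>
    ⟨f ⁻¹ᵁ U (f z), hxU _, (hw _).symm ▸ ((hv _).pow p).mul (unit_of_mul (hB _))⟩
  obtain ⟨r, hr⟩ := hroot w hwu
  obtain ⟨s, hs⟩ := ((isUnit_pow_iff hp.ne_zero).1 (hr ▸ hwu)).exists_left_inv
  let y : ∀ x, Γ(P, f ⁻¹ᵁ U x) := fun x =>
    v x * P.presheaf.map (homOfLE (le_top : f ⁻¹ᵁ U x ≤ ⊤)).op s
  have hy : ∀ x, y x ^ p = f.app (U x) (b x) := fun x => by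
    have h1 := congrArg (fun t => P.presheaf.map (homOfLE (le_top : f ⁻¹ᵁ U x ≤ ⊤)).op (t ^ p)) hs
    beta_reduce at h1
    rw [mul_pow, one_pow, hr, map_mul, map_pow, map_one] at h1
    erw [hw x] at h1
    exact norm_aux h1 (hB x)
  have hinv : ∀ x (T : Scheme.{u}) (k₁ k₂ : T ⟶ P) (h₁ : (⊤ : T.Opens) ≤ k₁ ⁻¹ᵁ f ⁻¹ᵁ U x)
      (h₂ : (⊤ : T.Opens) ≤ k₂ ⁻¹ᵁ f ⁻¹ᵁ U x), k₁ ≫ f = k₂ ≫ f →
        k₁.appLE _ ⊤ h₁ (y x) = k₂.appLE _ ⊤ h₂ (y x) := by
    intro x T k₁ k₂ h₁ h₂ hk
    let O := pullback.fst f f ⁻¹ᵁ f ⁻¹ᵁ U x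
    have hO : O ≤ pullback.snd f f ⁻¹ᵁ f ⁻¹ᵁ U x := fun z hz => by
      change (pullback.snd f f ≫ f) z ∈ U x
      rw [← pullback.condition]
      exact hz
    have key : (pullback.fst f f).appLE _ O le_rfl (y x) = (pullback.snd f f).appLE _ O hO (y x) := by
      have hc : (p : Γ(pullback f f, O)) = 0 := by
        have := congrArg (X.presheaf.map (homOfLE (le_top : U x ≤ ⊤)).op ≫ f.app (U x) ≫
          (pullback.fst f f).appLE _ O le_rfl).hom hchar
        rwa [map_natCast, map_zero] at this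
      refine pow_injective hp hc ?_
      rw [← map_pow, ← map_pow, hy, ← Scheme.Hom.appLE_eq_app, appLE_appLE, appLE_appLE]
      exact appLE_congr pullback.condition _ _
    let ℓ : T ⟶ pullback f f := pullback.lift k₁ k₂ hk
    have h : (⊤ : T.Opens) ≤ ℓ ⁻¹ᵁ O := h₁.trans (congrArg (· ⁻¹ᵁ f ⁻¹ᵁ U x) (pullback.lift_fst k₁ k₂ hk)).ge
    have := congrArg (ℓ.appLE O ⊤ h) key
    rw [appLE_appLE, appLE_appLE] at this
    refine (appLE_congr (pullback.lift_fst k₁ k₂ hk) _ _).symm.trans (this.trans ?_)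
    exact appLE_congr (pullback.lift_snd k₁ k₂ hk) _ _
  choose z hz using fun x => exists_fun_desc f (U x) (y x) (hinv x)
  have hzu : ∀ x, IsUnit (z x) := fun x => by
    refine (isUnit_pow_iff hp.ne_zero).1 ?_
    have : z x ^ p = b x := app_injective f (U x) (by rw [map_pow, hz, hy])
    exact this ▸ hb x
  obtain ⟨ψ, -⟩ := H11Ample.exists_iso_of_gen (Q := Coh.structureModule X) U (fun x => ⟨x, hxU x⟩) e he
    (fun x => (show Γ(Coh.structureModule X, U x) from z x)) (fun x => isGen_unit (hzu x)) fun i j c hc => by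
      change X.presheaf.map (homOfLE (inf_le_left : U i ⊓ U j ≤ U i)).op (z i) =
        c * X.presheaf.map (homOfLE (inf_le_right : U i ⊓ U j ≤ U j)).op (z j)
      refine app_injective f _ ?_
      rw [map_mul, nat f, nat f, hz, hz, map_mul, map_mul, hv' i j c hc, mul_assoc]
      exact congrArg (fun t => f.app (U i ⊓ U j) c *
        (P.presheaf.map (homOfLE (f.preimage_mono inf_le_right)).op (v j) * t))
        ((res_res P _ _ s).trans (res_res P _ _ s).symm)
  exact ⟨ψ⟩

end Groth.Agent.H12Pic.PTorsion
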