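import Groth.Agent.H8Props.HartogsTwo
import Groth.Agent.H8Props.FlatFibreConst
import Groth.Agent.H06Mod.StalkPullback
import Groth.Agent.H29Fitt.Sheaf
import Groth.Agent.H11Ample.Basic
import Groth.Agent.H11Ample.Tensor
import Groth.Agent.H28Mero.Gen
import Groth.Agent.H4Depth.Components
import Groth.Agent.S11133

/-!
# Extension of invertible modules across points of depth two descends along flat morphisms
-/

set_option autoImplicit false
set_option linter.style.haveILetI false
universe u

open CategoryTheory CategoryTheory.Limits AlgebraicGeometry TopologicalSpace Opposite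
open Groth.Agent.H11Tilde
open scoped TensorProduct

namespace Groth.Agent.H12Pic.ExtendDesc

attribute [local instance] H06Mod.stalkAlgebra

/-- A generator of the base change along a faithfully flat map comes from a generator. -/
theorem exists_generator {R R' M : Type u} [CommRing R] [CommRing R'] [Algebra R R'] [Module.FaithfullyFlat R R']
    [IsLocalRing R'] [AddCommGroup M] [Module R M] {g : R' ⊗[R] M}
    (hg : Function.Bijective fun r : R' => r • g) :
    ∃ m : M, Function.Bijective fun r : R => r • m := by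
  classical
  let e : R' ≃ₗ[R'] R' ⊗[R] M := LinearEquiv.ofBijective (LinearMap.toSpanSingleton R' _ g) hg
  have he : ∀ c : R', e c = c • g := fun c => rfl
  obtain ⟨m, hm⟩ : ∃ m : M, IsUnit (e.symm (1 ⊗ₜ m)) := by
    by_contra hc
    push Not at hc
    have h : ∀ t : R' ⊗[R] M, e.symm t ∈ IsLocalRing.maximalIdeal R' := fun t => by
      induction t using TensorProduct.induction_on with
      | zero => simp
      | add a b ha hb => rw [map_add]; exact add_mem ha hb
      | tmul a m =>
        rw [← mul_one a, ← smul_eq_mul, ← TensorProduct.smul_tmul', map_smul]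
        exact Ideal.mul_mem_left _ _ ((IsLocalRing.mem_maximalIdeal _).2 (hc m))
    have h1 := h (e 1)
    rw [e.symm_apply_apply] at h1
    exact (IsLocalRing.maximalIdeal.isMaximal R').ne_top ((Ideal.eq_top_iff_one _).2 h1)
  let f : R →ₗ[R] M := LinearMap.toSpanSingleton R M m
  refine ⟨m, (?_ : Function.Bijective f)⟩
  have hb : Function.Bijective (f.lTensor R') := by
    have hfac : ⇑(f.lTensor R') = (fun c : R' => c • ((1 : R') ⊗ₜ[R] m)) ∘ TensorProduct.rid R R' := funext fun t => by
      induction t using TensorProduct.induction_on with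
      | zero => simp
      | add a b ha hb =>
        simp only [Function.comp_apply, map_add] at ha hb ⊢
        rw [ha, hb, add_smul]
      | tmul a b =>
        simp only [Function.comp_apply, LinearMap.lTensor_tmul, TensorProduct.rid_tmul, f,
          LinearMap.toSpanSingleton_apply, TensorProduct.smul_tmul', smul_eq_mul, mul_one]
        rw [TensorProduct.smul_tmul]
    rw [hfac]
    refine Function.Bijective.comp ?_ (TensorProduct.rid R R').bijective
    have h : (fun c : R' => c • ((1 : R') ⊗ₜ[R] m)) = fun c => e (c * e.symm (1 ⊗ₜ m)) := funext fun c => by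
      rw [← smul_eq_mul, map_smul, e.apply_symm_apply]
    rw [h]
    refine e.bijective.comp ?_
    obtain ⟨u, hu⟩ := hm
    rw [← hu]
    exact (Units.mulRight u).bijective
  exact ⟨(Module.FaithfullyFlat.lTensor_injective_iff_injective R R' f).1 hb.1,
    (Module.FaithfullyFlat.lTensor_surjective_iff_surjective R R' f).1 hb.2⟩

/-- The closure of a locally closed subset of a Noetherian sober space consists of specializations of its points. -/
theorem exists_specializes_of_mem_closure {T : Type*} [TopologicalSpace T] [NoetherianSpace T]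
    [QuasiSober T] {O C : Set T} (hO : IsOpen O) (hC : IsClosed C) {x : T} (hx : x ∈ closure (O ∩ C)) :
    ∃ y ∈ O ∩ C, y ⤳ x := by
  obtain ⟨F, hFfin, hFc, hFi, hF⟩ :=
    NoetherianSpace.exists_finite_set_isClosed_irreducible (α := ↥(O ∩ C)) (s := Set.univ) isClosed_univ
  have hVeq : O ∩ C = ⋃ Z ∈ F, Subtype.val '' Z := by
    rw [← Set.image_iUnion₂, ← Set.sUnion_eq_biUnion, ← hF, Set.image_univ, Subtype.range_val]
  rw [hVeq, hFfin.closure_biUnion, Set.mem_iUnion₂] at hx
  obtain ⟨Z, hZ, hxZ⟩ := hx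
  have hirr : IsIrreducible (Subtype.val '' Z) := (hFi Z hZ).image _ continuous_subtype_val.continuousOn
  have hgen := hirr.isGenericPoint_genericPoint_closure
  refine ⟨hirr.genericPoint, ⟨?_, ?_⟩, hgen.specializes hxZ⟩
  · obtain ⟨w, hw⟩ := (hFi Z hZ).nonempty
    exact (hgen.mem_open_set_iff hO).mpr ⟨w.1, subset_closure ⟨w, hw, rfl⟩, w.2.1⟩
  · refine closure_minimal ?_ hC hgen.mem
    rintro _ ⟨w, -, rfl⟩
    exact w.2.2

variable {X : Scheme.{u}} (U : X.Opens) (L : (U : Scheme.{u}).Modules)

theorem bijective_app_of_le {T : X.Opens} (h : T ≤ U) : Function.Bijective (U.ι.app T) := by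
  have h1 : IsIso (X.presheaf.map (homOfLE (U.ι.image_preimage_le T)).op) := by
    have he : U.ι ''ᵁ (U.ι ⁻¹ᵁ T) = T := by
      rw [Scheme.Hom.image_preimage_eq_opensRange_inf, Scheme.Opens.opensRange_ι, inf_eq_right.2 h]
    rw [show (homOfLE (U.ι.image_preimage_le T)) = eqToHom he from Subsingleton.elim _ _]
    infer_instance
  have h2 : IsIso (U.ι.app T) := by
    haveI : IsIso (U.ι.app T ≫ (U.ι.appIso (U.ι ⁻¹ᵁ T)).inv) := by rw [Scheme.Hom.app_appIso_inv]; exact h1
    exact IsIso.of_isIso_comp_right _ (U.ι.appIso (U.ι ⁻¹ᵁ T)).inv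
  exact ConcreteCategory.bijective_of_isIso (U.ι.app T)

/-- Sections of a pushforward from an open only see the open. -/
theorem bijective_res_inf (T : X.Opens) :
    Function.Bijective (((Scheme.Modules.pushforward U.ι).obj L).presheaf.map (homOfLE (inf_le_left : T ⊓ U ≤ T)).op) := by
  have he : U.ι ⁻¹ᵁ (T ⊓ U) = U.ι ⁻¹ᵁ T := by
    ext y
    exact ⟨fun h => h.1, fun h => ⟨h, y.2⟩⟩
  have : IsIso (L.presheaf.map (homOfLE (show U.ι ⁻¹ᵁ (T ⊓ U) ≤ U.ι ⁻¹ᵁ T from he.le)).op) := by
    rw [show (homOfLE (show U.ι ⁻¹ᵁ (T ⊓ U) ≤ U.ι ⁻¹ᵁ T from he.le)) = eqToHom he from Subsingleton.elim _ _]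
    infer_instance
  exact ConcreteCategory.bijective_of_isIso (L.presheaf.map (homOfLE (show U.ι ⁻¹ᵁ (T ⊓ U) ≤ U.ι ⁻¹ᵁ T from he.le)).op)

/-- A generator of `L` gives a generator of its pushforward inside the open. -/
theorem isGen_pushforward {W : X.Opens} (hWU : W ≤ U) {e : Γ(L, U.ι ⁻¹ᵁ W)} (he : IsGen L e) :
    IsGen ((Scheme.Modules.pushforward U.ι).obj L) (V := W) e :=
  isGen_of_bijective fun T hT => by
    show Function.Bijective fun r : Γ(X, T) =>
      (show Γ((U : Scheme.{u}), U.ι ⁻¹ᵁ T) from U.ι.app T r) • L.presheaf.map (homOfLE (U.ι.preimage_mono hT)).op e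
    exact (IsGen.bijective he (U.ι.preimage_mono hT)).comp (bijective_app_of_le U (hT.trans hWU))

theorem exists_gen_of_mem (hL : PicF.IsInvertible L) {z : X} (hz : z ∈ U) :
    ∃ (W : X.Opens) (e : Γ((Scheme.Modules.pushforward U.ι).obj L, W)),
      z ∈ W ∧ W ≤ U ∧ IsGen ((Scheme.Modules.pushforward U.ι).obj L) e := by
  obtain ⟨V, g, hV, hg⟩ := H11Ample.exists_gen hL ⟨z, hz⟩
  refine ⟨U.ι ''ᵁ V, L.presheaf.map (homOfLE (U.ι.preimage_image_eq V).le).op g, ⟨⟨z, hz⟩, hV, rfl⟩, U.ι_image_le V, ?_⟩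
  exact isGen_pushforward U L (U.ι_image_le V) (hg.res _)

variable [IsLocallyNoetherian X]
  (hD : ∀ x : X, x ∉ U → (2 : ℕ∞) ≤ LocCoh.depth (X.presheaf.stalk x) (X.presheaf.stalk x))

include hD in
theorem bijective_res_of_depth {W : X.Opens} (hW : IsAffineOpen W) :
    Function.Bijective (X.presheaf.map (homOfLE (inf_le_left : W ⊓ U ≤ W)).op).hom := by
  haveI : IsNoetherianRing Γ(X, W) := IsLocallyNoetherian.component_noetherian ⟨W, hW⟩
  haveI : NoetherianSpace W := AlgebraicGeometry.noetherianSpace_of_isAffineOpen W hW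
  have hc : IsCompact ((W ⊓ U : X.Opens) : Set X) := by
    have h := NoetherianSpace.isCompact (Subtype.val ⁻¹' (U : Set X) : Set W)
    have h2 := h.image continuous_subtype_val
    rw [show ((W ⊓ U : X.Opens) : Set X) = Subtype.val '' (Subtype.val ⁻¹' (U : Set X) : Set W) from
      (Subtype.image_preimage_coe _ _).symm]
    exact h2
  refine H8Props.HartogsTwo.bijective_restrict hW inf_le_left hc fun z hz hzU => ?_
  obtain ⟨rs, hlen, hmem, hrs⟩ := H4Depth.exists_isWeaklyRegular_of_le_idealDepth (n := 2)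
    (H4Depth.maximalIdeal_smul_top_ne_top (R := X.presheaf.stalk z)) (hD z fun h => hzU ⟨hz, h⟩)
  match rs, hlen with
  | [a, b], _ => exact ⟨a, b, hmem a (by simp), hmem b (by simp), hrs⟩

include hD in
/-- A section generating on the open generates everywhere, in depth two outside. -/
theorem isGen_of_isGen_inf {W : X.Opens} {e : Γ((Scheme.Modules.pushforward U.ι).obj L, W)}
    (he : IsGen ((Scheme.Modules.pushforward U.ι).obj L)
      (((Scheme.Modules.pushforward U.ι).obj L).presheaf.map (homOfLE (inf_le_left : W ⊓ U ≤ W)).op e)) :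
    IsGen ((Scheme.Modules.pushforward U.ι).obj L) e := by
  let N := (Scheme.Modules.pushforward U.ι).obj L
  have key : ∀ (T : X.Opens) (hT : T ≤ W), IsAffineOpen T →
      Function.Bijective fun r : Γ(X, T) => r • N.presheaf.map (homOfLE hT).op e := by
    intro T hT hTa
    refine (Function.Bijective.of_comp_iff' (bijective_res_inf U L T) _).1 ?_
    have hb := (IsGen.bijective he (inf_le_inf_right U hT : T ⊓ U ≤ W ⊓ U)).comp (bijective_res_of_depth U hD hTa)
    refine Eq.mpr (congrArg Function.Bijective (funext fun r => ?_)) hb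
    simp only [Function.comp_apply]
    rw [Scheme.Modules.map_smul, H10Coh.mres_mres, H10Coh.mres_mres]
  intro y hy
  refine ⟨fun c c' hcc => ?_, fun m => ?_⟩
  · obtain ⟨T, hyT, a, rfl⟩ := X.presheaf.exists_germ_eq c
    obtain ⟨T', hyT', a', rfl⟩ := X.presheaf.exists_germ_eq c'
    let W' := T ⊓ T' ⊓ W
    have hyW : y ∈ W' := ⟨⟨hyT, hyT'⟩, hy⟩
    have hW₁ : W' ≤ T := inf_le_left.trans inf_le_left
    have hW₂ : W' ≤ T' := inf_le_left.trans inf_le_right
    have hW₃ : W' ≤ W := inf_le_right
    have hcc' : N.presheaf.germ W' y hyW (X.presheaf.map (homOfLE hW₁).op a •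
          N.presheaf.map (homOfLE hW₃).op e) =
        N.presheaf.germ W' y hyW (X.presheaf.map (homOfLE hW₂).op a' •
          N.presheaf.map (homOfLE hW₃).op e) := by
      rw [H06Mod.germ_smul, H06Mod.germ_smul, TopCat.Presheaf.germ_res_apply, TopCat.Presheaf.germ_res_apply,
        TopCat.Presheaf.germ_res_apply]
      exact hcc
    obtain ⟨S, hyS, i, j, hS⟩ := N.presheaf.germ_eq y hyW hyW _ _ hcc'
    obtain ⟨R, hR, hyR, hRS⟩ := exists_isAffineOpen_mem_and_subset (U := S) (x := y) hyS
    replace hRS : R ≤ S := hRS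
    have hS' := congrArg (N.presheaf.map (homOfLE hRS).op) hS
    rw [Subsingleton.elim j i, show i = homOfLE i.le from rfl] at hS'
    simp only [Scheme.Modules.map_smul, H10Coh.mres_mres, H10Coh.rres_rres] at hS'
    have := congrArg (X.presheaf.germ R y hyR) ((key R _ hR).1 hS')
    rwa [TopCat.Presheaf.germ_res_apply, TopCat.Presheaf.germ_res_apply] at this
  · obtain ⟨T, hyT, t, rfl⟩ := N.presheaf.exists_germ_eq m
    obtain ⟨R, hR, hyR, hRS⟩ := exists_isAffineOpen_mem_and_subset (U := T ⊓ W) (x := y) ⟨hyT, hy⟩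
    replace hRS : R ≤ T ⊓ W := hRS
    obtain ⟨r, hr⟩ := (key R (hRS.trans inf_le_right) hR).2
      (N.presheaf.map (homOfLE (hRS.trans inf_le_left)).op t)
    refine ⟨X.presheaf.germ R y hyR r, ?_⟩
    have := congrArg (N.presheaf.germ R y hyR) hr
    rw [H06Mod.germ_smul, TopCat.Presheaf.germ_res_apply, TopCat.Presheaf.germ_res_apply] at this
    exact this

include hD in
/-- A germ generating the stalk spreads to a generator near the point. -/
theorem exists_gen_of_stalk (hL : PicF.IsInvertible L) {x : X}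
    {m : ((Scheme.Modules.pushforward U.ι).obj L).presheaf.stalk x}
    (hm : Function.Bijective fun r : X.presheaf.stalk x => r • m) :
    ∃ (W : X.Opens) (e : Γ((Scheme.Modules.pushforward U.ι).obj L, W)),
      x ∈ W ∧ IsGen ((Scheme.Modules.pushforward U.ι).obj L) e := by
  classical
  let N := (Scheme.Modules.pushforward U.ι).obj L
  haveI : N.IsQuasicoherent := by
    haveI : L.IsQuasicoherent := H28Mero.isQCoh_of_isInvertible hL
    exact H10Coh.isQuasicoherent_pushforward U.ι L
  obtain ⟨T, hxT, t₀, rfl⟩ := N.presheaf.exists_germ_eq m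
  obtain ⟨W, hW, hxW, hWT⟩ := exists_isAffineOpen_mem_and_subset (U := T) (x := x) hxT
  replace hWT : W ≤ T := hWT
  obtain ⟨e, he₀⟩ : ∃ e, N.presheaf.map (homOfLE hWT).op t₀ = e := ⟨_, rfl⟩
  have hm' : Function.Bijective fun r : X.presheaf.stalk x => r • N.presheaf.germ W x hxW e := by
    rw [show N.presheaf.germ W x hxW e = N.presheaf.germ T x hxT t₀ from
      he₀ ▸ TopCat.Presheaf.germ_res_apply N.presheaf (homOfLE hWT) x hxW t₀]
    exact hm
  let G : X.Opens := sSup {O | ∃ hO : O ≤ W, IsGen N (N.presheaf.map (homOfLE hO).op e)}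
  have hgood : ∀ z (hzU : z ∈ U) (hzW : z ∈ W), z ⤳ x → z ∈ G := by
    intro z hzU hzW hzx
    obtain ⟨V, g, hzV, -, hg⟩ := exists_gen_of_mem U L hL hzU
    obtain ⟨R, hR, hzR, hRle⟩ := exists_isAffineOpen_mem_and_subset (U := V ⊓ W) (x := z) ⟨hzV, hzW⟩
    replace hRle : R ≤ V ⊓ W := hRle
    obtain ⟨a, ha⟩ := (IsGen.bijective hg (hRle.trans inf_le_left)).2
      (N.presheaf.map (homOfLE (hRle.trans inf_le_right)).op e)
    have hu : IsUnit (X.presheaf.germ R z hzR a) := by
      letI := TopCat.Presheaf.algebra_section_stalk X.presheaf (⟨z, hzW⟩ : W)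
      letI := Module.compHom (N.presheaf.stalk z) (algebraMap Γ(X, W) (X.presheaf.stalk z))
      haveI := H29Fitt.isLocalizedModule_germLin N inferInstance hW ⟨z, hzW⟩
      obtain ⟨⟨t, s⟩, hts⟩ := IsLocalizedModule.surj (hW.primeIdealOf ⟨z, hzW⟩).asIdeal.primeCompl
        (H29Fitt.germLin N ⟨z, hzW⟩) (N.presheaf.germ V z hzV g)
      have hsu : IsUnit (X.presheaf.germ W z hzW (s : Γ(X, W))) :=
        haveI := hW.isLocalization_stalk ⟨z, hzW⟩
        IsLocalization.map_units (X.presheaf.stalk z) s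
      obtain ⟨c, hc⟩ := hm'.2 (N.presheaf.germ W x hxW t)
      obtain ⟨O, hxO, r, rfl⟩ := X.presheaf.exists_germ_eq c
      have hc' : N.presheaf.germ (O ⊓ W) x ⟨hxO, hxW⟩ (X.presheaf.map (homOfLE (inf_le_left : O ⊓ W ≤ O)).op r •
          N.presheaf.map (homOfLE (inf_le_right : O ⊓ W ≤ W)).op e) =
          N.presheaf.germ (O ⊓ W) x ⟨hxO, hxW⟩ (N.presheaf.map (homOfLE (inf_le_right : O ⊓ W ≤ W)).op t) := by
        rw [H06Mod.germ_smul, TopCat.Presheaf.germ_res_apply, TopCat.Presheaf.germ_res_apply,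
          TopCat.Presheaf.germ_res_apply]
        exact hc
      obtain ⟨S, hxS, i, j, hS⟩ := N.presheaf.germ_eq x _ _ _ _ hc'
      have hzS : z ∈ S := hzx.mem_open S.isOpen hxS
      have hz := congrArg (N.presheaf.germ S z hzS) hS
      rw [TopCat.Presheaf.germ_res_apply, TopCat.Presheaf.germ_res_apply, H06Mod.germ_smul,
        TopCat.Presheaf.germ_res_apply, TopCat.Presheaf.germ_res_apply, TopCat.Presheaf.germ_res_apply] at hz
      have he : N.presheaf.germ W z hzW e = X.presheaf.germ R z hzR a • N.presheaf.germ V z hzV g := by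
        have := congrArg (N.presheaf.germ R z hzR) ha
        rw [H06Mod.germ_smul, TopCat.Presheaf.germ_res_apply, TopCat.Presheaf.germ_res_apply] at this
        exact this.symm
      have hts' : X.presheaf.germ W z hzW (s : Γ(X, W)) • N.presheaf.germ V z hzV g =
          N.presheaf.germ W z hzW t := hts
      rw [← hz, he, ← mul_smul] at hts'
      rw [(hg z hzV).1 hts'] at hsu
      exact isUnit_of_mul_isUnit_right hsu
    have hzb : z ∈ X.basicOpen a := (X.mem_basicOpen a z hzR).2 hu
    refine Opens.mem_sSup.2 ⟨X.basicOpen a, ⟨(X.basicOpen_le a).trans (hRle.trans inf_le_right), ?_⟩, hzb⟩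
    have hbu : IsUnit (X.presheaf.map (homOfLE (X.basicOpen_le a)).op a) :=
      X.toRingedSpace.isUnit_res_basicOpen a
    have h2 := congrArg (N.presheaf.map (homOfLE (X.basicOpen_le a)).op) ha
    rw [Scheme.Modules.map_smul, H10Coh.mres_mres, H10Coh.mres_mres] at h2
    intro y hy
    rw [← h2, H06Mod.germ_smul]
    have hu' := hbu.map (X.presheaf.germ (X.basicOpen a) y hy).hom
    have hgy := (hg.res ((X.basicOpen_le a).trans (hRle.trans inf_le_left))) y hy
    have : (fun r : X.presheaf.stalk y => r • (X.presheaf.germ (X.basicOpen a) y hy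
        (X.presheaf.map (homOfLE (X.basicOpen_le a)).op a) • N.presheaf.germ (X.basicOpen a) y hy
          (N.presheaf.map (homOfLE ((X.basicOpen_le a).trans (hRle.trans inf_le_left))).op g))) =
        (fun r => r • N.presheaf.germ (X.basicOpen a) y hy
          (N.presheaf.map (homOfLE ((X.basicOpen_le a).trans (hRle.trans inf_le_left))).op g)) ∘
          (fun r => r * X.presheaf.germ (X.basicOpen a) y hy (X.presheaf.map (homOfLE (X.basicOpen_le a)).op a)) :=
      funext fun r => (mul_smul _ _ _).symm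
    show Function.Bijective _
    rw [this]
    obtain ⟨v, hv⟩ := hu'
    refine hgy.comp ?_
    rw [← hv]
    exact (Units.mulRight v).bijective
  haveI : IsNoetherianRing Γ(X, W) := IsLocallyNoetherian.component_noetherian ⟨W, hW⟩
  haveI : NoetherianSpace W := AlgebraicGeometry.noetherianSpace_of_isAffineOpen W hW
  haveI : QuasiSober W := W.isOpen.isOpenEmbedding_subtypeVal.quasiSober
  let B : Set W := (Subtype.val ⁻¹' (U : Set X)) ∩ (Subtype.val ⁻¹' (G : Set X))ᶜ
  have hxB : (⟨x, hxW⟩ : W) ∉ closure B := fun h => by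
    have hQ : QuasiSober ↥W := W.isOpen.isOpenEmbedding_subtypeVal.quasiSober
    have hN : NoetherianSpace ↥W := AlgebraicGeometry.noetherianSpace_of_isAffineOpen W hW
    obtain ⟨z, ⟨hzU, hzG⟩, hzx⟩ := @exists_specializes_of_mem_closure _ _ hN hQ _ _
      (U.isOpen.preimage continuous_subtype_val) (G.isOpen.preimage continuous_subtype_val).isClosed_compl _ h
    exact hzG (hgood z.1 hzU z.2 (hzx.map continuous_subtype_val))
  let W' : X.Opens := ⟨Subtype.val '' (closure B)ᶜ, W.isOpen.isOpenEmbedding_subtypeVal.isOpenMap _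
    isClosed_closure.isOpen_compl⟩
  have hW' : W' ≤ W := by rintro _ ⟨y, -, rfl⟩; exact y.2
  refine ⟨W', N.presheaf.map (homOfLE hW').op e, ⟨⟨x, hxW⟩, hxB, rfl⟩, isGen_of_isGen_inf U L hD ?_⟩
  intro y hy
  obtain ⟨⟨w, hw, rfl⟩, hyU⟩ := hy
  have hyG : w.1 ∈ G := by
    by_contra hn
    exact hw (subset_closure ⟨hyU, hn⟩)
  obtain ⟨O, ⟨hO, hgen⟩, hyO⟩ := Opens.mem_sSup.1 hyG
  have := hgen w.1 hyO
  rw [TopCat.Presheaf.germ_res_apply] at this
  rwa [TopCat.Presheaf.germ_res_apply, TopCat.Presheaf.germ_res_apply]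

include hD in
/-- The pushforward is invertible as soon as its pullbacks by flat morphisms have generators over the points outside. -/
theorem isInvertible_of_pullback (hL : PicF.IsInvertible L)
    (h : ∀ x : X, x ∉ U → ∃ (X' : Scheme.{u}) (φ : X' ⟶ X) (x' : X') (_ : Flat φ) (_ : φ.base x' = x)
      (V : X'.Opens) (g : Γ((Scheme.Modules.pullback φ).obj ((Scheme.Modules.pushforward U.ι).obj L), V)),
        x' ∈ V ∧ IsGen ((Scheme.Modules.pullback φ).obj ((Scheme.Modules.pushforward U.ι).obj L)) g) :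
    PicF.IsInvertible ((Scheme.Modules.pushforward U.ι).obj L) := by
  refine H11Ample.isInvertible_of_gen fun x => ?_
  by_cases hx : x ∈ U
  · obtain ⟨W, e, hW, -, he⟩ := exists_gen_of_mem U L hL hx
    exact ⟨W, e, hW, he⟩
  obtain ⟨X', φ, x', _, rfl, V, g, hV, hg⟩ := h x hx
  haveI : IsLocalHom (algebraMap (X.presheaf.stalk (φ.base x')) (X'.presheaf.stalk x')) :=
    inferInstanceAs (IsLocalHom (φ.stalkMap x').hom)
  haveI : Module.Flat (X.presheaf.stalk (φ.base x')) (X'.presheaf.stalk x') := Flat.stalkMap φ x'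
  haveI : Module.FaithfullyFlat (X.presheaf.stalk (φ.base x')) (X'.presheaf.stalk x') :=
    Module.FaithfullyFlat.of_flat_of_isLocalHom
  let ε := H06Mod.pullStalkEquiv φ ((Scheme.Modules.pushforward U.ι).obj L) x'
  obtain ⟨m, hm⟩ := exists_generator (g := ε.symm
      (((Scheme.Modules.pullback φ).obj ((Scheme.Modules.pushforward U.ι).obj L)).presheaf.germ V x' hV g)) (by
    refine Eq.mpr (congrArg Function.Bijective (funext fun r => ?_)) (ε.symm.bijective.comp (hg x' hV))
    exact (map_smul ε.symm r _).symm)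
  exact exists_gen_of_stalk U L hD hL hm

include hD in
/-- The pushforward of the restriction of an invertible module has generators everywhere. -/
theorem exists_gen_pushforward {M : X.Modules} (hM : PicF.IsInvertible M)
    (eM : (Scheme.Modules.pullback U.ι).obj M ≅ L) (y : X) :
    ∃ (W : X.Opens) (e : Γ((Scheme.Modules.pushforward U.ι).obj L, W)),
      y ∈ W ∧ IsGen ((Scheme.Modules.pushforward U.ι).obj L) e := by
  obtain ⟨W, g, hyW, hg⟩ := H11Ample.exists_gen hM y
  let e : Γ(L, U.ι ⁻¹ᵁ W) := eM.hom.app _ (OmegaSh.pullSect U.ι M W g)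
  have he : IsGen L e := H11Ample.isGen_map_iso eM (H11Tilde.IsGen.pullSect U.ι hg)
  refine ⟨W, e, hyW, isGen_of_isGen_inf U L hD ?_⟩
  have hle : U.ι ⁻¹ᵁ (W ⊓ U) ≤ U.ι ⁻¹ᵁ W := fun _ h => h.1
  exact isGen_pushforward U L inf_le_right (he.res hle)

end Groth.Agent.H12Pic.ExtendDesc
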