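import Groth.Agent.H12Pic.InvertibleStage
import Groth.Agent.H12Pic.PicSeparated
import Groth.Agent.H12Pic.InvDesc.FlatFunctions
import Groth.Agent.H13AlgSp.FieldLimit
import Groth.Agent.H25Theta.Basic

/-!
# Line bundles and field extensions
-/

set_option autoImplicit false
set_option backward.isDefEq.respectTransparency false
set_option linter.style.haveILetI false
set_option linter.unusedSectionVars false

noncomputable section

universe u

open CategoryTheory CategoryTheory.Limits AlgebraicGeometry Opposite TopologicalSpace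
open Groth.Agent.H17.PullCl Groth.Agent.H12Pic.Sep

namespace Groth.Agent.H12Pic

variable {X S : Scheme.{u}} (f : X ⟶ S)

theorem isAffineHom_bc_map {T T' : Over S} [IsAffineHom T.hom] [IsAffineHom T'.hom] (φ : T' ⟶ T) :
    IsAffineHom ((Over.pullback f).map φ).left := by
  haveI : IsAffineHom ((Over.pullback f).obj T').hom :=
    MorphismProperty.pullback_snd (P := @IsAffineHom) T'.hom f inferInstance
  haveI : IsAffineHom ((Over.pullback f).obj T).hom :=
    MorphismProperty.pullback_snd (P := @IsAffineHom) T.hom f inferInstance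
  haveI : IsAffineHom (((Over.pullback f).map φ).left ≫ ((Over.pullback f).obj T).hom) := by
    rw [Over.w]; infer_instance
  exact MorphismProperty.of_postcomp (W := @IsAffineHom) (W' := @IsSeparated) _ ((Over.pullback f).obj T).hom
    inferInstance inferInstance

/-- An invertible module on the base change to an affine limit comes from a stage. -/
theorem exists_invertible_stage_bc [QuasiCompact f] [QuasiSeparated f] {J : Type u} [SmallCategory J]
    [IsCofiltered J] (G : J ⥤ Over S) [∀ j, IsAffine (G.obj j).left] [∀ j, IsAffineHom (G.obj j).hom]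
    {c : Cone G} (hc : IsLimit c) {d : PicF.Cl (PicF.XT f c.pt)} (hd : PicF.IsInvertibleCl d) :
    ∃ (j : J) (d' : PicF.Cl (PicF.XT f (G.obj j))), PicF.IsInvertibleCl d' ∧
      PicF.pullCl (PicF.XTmap f (c.π.app j)) d' = d := by
  obtain ⟨M, rfl, hM⟩ := hd
  let F : Over S ⥤ Scheme.{u} := Over.pullback f ⋙ Over.forget _
  haveI : IsConnected J := IsCofiltered.isConnected _
  have hcD : IsLimit (F.mapCone c) := isLimitOfPreserves F hc
  obtain ⟨i₀⟩ : Nonempty J := IsCofiltered.nonempty
  haveI : ∀ (i j : J) (φ : i ⟶ j), IsAffineHom ((G ⋙ F).map φ) := fun i j φ => isAffineHom_bc_map f (G.map φ)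
  haveI : CompactSpace ((G ⋙ F).obj i₀) := QuasiCompact.compactSpace_of_compactSpace (pullback.fst (G.obj i₀).hom f)
  haveI : QuasiSeparatedSpace ((G ⋙ F).obj i₀) :=
    quasiSeparatedSpace_of_quasiSeparated (pullback.fst (G.obj i₀).hom f)
  let σ := (pullbackSymmetry c.pt.hom f).hom
  obtain ⟨j, -, L, hL, ⟨e⟩⟩ := exists_invertible_stage hcD i₀
    (H11Ample.isInvertible_pullback σ hM : PicF.IsInvertible _)
  let τ := (pullbackSymmetry f (G.obj j).hom).hom
  refine ⟨j, PicF.cl ((Scheme.Modules.pullback τ).obj L), ⟨_, rfl, H11Ample.isInvertible_pullback τ hL⟩,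
    pullCl_injective σ ?_⟩
  have hw : σ ≫ PicF.XTmap f (c.π.app j) ≫ τ = (F.mapCone c).π.app j := by
    apply pullback.hom_ext
    · simp only [σ, τ, Category.assoc, pullbackSymmetry_hom_comp_fst, XTmap_snd, pullbackSymmetry_hom_comp_snd_assoc]
      exact (pullback.lift_fst _ _ _).symm
    · simp only [σ, τ, Category.assoc, pullbackSymmetry_hom_comp_snd, XTmap_fst, pullbackSymmetry_hom_comp_fst]
      exact (pullback.lift_snd _ _ _).symm
  change PicF.pullCl σ (PicF.pullCl (PicF.XTmap f (c.π.app j)) (PicF.pullCl τ (PicF.cl L))) = _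
  rw [← pullCl_comp, ← pullCl_comp, Category.assoc, hw]
  exact Quot.sound ⟨e⟩

section Field

variable {k : Type u} [Field k] (f : X ⟶ Spec (CommRingCat.of k)) [CompactSpace X] [QuasiSeparatedSpace X]

theorem quasiCompact_of_field : QuasiCompact f := (quasiCompact_iff_compactSpace f).mpr inferInstance

theorem quasiSeparated_of_field : QuasiSeparated f := inferInstance

theorem bijective_app_of_isIso_appTop (h : IsIso f.appTop) (V : (Spec (CommRingCat.of k)).Opens) :
    Function.Bijective (f.app V) := by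
  by_cases hV : (IsLocalRing.closedPoint k) ∈ V
  · obtain rfl : V = ⊤ := top_le_iff.1 fun x _ => by rwa [Subsingleton.elim (α := PrimeSpectrum k) x (IsLocalRing.closedPoint k)]
    exact ConcreteCategory.bijective_of_isIso f.appTop
  · obtain rfl : V = ⊥ := le_bot_iff.1 fun x hx => absurd ((Subsingleton.elim (α := PrimeSpectrum k) x (IsLocalRing.closedPoint k)) ▸ hx) hV
    haveI : Subsingleton Γ(Spec (CommRingCat.of k), ⊥) :=
      CommRingCat.subsingleton_of_isTerminal ((Spec (CommRingCat.of k)).sheaf.isTerminalOfEmpty)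
    haveI : Subsingleton Γ(X, f ⁻¹ᵁ ⊥) := CommRingCat.subsingleton_of_isTerminal X.sheaf.isTerminalOfEmpty
    exact ⟨fun a b _ => Subsingleton.elim a b, fun b => ⟨0, Subsingleton.elim _ _⟩⟩

/-- Pullback of invertible classes along an extension of the field is injective. -/
theorem pullCl_injective_field (h : IsIso f.appTop) (T : Over (Spec (CommRingCat.of k))) [Subsingleton T.left]
    [Nonempty T.left] [Flat T.hom] {U : Scheme.{u}} (u : U ⟶ T.left) [Flat u] [Surjective u] [QuasiCompact u]
    {c₁ c₂ : PicF.Cl (PicF.XT f T)} (h₁ : PicF.IsInvertibleCl c₁) (h₂ : PicF.IsInvertibleCl c₂)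
    (he : PicF.pullCl (PicF.XTmap f (AbDual.ovrHom T u)) c₁ = PicF.pullCl (PicF.XTmap f (AbDual.ovrHom T u)) c₂) :
    c₁ = c₂ := by
  obtain ⟨L₁, rfl, hL₁⟩ := h₁
  obtain ⟨L₂, rfl, hL₂⟩ := h₂
  haveI := quasiCompact_of_field f
  let fT := pullback.snd f T.hom
  have hf' : ∀ V, Function.Bijective (fT.app V) :=
    InvDesc.bijective_app_flat_baseChange f (bijective_app_of_isIso_appTop f h) T.hom
  obtain ⟨M, hM, ⟨e⟩⟩ := H11Sym.exists_inverse hL₂
  have hLM := H11Ample.isInvertible_tensor hL₁ hM
  obtain ⟨hN, hε, -⟩ := H23Para.invertible_and_counit_of_trivial fT hf' u _ hLM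
    ((tensor_trivial_iff _ hL₁ hL₂ hM e).2 ((pullCl_eq_iff f T u L₁ L₂).1 he))
  obtain ⟨ν⟩ := H25Theta.nonempty_iso_of_subsingleton hN
  let t : CohB1.tensorMod L₁ M ≅ Coh.structureModule (PicF.XT f T) :=
    (@asIso _ _ _ _ ((Scheme.Modules.pullbackPushforwardAdjunction fT).counit.app (CohB1.tensorMod L₁ M)) hε).symm ≪≫
      (Scheme.Modules.pullback fT).mapIso ν ≪≫ PicLoc.pullbackStructureIso fT
  exact Quot.sound (H25Theta.cancel_right hM ⟨t ≪≫ e.symm ≪≫ H10Coh.Tw.commIso M L₂⟩)

open Groth.Agent.H13AlgSp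

/-- An invertible class over an extension comes from a finitely generated subextension. -/
theorem exists_subfield_stage (K : Type u) [Field K] [Algebra k K]
    {d : PicF.Cl (PicF.XT f (extObj k K))} (hd : PicF.IsInvertibleCl d) :
    ∃ (s : Finset K) (d' : PicF.Cl (PicF.XT f (extObj k (IntermediateField.adjoin k (s : Set K))))),
      PicF.IsInvertibleCl d' ∧
        PicF.pullCl (PicF.XTmap f (extHom (IntermediateField.adjoin k (s : Set K)).val)) d' = d := by
  haveI := quasiCompact_of_field f
  haveI : Nonempty (Finset K) := ⟨∅⟩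
  haveI : ∀ j, IsAffine ((subfieldSystem k K).obj j).left := fun j => inferInstanceAs (IsAffine (Spec _))
  haveI : ∀ j, IsAffineHom ((subfieldSystem k K).obj j).hom := fun j => inferInstanceAs (IsAffineHom (Spec.map _))
  obtain ⟨j, d', hd', h⟩ := exists_invertible_stage_bc f (subfieldSystem k K) (isLimitSubfieldCone k K) hd
  exact ⟨j.unop, d', hd', h⟩

/-- Injectivity along a map of extensions. -/
theorem pullCl_extHom_injective (h : IsIso f.appTop) {E K : Type u} [Field E] [Field K] [Algebra k E] [Algebra k K]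
    (a : E →ₐ[k] K) {c₁ c₂ : PicF.Cl (PicF.XT f (extObj k E))} (h₁ : PicF.IsInvertibleCl c₁)
    (h₂ : PicF.IsInvertibleCl c₂)
    (he : PicF.pullCl (PicF.XTmap f (extHom a)) c₁ = PicF.pullCl (PicF.XTmap f (extHom a)) c₂) : c₁ = c₂ := by
  let u := (extHom a).left
  haveI : Subsingleton (extObj k E).left := inferInstanceAs (Subsingleton (PrimeSpectrum E))
  haveI : Nonempty (extObj k E).left := inferInstanceAs (Nonempty (PrimeSpectrum E))
  haveI : Flat (extObj k E).hom := inferInstanceAs (Flat (Spec.map (CommRingCat.ofHom (algebraMap k E))))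
  haveI : Flat u := by
    refine Flat.SpecMap_iff.2 ?_
    letI := a.toRingHom.toAlgebra
    exact (inferInstance : Module.Flat E K)
  haveI : Surjective u := ⟨fun x => ⟨IsLocalRing.closedPoint K, Subsingleton.elim (α := PrimeSpectrum E) _ _⟩⟩
  haveI : QuasiCompact u := inferInstanceAs (QuasiCompact (Spec.map _))
  let j : AbDual.ovr (extObj k E) u ⟶ extObj k K := Over.homMk (𝟙 _) (by
    change 𝟙 _ ≫ _ = u ≫ (extObj k E).hom
    rw [Category.id_comp, Over.w (extHom a)])
  have hj : AbDual.ovrHom (extObj k E) u = j ≫ extHom a := Over.OverMorphism.ext (Category.id_comp _).symm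
  refine pullCl_injective_field f h (extObj k E) u h₁ h₂ ?_
  rw [hj, Sep.XTmap_comp, pullCl_comp, pullCl_comp, he]

end Field

end Groth.Agent.H12Pic
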