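import Groth.Agent.H7Lim.ModHom
import Groth.Agent.H7Lim.ModLocFree
import Groth.Agent.H8Props.FinLocFree.Sheaf
import Groth.Agent.H22Alg.PB.Local
import Groth.Prelude.Def_Pic

/-!
# Invertible modules descend to a stage of an affine limit
-/

set_option autoImplicit false
set_option backward.isDefEq.respectTransparency false
set_option linter.style.haveILetI false

universe u

open CategoryTheory CategoryTheory.Limits AlgebraicGeometry Opposite TopologicalSpace
open Groth.Agent.H11Tilde Groth.Agent.H7Lim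

namespace Groth.Agent.H12Pic

variable {I : Type u} [SmallCategory I] [IsCofiltered I] {D : I ⥤ Scheme.{u}} {c : Cone D} (hc : IsLimit c)
  [∀ (i j : I) (f : i ⟶ j), IsAffineHom (D.map f)] (i₀ : I) [CompactSpace (D.obj i₀)]
  [QuasiSeparatedSpace (D.obj i₀)]

include hc in
/-- An invertible module on the limit comes from a stage. -/
theorem exists_invertible_stage {M : c.pt.Modules} (hM : PicF.IsInvertible M) :
    ∃ (j : I) (_ : j ⟶ i₀) (L : (D.obj j).Modules), PicF.IsInvertible L ∧
      Nonempty ((Scheme.Modules.pullback (c.π.app j)).obj L ≅ M) := by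
  have hMr := H22Alg.PB.rank_one_of_isInvertible hM
  have hMf : CohB1.IsFP M := H8Props.FinLocFree.isFP_of_isFinLocFree M (ModLocFree.isFinLocFree_of_rank hMr)
  have hMq := H29Fitt.isQCoh_of_isFP M hMf
  obtain ⟨P, q, hP, hq⟩ := ModHom.exists_pullback_epi hc (i₀ := i₀) hMq (H29Fitt.isFT_of_isFP M hMf)
  haveI := hq
  obtain ⟨j, φ, G, hGq, pj, e, hGf, -, -⟩ := ModHom.exists_quotient hc hP hMq hMf q
  haveI : CompactSpace (D.obj j) := QuasiCompact.compactSpace_of_compactSpace (D.map φ)
  have hr : FlatMod.IsFinLocFreeOfRank 1 ((Scheme.Modules.pullback (c.π.app j)).obj G) :=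
    H22Alg.PB.rank_one_of_isInvertible (isInvertible_of_iso e.symm hM)
  obtain ⟨k, ψ, hk⟩ := (ModLocFree.isFinLocFreeOfRank_iff hc hGf 1).1 hr
  exact ⟨k, ψ ≫ φ, (Scheme.Modules.pullback (D.map ψ)).obj G, H22Alg.PB.isInvertible_of_rank_one hk,
    ⟨(ModStage.πIso ψ).app G ≪≫ e⟩⟩

end Groth.Agent.H12Pic
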