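import Groth.Agent.H12Pic.RankOneDual
import Groth.Agent.H10Coh.FibreLift.H0Chart
import Groth.Agent.H10Coh.SheafHom.EndInvertible
import Groth.Agent.S2393
import Groth.Prelude.Def_ClSub2

/-!
Universal equality `O = f_* O` for proper flat morphisms with fibres having only constant functions.
-/

set_option autoImplicit false
set_option linter.style.haveILetI false
set_option linter.unusedSectionVars false

noncomputable section

universe u

open AlgebraicGeometry CategoryTheory CategoryTheory.Limits TopologicalSpace Opposite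

namespace Groth.Agent.H12Pic

open Groth.Agent.LeadBC Groth.Agent.LeadFF Groth.Agent.H10Coh.FibreLift

attribute [local instance 10000] Groth.Agent.H10Coh.hasSheafifyAb Groth.Agent.H10Coh.hasWeakSheafifyAb
  Groth.Agent.H10Coh.hasExtAb Groth.Agent.H10Coh.enoughInjAb

/-- Functions on all base changes of a proper flat scheme are corepresented by a finite module. -/
theorem exists_corep_functions (A : Type u) [CommRing A] [IsNoetherianRing A] (X : Scheme.{u})
    [X.Over (Spec (CommRingCat.of A))] [IsProper (X ↘ Spec (CommRingCat.of A))] [Flat (X ↘ Spec (CommRingCat.of A))] :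
    ∃ Q : ModuleCat.{u} A, Module.Finite A Q ∧
      ∀ (S : Type u) [CommRing S] [Algebra A S] {X' : Scheme.{u}} [X'.Over (Spec (CommRingCat.of S))] {q : X' ⟶ X},
        IsPullback q (X' ↘ Spec (CommRingCat.of S)) (X ↘ Spec (CommRingCat.of A))
          (Spec.map (CommRingCat.ofHom (algebraMap A S))) →
        ∃ e : (Q →ₗ[A] S) ≃+ Γ(X', ⊤), ∀ (s : S) (h : Q →ₗ[A] S), e (s • h) = sc S (⊤ : X'.Opens) s * e h := by
  haveI : IsLocallyNoetherian X := LocallyOfFiniteType.isLocallyNoetherian (X ↘ Spec (CommRingCat.of A))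
  let O := Coh.structureModule X
  have hO : Coh.IsCoh O := H10Coh.isCoh_structureModule' _
  haveI : O.IsQuasicoherent := hO.1
  obtain ⟨ι, hι, U, hU, ⟨m⟩⟩ := exists_model A O hO
    (H10Coh.SheafHom.isFlatOver_of_isFinLocFree (X ↘ Spec (CommRingCat.of A)) O H22Alg.KModel.finLocFree_structure)
  let N : ℤ := (m.N : ℤ) - ((0 : ℕ) : ℤ)
  have hvan : ∀ M : ModuleCat.{u} A, Subsingleton ((CohIII.TFun m.P (N + 1)).obj M) := fun M =>
    m.subsingleton_above (by simp [N]) M
  obtain ⟨c⟩ := nonempty_corep m.finite_free hvan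
  refine ⟨ModuleCat.of A (topR m.P N), finite_topR m.finite_free hvan, fun S _ _ X' _ q hsq => ?_⟩
  obtain ⟨e₀, he₀⟩ := m.exists_bcEquiv S hsq hU 0
  obtain ⟨φ⟩ := H11Ample.nonempty_pullback_structureModule_iso q
  let e₁ : Γ(qF q O, (⊤ : X'.Opens)) ≃+ Γ(X', ⊤) :=
    AddEquiv.ofBijective (φ.hom.app ⊤).hom (ConcreteCategory.bijective_of_isIso (φ.hom.app ⊤))
  let eC : CohIII.T m.P N (ModuleCat.of A S) ≃+ (topR m.P N →ₗ[A] S) :=
    ((c.app (ModuleCat.of A S)).toLinearEquiv.trans
      (ModuleCat.homLinearEquiv (R := A) (S := A) (M := ModuleCat.of A (topR m.P N))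
        (N := ModuleCat.of A S))).toAddEquiv
  refine ⟨eC.symm.trans (e₀.trans ((secTopEquiv (qF q O)).trans e₁)), fun s h => ?_⟩
  obtain ⟨t, rfl⟩ := eC.surjective h
  have hn : eC (((CohIII.TFun m.P N).map (mulS S A s)).hom t) = s • eC t :=
    congrArg (ModuleCat.homLinearEquiv (R := A) (S := A) (M := ModuleCat.of A (topR m.P N))
      (N := ModuleCat.of A S)) (ConcreteCategory.congr_hom (c.hom.naturality (mulS S A s)) t)
  rw [← hn]
  simp only [AddEquiv.trans_apply, AddEquiv.symm_apply_apply]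
  rw [he₀, secTopEquiv_smul]
  exact Scheme.Modules.Hom.app_smul φ.hom _ _

/-- Functions on every base change are the functions of the base. -/
theorem bijective_sc_baseChange (A : Type u) [CommRing A] [IsNoetherianRing A] (X : Scheme.{u})
    [X.Over (Spec (CommRingCat.of A))] [IsProper (X ↘ Spec (CommRingCat.of A))] [Flat (X ↘ Spec (CommRingCat.of A))]
    (h0 : Function.Bijective (sc A (⊤ : X.Opens)))
    (hfib : ∀ m : Ideal A, m.IsMaximal → ∃ (K : Type u) (_ : Field K) (_ : Algebra A K) (X' : Scheme.{u})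
      (_ : X'.Over (Spec (CommRingCat.of K))) (q : X' ⟶ X),
        IsPullback q (X' ↘ Spec (CommRingCat.of K)) (X ↘ Spec (CommRingCat.of A))
          (Spec.map (CommRingCat.ofHom (algebraMap A K))) ∧
        Function.Surjective (algebraMap A K) ∧ RingHom.ker (algebraMap A K) = m ∧
        Function.Bijective (sc K (⊤ : X'.Opens)))
    (S : Type u) [CommRing S] [Algebra A S] {X' : Scheme.{u}} [X'.Over (Spec (CommRingCat.of S))] {q : X' ⟶ X}
    (hsq : IsPullback q (X' ↘ Spec (CommRingCat.of S)) (X ↘ Spec (CommRingCat.of A))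
      (Spec.map (CommRingCat.ofHom (algebraMap A S)))) :
    Function.Bijective (sc S (⊤ : X'.Opens)) := by
  obtain ⟨Q, hQ, hcorep⟩ := exists_corep_functions A X
  -- the dual is free of rank one
  have mk : ∀ (R : Type u) [CommRing R] [Algebra A R] {X'' : Scheme.{u}} [X''.Over (Spec (CommRingCat.of R))]
      (e : (Q →ₗ[A] R) ≃+ Γ(X'', ⊤)) (_ : ∀ (s : R) (h : Q →ₗ[A] R), e (s • h) = sc R (⊤ : X''.Opens) s * e h),
      Function.Bijective (sc R (⊤ : X''.Opens)) → Nonempty ((Q →ₗ[A] R) ≃ₗ[R] R) := by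
    intro R _ _ X'' _ e he hb
    let r : R ≃+* Γ(X'', ⊤) := RingEquiv.ofBijective (sc R (⊤ : X''.Opens)) hb
    exact ⟨{ e.trans r.symm.toAddEquiv with
      map_smul' := fun s h => by
        change r.symm (e (s • h)) = s * r.symm (e h)
        rw [he, map_mul]
        exact congrArg (· * _) (r.symm_apply_apply s) }⟩
  obtain ⟨e, he⟩ := hcorep A (q := 𝟙 X) (X' := X) (by
    rw [Algebra.algebraMap_self, show CommRingCat.ofHom (RingHom.id A) = 𝟙 (CommRingCat.of A) from rfl, Spec.map_id]
    exact IsPullback.of_horiz_isIso ⟨by simp⟩)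
  obtain ⟨eA⟩ := mk A e he h0
  obtain ⟨E⟩ := nonempty_equiv_of_dual eA fun m hm => by
    obtain ⟨K, _, _, X'', _, q', hq', hs, hker, hb⟩ := hfib m hm
    obtain ⟨e', he'⟩ := hcorep K hq'
    obtain ⟨eK⟩ := mk K e' he' hb
    obtain ⟨y, s, hs', hy⟩ := exists_cyclic_of_fibre hs eK
    exact ⟨y, s, fun h => hs' (RingHom.mem_ker.1 (hker.ge h)), hy⟩
  obtain ⟨e', he'⟩ := hcorep S hsq
  -- a generator of the functions upstairs
  let ψ : (Q →ₗ[A] S) := (Algebra.linearMap A S).comp E.toLinearMap
  have hψ : Function.Bijective fun s : S => sc S (⊤ : X'.Opens) s * e' ψ := by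
    have h1 : Function.Bijective fun s : S => s • ψ := by
      refine ⟨fun a b hab => ?_, fun h => ⟨h (E.symm 1), LinearMap.ext fun y => ?_⟩⟩
      · simpa [ψ] using LinearMap.congr_fun hab (E.symm 1)
      · have : y = E y • E.symm 1 := E.injective (by simp)
        conv_rhs => rw [this, map_smul, Algebra.smul_def]
        simp [ψ, mul_comm]
    exact (funext fun s => he' s ψ : (fun s => e' (s • ψ)) = _) ▸ e'.bijective.comp h1
  obtain ⟨a, ha⟩ := hψ.2 1
  obtain ⟨b, hb⟩ := hψ.2 (e' ψ * e' ψ)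
  have hunit : IsUnit (e' ψ) := IsUnit.of_mul_eq_one (sc S (⊤ : X'.Opens) a) ((mul_comm _ _).trans ha)
  refine ⟨fun x y hxy => hψ.1 (congrArg (· * e' ψ) hxy), fun z => ?_⟩
  obtain ⟨s, hs⟩ := hψ.2 (z * e' ψ)
  exact ⟨s, hunit.mul_right_cancel hs⟩

variable {X Y : Scheme.{u}}

theorem bijective_sc_iff {A : Type u} [CommRing A] (X : Scheme.{u}) [X.Over (Spec (CommRingCat.of A))] :
    Function.Bijective (sc A (⊤ : X.Opens)) ↔ IsIso (X ↘ Spec (CommRingCat.of A)).appTop := by
  have h : ∀ a, sc A (⊤ : X.Opens) a =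
      (X ↘ Spec (CommRingCat.of A)).appTop ((Scheme.ΓSpecIso (CommRingCat.of A)).inv a) := fun a =>
    ConcreteCategory.congr_hom (X.presheaf.map_id (op ⊤))
      ((X ↘ Spec (CommRingCat.of A)).appTop ((Scheme.ΓSpecIso _).inv a))
  rw [ConcreteCategory.isIso_iff_bijective, show (sc A (⊤ : X.Opens) : A → Γ(X, ⊤)) =
    (X ↘ Spec (CommRingCat.of A)).appTop ∘ (Scheme.ΓSpecIso (CommRingCat.of A)).inv from funext h]
  exact Function.Bijective.of_comp_iff _ (ConcreteCategory.bijective_of_isIso _)

/-- Functions over an affine open are functions on the pullback to its spectrum. -/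
theorem isIso_app_iff_pullback (h : X ⟶ Y) {W : Y.Opens} (hW : IsAffineOpen W) :
    IsIso (h.app W) ↔ IsIso (pullback.snd h hW.fromSpec).appTop := by
  have hsq : IsPullback (h ⁻¹ᵁ W).ι ((h ∣_ W) ≫ hW.isoSpec.hom) h hW.fromSpec :=
    IsPullback.of_iso (isPullback_morphismRestrict h W).flip (Iso.refl _) (Iso.refl _) hW.isoSpec (Iso.refl _)
      (by simp) (by simp) (by simp) (by simp [← IsAffineOpen.isoSpec_inv_ι])
  rw [← hsq.isoPullback_inv_snd, Scheme.Hom.comp_appTop, Scheme.Hom.comp_appTop]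
  haveI h1 : IsIso (Scheme.Hom.appTop hW.isoSpec.hom) := inferInstanceAs (IsIso (hW.isoSpec.hom.app ⊤))
  haveI h2 : IsIso (Scheme.Hom.appTop hsq.isoPullback.inv) := inferInstanceAs (IsIso (hsq.isoPullback.inv.app ⊤))
  refine Iff.trans ?_ ((isIso_comp_right_iff _ _).trans (isIso_comp_left_iff _ _)).symm
  have key : ∀ U U' : Y.Opens, U = U' → (IsIso (h.app U) ↔ IsIso (h.app U')) := by rintro U _ rfl; rfl
  refine Iff.trans (key W (W.ι ''ᵁ ⊤) W.ι_image_top.symm) ?_
  rw [ConcreteCategory.isIso_iff_bijective, ConcreteCategory.isIso_iff_bijective, morphismRestrict_appTop]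
  have he : ∀ {U U' : X.Opens} (e : U = U'), Function.Bijective (X.presheaf.map (eqToHom e.symm).op) := by
    rintro U _ rfl
    exact ConcreteCategory.bijective_of_isIso _
  exact (Function.Bijective.of_comp_iff' (he (image_morphismRestrict_preimage h W ⊤).symm) _).symm

section Main

variable (f : X ⟶ Y) [IsProper f] [Flat f] [IsLocallyNoetherian Y]

/-- The pullback of an affine open chart along an affine open of a scheme over the base. -/
theorem isIso_app_affine (h1 : ∀ V : Y.Opens, IsIso (f.app V))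
    (hb : ∀ y : Y, Function.Bijective (algebraMap (Y.residueField y) Γ(f.fiber y, ⊤)))
    {T : Scheme.{u}} (g : T ⟶ Y) {V : Y.Opens} (hV : IsAffineOpen V) {W : T.Opens} (hW : IsAffineOpen W)
    (hWV : W ≤ g ⁻¹ᵁ V) : IsIso ((pullback.snd f g).app W) := by
  haveI : IsNoetherianRing Γ(Y, V) := IsLocallyNoetherian.component_noetherian ⟨V, hV⟩
  let p₁ : chartX f hV ⟶ X := pullback.fst f hV.fromSpec
  haveI : IsProper (chartX f hV ↘ Spec (CommRingCat.of Γ(Y, V))) := inferInstanceAs (IsProper (pullback.snd f hV.fromSpec))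
  haveI : Flat (chartX f hV ↘ Spec (CommRingCat.of Γ(Y, V))) := inferInstanceAs (Flat (pullback.snd f hV.fromSpec))
  have h0 : Function.Bijective (sc Γ(Y, V) (⊤ : (chartX f hV).Opens)) :=
    (bijective_sc_iff _).2 ((isIso_app_iff_pullback f hV).1 (h1 V))
  have hfib : ∀ m : Ideal Γ(Y, V), m.IsMaximal → ∃ (K : Type u) (_ : Field K) (_ : Algebra Γ(Y, V) K)
      (X' : Scheme.{u}) (_ : X'.Over (Spec (CommRingCat.of K))) (q : X' ⟶ chartX f hV),
        IsPullback q (X' ↘ Spec (CommRingCat.of K)) (chartX f hV ↘ Spec (CommRingCat.of Γ(Y, V)))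
          (Spec.map (CommRingCat.ofHom (algebraMap Γ(Y, V) K))) ∧
        Function.Surjective (algebraMap Γ(Y, V) K) ∧ RingHom.ker (algebraMap Γ(Y, V) K) = m ∧
        Function.Bijective (sc K (⊤ : X'.Opens)) := by
    intro m hm
    let y := hV.fromSpec ⟨m, hm.isPrime⟩
    have hy : y ∈ V := hV.range_fromSpec.le ⟨_, rfl⟩
    obtain ⟨φ, hφ, hker, hfrac⟩ := exists_chart_field hV y hy
    letI := φ.toAlgebra
    have hker' : RingHom.ker φ = m := by
      rw [hker]
      exact congrArg PrimeSpectrum.asIdeal (hV.fromSpec.isOpenEmbedding.injective (hV.fromSpec_primeIdealOf ⟨y, hy⟩))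
    have hsurj : Function.Surjective φ := fun c => by
      obtain ⟨a, w, ha, hw⟩ := hfrac c
      obtain ⟨b, hb'⟩ : ∃ b, φ (b * a) = 1 := by
        have ha' : a ∉ m := fun h => ha (RingHom.mem_ker.1 (hker'.ge h))
        obtain ⟨b, i, hi, hbi⟩ := Ideal.IsMaximal.exists_inv hm ha'
        refine ⟨b, ?_⟩
        have h2 := congrArg φ hbi
        rwa [map_add, map_one, RingHom.mem_ker.1 (hker'.ge hi), add_zero] at h2
      refine ⟨b * w, ?_⟩
      rw [map_mul] at hb' ⊢
      change φ b * algebraMap Γ(Y, V) (Y.residueField y) w = c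
      rw [← hw, ← mul_assoc]
      exact (congrArg (· * c) hb').trans (one_mul c)
    letI : (f.fiber y).Over (Spec (CommRingCat.of (Y.residueField y))) := ⟨f.fiberToSpecResidueField y⟩
    let q : f.fiber y ⟶ chartX f hV := pullback.lift (f.fiberι y)
      (f.fiberToSpecResidueField y ≫ Spec.map (CommRingCat.ofHom φ)) (by
        rw [Category.assoc]; exact (f.fiber_fac y).trans (congrArg (f.fiberToSpecResidueField y ≫ ·) hφ.symm))
    refine ⟨Y.residueField y, inferInstance, φ.toAlgebra, f.fiber y, inferInstance, q, ?_, hsurj, hker', ?_⟩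
    · refine IsPullback.of_right (h₁₂ := p₁) (v₁₃ := f) (h₂₂ := hV.fromSpec) ?_
        (pullback.lift_snd _ _ _) (IsPullback.of_hasPullback _ _)
      rw [show q ≫ p₁ = f.fiberι y from pullback.lift_fst _ _ _,
        show Spec.map (CommRingCat.ofHom (algebraMap Γ(Y, V) (Y.residueField y))) ≫ hV.fromSpec =
          Y.fromSpecResidueField y from hφ]
      exact IsPullback.of_hasPullback f (Y.fromSpecResidueField y)
    · have hsc : ⇑(sc (Y.residueField y) (⊤ : (f.fiber y).Opens)) = algebraMap _ Γ(f.fiber y, ⊤) := funext fun c =>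
        ConcreteCategory.congr_hom ((f.fiber y).presheaf.map_id (op ⊤))
          ((f.fiberToSpecResidueField y).appTop ((Scheme.ΓSpecIso _).inv c))
      rw [hsc]
      exact hb y
  letI : Algebra Γ(Y, V) Γ(T, W) := (g.appLE V W hWV).hom.toAlgebra
  let Z := pullback (pullback.snd f g) hW.fromSpec
  letI : Z.Over (Spec (CommRingCat.of Γ(T, W))) := ⟨pullback.snd (pullback.snd f g) hW.fromSpec⟩
  have hfac : Spec.map (g.appLE V W hWV) ≫ hV.fromSpec = hW.fromSpec ≫ g :=
    IsAffineOpen.SpecMap_appLE_fromSpec g hV hW hWV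
  let q : Z ⟶ chartX f hV := pullback.lift (pullback.fst (pullback.snd f g) hW.fromSpec ≫ pullback.fst f g)
    (pullback.snd (pullback.snd f g) hW.fromSpec ≫ Spec.map (g.appLE V W hWV)) (by
      rw [Category.assoc, Category.assoc, pullback.condition, hfac, ← Category.assoc, pullback.condition,
        Category.assoc])
  have hsq : IsPullback q (Z ↘ Spec (CommRingCat.of Γ(T, W))) (chartX f hV ↘ Spec (CommRingCat.of Γ(Y, V)))
      (Spec.map (CommRingCat.ofHom (algebraMap Γ(Y, V) Γ(T, W)))) := by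
    refine IsPullback.of_right (h₁₂ := p₁) (v₁₃ := f) (h₂₂ := hV.fromSpec) ?_
      (pullback.lift_snd _ _ _) (IsPullback.of_hasPullback _ _)
    rw [show q ≫ p₁ = pullback.fst _ _ ≫ pullback.fst f g from pullback.lift_fst _ _ _,
      show Spec.map (CommRingCat.ofHom (algebraMap Γ(Y, V) Γ(T, W))) ≫ hV.fromSpec = hW.fromSpec ≫ g from hfac]
    exact (IsPullback.of_hasPullback (pullback.snd f g) hW.fromSpec).paste_horiz (IsPullback.of_hasPullback f g)
  exact (isIso_app_iff_pullback _ hW).2
    ((bijective_sc_iff Z).1 (bijective_sc_baseChange Γ(Y, V) (chartX f hV) h0 hfib Γ(T, W) hsq))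

theorem bijective_algebraMap_fiber_iff (y : Y) :
    Function.Bijective (algebraMap (Y.residueField y) Γ(f.fiber y, ⊤)) ↔
      Module.finrank (Y.residueField y) Γ(f.fiber y, ⊤) = 1 := by
  refine ⟨fun h => ?_, fun h => ?_⟩
  · rw [← (LinearEquiv.ofBijective (Algebra.linearMap (Y.residueField y) Γ(f.fiber y, ⊤)) h).finrank_eq,
      Module.finrank_self]
  · haveI : Module.Finite (Y.residueField y) Γ(f.fiber y, ⊤) := Module.finite_of_finrank_eq_succ h
    haveI : Nontrivial Γ(f.fiber y, ⊤) := Module.nontrivial_of_finrank_eq_succ h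
    have hi : Function.Injective (Algebra.linearMap (Y.residueField y) Γ(f.fiber y, ⊤)) :=
      (algebraMap (Y.residueField y) Γ(f.fiber y, ⊤)).injective
    exact ⟨hi, (LinearMap.injective_iff_surjective_of_finrank_eq_finrank
      ((Module.finrank_self _).trans h.symm)).1 hi⟩

/-- Fibres with only constant functions iff `O = f_* O` universally. -/
theorem finrank_fibre_functions_eq_one_iff :
    (∀ y : Y, Module.finrank (Y.residueField y) Γ(f.fiber y, ⊤) = 1) ↔
      ∀ (T : Scheme.{u}) (g : T ⟶ Y) (U : T.Opens), IsIso ((pullback.snd f g).app U) := by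
  constructor
  · intro h T g U
    have hb := fun y => (bijective_algebraMap_fiber_iff f y).2 (h y)
    -- on the base
    have h1 : ∀ V : Y.Opens, IsIso (f.app V) := by
      haveI : IsIso (ClSub.unitToPush f) := by
        refine Groth.Agent.H10Coh.SheafHom.isIso_of_bijective_basis _
          (fun V => ∀ W : Y.Opens, W ≤ V → IsIso (f.app W)) (fun W x hx => ?_) fun V hV => ?_
        · obtain ⟨O, hxO, hO⟩ := Groth.Agent.S2393.result f x (hb x)
          exact ⟨O ⊓ W, fun W' hW' => hO W' (hW'.trans inf_le_left), ⟨hxO, hx⟩, inf_le_right⟩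
        · haveI := hV V le_rfl
          exact ConcreteCategory.bijective_of_isIso (f.app V)
      intro V
      have := ConcreteCategory.bijective_of_isIso ((ClSub.unitToPush f).app V)
      exact (ConcreteCategory.isIso_iff_bijective _).2 this
    haveI : IsIso (ClSub.unitToPush (pullback.snd f g)) := by
      refine Groth.Agent.H10Coh.SheafHom.isIso_of_bijective_basis _
        (fun W => IsAffineOpen W ∧ ∃ V : Y.Opens, IsAffineOpen V ∧ W ≤ g ⁻¹ᵁ V) (fun W x hx => ?_)
        fun W ⟨hW, V, hV, hWV⟩ => ?_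
      · obtain ⟨V, hV, hxV, -⟩ := exists_isAffineOpen_mem_and_subset (U := (⊤ : Y.Opens)) (x := g x) trivial
        obtain ⟨W', hW', hxW', hle⟩ := exists_isAffineOpen_mem_and_subset (U := W ⊓ g ⁻¹ᵁ V) (x := x) ⟨hx, hxV⟩
        exact ⟨W', ⟨hW', V, hV, fun z hz => (hle hz).2⟩, hxW', fun z hz => (hle hz).1⟩
      · haveI := isIso_app_affine f h1 hb g hV hW hWV
        exact ConcreteCategory.bijective_of_isIso ((pullback.snd f g).app W)
    exact (ConcreteCategory.isIso_iff_bijective _).2
      (ConcreteCategory.bijective_of_isIso ((ClSub.unitToPush (pullback.snd f g)).app U))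
  · intro h y
    refine (bijective_algebraMap_fiber_iff f y).1 ?_
    letI : (f.fiber y).Over (Spec (CommRingCat.of (Y.residueField y))) := ⟨f.fiberToSpecResidueField y⟩
    haveI := h _ (Y.fromSpecResidueField y) ⊤
    have hb := (bijective_sc_iff (A := Y.residueField y) (f.fiber y)).2
      (inferInstanceAs (IsIso ((pullback.snd f (Y.fromSpecResidueField y)).app ⊤)))
    have hsc : ⇑(sc (Y.residueField y) (⊤ : (f.fiber y).Opens)) = algebraMap _ Γ(f.fiber y, ⊤) := funext fun c =>
      ConcreteCategory.congr_hom ((f.fiber y).presheaf.map_id (op ⊤))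
        ((f.fiberToSpecResidueField y).appTop ((Scheme.ΓSpecIso _).inv c))
    rwa [hsc] at hb

end Main

end Groth.Agent.H12Pic
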