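import Groth.Agent.H12Pic.FieldDescent
import Groth.Agent.H12Pic.RigPoints
import Groth.Prelude.Def_PicF2
import Mathlib.FieldTheory.Galois.GaloisClosure

/-!
# Galois invariant line bundles descend in the presence of a rational point
-/

set_option autoImplicit false
set_option backward.isDefEq.respectTransparency false
set_option linter.style.haveILetI false
set_option linter.unusedSectionVars false

noncomputable section

universe u

open CategoryTheory CategoryTheory.Limits AlgebraicGeometry Opposite TopologicalSpace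
open Groth.Agent.H17.PullCl Groth.Agent.H13AlgSp

namespace Groth.Agent.H12Pic

variable {k : Type u} [Field k] {X : Scheme.{u}} (f : X ⟶ Spec (CommRingCat.of k))

/-- The graphs of the automorphisms cover the square of a finite Galois extension. -/
theorem exists_graph_preimage (K : Type u) [Field K] [Algebra k K] [Normal k K]
    (z : ↥(pullback (extObj k K).hom (extObj k K).hom)) :
    ∃ σ : K ≃ₐ[k] K, z ∈ Set.range (pullback.lift (𝟙 (extObj k K).left) (extHom σ.toAlgHom).left
      ((Category.id_comp _).trans (Over.w (extHom σ.toAlgHom)).symm) :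
        (extObj k K).left ⟶ pullback (extObj k K).hom (extObj k K).hom) := by
  let P := pullback (extObj k K).hom (extObj k K).hom
  obtain ⟨a, ha⟩ := Spec.map_surjective (P.fromSpecResidueField z ≫ pullback.fst (extObj k K).hom (extObj k K).hom)
  obtain ⟨b, hb⟩ := Spec.map_surjective (P.fromSpecResidueField z ≫ pullback.snd (extObj k K).hom (extObj k K).hom)
  have hab : CommRingCat.ofHom (algebraMap k K) ≫ a = CommRingCat.ofHom (algebraMap k K) ≫ b := by
    apply Spec.map_injective
    rw [Spec.map_comp, Spec.map_comp, ha, hb, Category.assoc, Category.assoc]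
    exact congrArg (P.fromSpecResidueField z ≫ ·) pullback.condition
  letI : Algebra K (P.residueField z) := a.hom.toAlgebra
  letI : Algebra k (P.residueField z) := ((CommRingCat.ofHom (algebraMap k K) ≫ a).hom).toAlgebra
  haveI : IsScalarTower k K (P.residueField z) := .of_algebraMap_eq fun _ => rfl
  letI : Algebra K K := Algebra.id K
  let ψ : K →ₐ[k] P.residueField z :=
    { b.hom with commutes' := fun c => (ConcreteCategory.congr_hom hab c).symm }
  let σ : K ≃ₐ[k] K := AlgEquiv.ofBijective (ψ.restrictNormal K) (AlgHom.normal_bijective k K K _)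
  have hσ : ∀ x, a (σ x) = b x := fun x => ψ.restrictNormal_commutes K x
  refine ⟨σ, Spec.map a default, ?_⟩
  have h : Spec.map a ≫ pullback.lift (𝟙 (extObj k K).left) (extHom σ.toAlgHom).left
      ((Category.id_comp _).trans (Over.w (extHom σ.toAlgHom)).symm) = P.fromSpecResidueField z := by
    apply pullback.hom_ext
    · rw [Category.assoc, pullback.lift_fst, ← ha]
      exact Category.comp_id _
    · rw [Category.assoc, pullback.lift_snd, ← hb]
      change Spec.map a ≫ Spec.map _ = Spec.map b
      rw [← Spec.map_comp]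
      exact congrArg Spec.map (CommRingCat.hom_ext (RingHom.ext fun x => hσ x))
  erw [← Scheme.Hom.comp_apply, h]
  exact Scheme.fromSpecResidueField_apply z _

theorem extHom_comp {A B C : Type u} [Field A] [Field B] [Field C] [Algebra k A] [Algebra k B] [Algebra k C]
    (a : A →ₐ[k] B) (b : B →ₐ[k] C) : extHom b ≫ extHom a = extHom (b.comp a) :=
  Over.OverMorphism.ext (by
    change Spec.map _ ≫ Spec.map _ = Spec.map _
    rw [← Spec.map_comp]
    rfl)

theorem twistAut_eq {K : Type u} [Field K] [Algebra k K] (σ : K ≃ₐ[k] K) :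
    PicF2.twistAut f σ = PicF.XTmap f (extHom σ.toAlgHom) := by
  apply pullback.hom_ext
  · exact ((pullback.lift_fst _ _ _).trans (Category.comp_id _)).trans (XTmap_fst (f := f) (extHom σ.toAlgHom)).symm
  · exact (pullback.lift_snd _ _ _).trans (XTmap_snd (f := f) (extHom σ.toAlgHom)).symm

variable [CompactSpace X] [QuasiSeparatedSpace X]

/-- Galois invariant classes descend, given a rational point. -/
theorem exists_galois_descends (h0 : IsIso f.appTop) (x : Spec (CommRingCat.of k) ⟶ X) (hx : x ≫ f = 𝟙 _)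
    (K' : Type u) [Field K'] [Algebra k K'] [IsGalois k K'] {d : PicF.Cl (PicF.XT f (extObj k K'))}
    (hd : PicF.IsInvertibleCl d) (hfix : ∀ σ : K' ≃ₐ[k] K', PicF.pullCl (PicF.XTmap f (extHom σ.toAlgHom)) d = d) :
    ∃ c : PicF.Cl X, PicF.IsInvertibleCl c ∧ PicF.pullCl (pullback.fst f (extObj k K').hom) c = d := by
  haveI := quasiCompact_of_field f
  obtain ⟨s, d₁, hd₁, hd₁'⟩ := exists_subfield_stage f K' hd
  let N := FiniteGaloisIntermediateField.adjoin k (s : Set K')
  let K : IntermediateField k K' := N.toIntermediateField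
  haveI : FiniteDimensional k K := N.finiteDimensional
  haveI : IsGalois k K := N.isGalois
  let i : IntermediateField.adjoin k (s : Set K') →ₐ[k] K :=
    IntermediateField.inclusion (IntermediateField.adjoin_le_iff.2 (FiniteGaloisIntermediateField.subset_adjoin k _))
  let dK := PicF.pullCl (PicF.XTmap f (extHom i)) d₁
  have hdK : PicF.IsInvertibleCl dK := isInvertibleCl_pullCl _ hd₁
  have hdK' : PicF.pullCl (PicF.XTmap f (extHom K.val)) dK = d := by
    rw [← pullCl_comp, ← Sep.XTmap_comp, extHom_comp]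
    exact hd₁'
  have hfixK : ∀ τ : K ≃ₐ[k] K, PicF.pullCl (PicF.XTmap f (extHom τ.toAlgHom)) dK = dK := fun τ => by
    refine pullCl_extHom_injective f h0 K.val (isInvertibleCl_pullCl _ hdK) hdK ?_
    have e : extHom K.val ≫ extHom τ.toAlgHom = extHom (τ.liftNormal K').toAlgHom ≫ extHom K.val := by
      rw [extHom_comp, extHom_comp]
      congr 1
      exact AlgHom.ext fun y => (τ.liftNormal_commutes K' y).symm
    rw [← pullCl_comp, ← Sep.XTmap_comp, e, Sep.XTmap_comp, pullCl_comp, hdK', hfix]
  have ha : ∀ (T : Over (Spec (CommRingCat.of k))) (U : T.left.Opens), IsIso ((PicF.XTproj f T).app U) := fun T U => by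
    haveI : Flat T.hom := inferInstance
    exact (ConcreteCategory.isIso_iff_bijective _).2
      (InvDesc.bijective_app_flat_baseChange f (bijective_app_of_isIso_appTop f h0) T.hom U)
  let T : Over (Spec (CommRingCat.of k)) := Over.mk (𝟙 _)
  let u : (extObj k K).left ⟶ T.left := (extObj k K).hom
  haveI : Algebra.FormallyEtale k K := (Algebra.FormallyEtale.iff_isSeparable k K).mpr inferInstance
  haveI : Algebra.FinitePresentation k K := Algebra.FinitePresentation.of_finiteType.mp inferInstance
  haveI : Algebra.Etale k K := {}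
  haveI : Etale u := (HasRingHomProperty.Spec_iff (P := @Etale)).2 (RingHom.etale_algebraMap.mpr ‹Algebra.Etale k K›)
  haveI : Surjective u := ⟨fun y => ⟨IsLocalRing.closedPoint K, Subsingleton.elim (α := PrimeSpectrum k) _ _⟩⟩
  let A := AbDual.ovr T u
  let ι : A ⟶ extObj k K := Over.homMk (𝟙 _) ((Category.id_comp _).trans (Category.comp_id _).symm)
  have hdA : PicF.IsInvertibleCl (PicF.pullCl (PicF.XTmap f ι) dK) := isInvertibleCl_pullCl _ hdK
  haveI : Subsingleton A.left := inferInstanceAs (Subsingleton (PrimeSpectrum K))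
  haveI : Nonempty A.left := inferInstanceAs (Nonempty (PrimeSpectrum K))
  let c' : PicF.Rig f x hx A := ⟨_, hdA, by
    obtain ⟨L, hL, hLi⟩ := hdA
    rw [← hL]
    exact Quot.sound (H25Theta.nonempty_iso_of_subsingleton (H11Ample.isInvertible_pullback _ hLi))⟩
  let T₂ := AbDual.ovr A (pullback.fst u u)
  let pr₂ : T₂ ⟶ A := Over.homMk (pullback.snd u u) (pullback.condition_assoc T.hom).symm
  let g : (K ≃ₐ[k] K) → ((extObj k K).left ⟶ T₂.left) := fun σ =>
    pullback.lift (𝟙 _) (extHom σ.toAlgHom).left ((Category.id_comp _).trans (Over.w (extHom σ.toAlgHom)).symm)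
  haveI : ∀ σ, IsOpenImmersion (g σ) := fun σ => by
    haveI : Etale (pullback.fst u u) := MorphismProperty.pullback_fst (P := @Etale) _ _ ‹_›
    have h : g σ ≫ pullback.fst u u = 𝟙 _ := pullback.lift_fst _ _ _
    haveI : IsSplitMono (g σ) := IsSplitMono.mk' ⟨pullback.fst u u, h⟩
    haveI : Etale (g σ ≫ pullback.fst u u) := by rw [h]; infer_instance
    haveI : Etale (g σ) := Etale.of_comp _ (pullback.fst u u)
    exact IsOpenImmersion.of_flat_of_mono _
  let gs : ULift.{u} (K ≃ₐ[k] K) → ((extObj k K).left ⟶ T₂.left) := fun σ => g σ.down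
  haveI : Flat (Sigma.desc gs) := IsZariskiLocalAtSource.sigmaDesc fun σ => inferInstanceAs (Flat (g σ.down))
  haveI : LocallyOfFinitePresentation (Sigma.desc gs) :=
    IsZariskiLocalAtSource.sigmaDesc fun σ => inferInstanceAs (LocallyOfFinitePresentation (g σ.down))
  haveI : Surjective (Sigma.desc gs) := ⟨fun z => by
    obtain ⟨σ, w, hw⟩ := exists_graph_preimage K z
    exact ⟨Sigma.ι (fun _ : ULift.{u} (K ≃ₐ[k] K) => (extObj k K).left) ⟨σ⟩ w,
      by rw [← Scheme.Hom.comp_apply, Sigma.ι_desc]; exact hw⟩⟩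
  obtain ⟨c, hc⟩ := RigDescent.exists_descended f hx ha T u c' (congrArg Subtype.val (RigDescent.eq_of_cover f hx ha T₂
    (Sigma.desc gs) (RigPoints.rigPull f hx (AbDual.ovrHom A (pullback.fst u u)) c') (RigPoints.rigPull f hx pr₂ c')
    (RigPoints.pullCl_eq_sigma f T₂ gs (RigPoints.rigPull f hx (AbDual.ovrHom A (pullback.fst u u)) c').2.1
      (RigPoints.rigPull f hx pr₂ c').2.1 fun σ => by
        change PicF.pullCl _ (PicF.pullCl _ (PicF.pullCl _ dK)) = PicF.pullCl _ (PicF.pullCl _ (PicF.pullCl _ dK))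
        let j : AbDual.ovr T₂ (gs σ) ⟶ extObj k K := Over.homMk (𝟙 _) (by
          change 𝟙 _ ≫ _ = gs σ ≫ pullback.fst u u ≫ u ≫ 𝟙 _
          rw [Category.comp_id, Category.id_comp, pullback.lift_fst_assoc]
          exact (Category.id_comp _).symm)
        have e₁ : AbDual.ovrHom T₂ (gs σ) ≫ AbDual.ovrHom A (pullback.fst u u) ≫ ι = j :=
          Over.OverMorphism.ext ((congrArg (gs σ ≫ ·) (Category.comp_id _)).trans (pullback.lift_fst _ _ _))
        have e₂ : AbDual.ovrHom T₂ (gs σ) ≫ pr₂ ≫ ι = j ≫ extHom σ.down.toAlgHom :=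
          Over.OverMorphism.ext ((congrArg (gs σ ≫ ·) (Category.comp_id _)).trans
            ((pullback.lift_snd _ _ _).trans (Category.id_comp _).symm))
        have hcl : ∀ (a : AbDual.ovr T₂ (gs σ) ⟶ T₂) (b : T₂ ⟶ A), PicF.pullCl (PicF.XTmap f a)
            (PicF.pullCl (PicF.XTmap f b) (PicF.pullCl (PicF.XTmap f ι) dK)) =
              PicF.pullCl (PicF.XTmap f (a ≫ b ≫ ι)) dK := fun a b => by
          rw [Sep.XTmap_comp, Sep.XTmap_comp, pullCl_comp, pullCl_comp]
        rw [hcl, hcl, e₁, e₂, Sep.XTmap_comp, pullCl_comp, hfixK])))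
  let l : X ⟶ PicF.XT f T := pullback.lift (𝟙 X) f (by rw [Category.id_comp]; exact (Category.comp_id f).symm)
  refine ⟨PicF.pullCl l c.1, isInvertibleCl_pullCl _ c.2.1, ?_⟩
  let gT : extObj k K' ⟶ T := Over.homMk (extObj k K').hom (Category.comp_id _)
  let ι' : extObj k K ⟶ A := Over.homMk (𝟙 _) ((Category.id_comp _).trans (Category.comp_id _))
  have hl : pullback.fst f (extObj k K').hom ≫ l = PicF.XTmap f gT := by
    apply pullback.hom_ext
    · rw [Category.assoc, pullback.lift_fst, Category.comp_id, XTmap_fst]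
    · rw [Category.assoc, pullback.lift_snd, XTmap_snd]
      exact pullback.condition
  have hgT : gT = extHom K.val ≫ ι' ≫ AbDual.ovrHom T u := Over.OverMorphism.ext
    ((Over.w (extHom K.val)).symm.trans (congrArg ((extHom K.val).left ≫ ·) (Category.id_comp _).symm))
  have hι : ι' ≫ ι = 𝟙 _ := Over.OverMorphism.ext (Category.id_comp _)
  rw [← pullCl_comp, hl, hgT, Sep.XTmap_comp, Sep.XTmap_comp, pullCl_comp, pullCl_comp, hc]
  change PicF.pullCl _ (PicF.pullCl _ (PicF.pullCl _ dK)) = d
  rw [← pullCl_comp (PicF.XTmap f ι'), ← Sep.XTmap_comp, hι, ← pullCl_comp, ← Sep.XTmap_comp, Category.comp_id, hdK']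

end Groth.Agent.H12Pic
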