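import Groth.Agent.H12Pic.InvertibleStage
import Groth.Agent.H12AlgSp.LimitAffineBase
import Groth.Agent.H11Ample.Tensor

/-!
# Invertible modules at a local ring of the base extend to a neighbourhood
-/

set_option autoImplicit false
set_option backward.isDefEq.respectTransparency false
set_option linter.style.haveILetI false
set_option linter.unusedSectionVars false

universe u

open CategoryTheory CategoryTheory.Limits AlgebraicGeometry Opposite TopologicalSpace
open Groth.Agent.H12AlgSp

namespace Groth.Agent.H12Pic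

variable {X S : Scheme.{u}}

instance isAffineHom_baseChange_map {A : CommRingCat.{u}} {X' : Scheme.{u}} (f' : X' ⟶ Spec A)
    {T T' : Over (Spec A)} [IsOpenImmersion T.hom] [IsAffineHom T'.hom] (φ : T' ⟶ T) :
    IsAffineHom ((Over.pullback f').map φ).left := by
  haveI : IsAffineHom ((Over.pullback f').obj T').hom :=
    MorphismProperty.pullback_snd (P := @IsAffineHom) T'.hom f' inferInstance
  haveI : IsSeparated ((Over.pullback f').obj T).hom := by
    have : Mono ((Over.pullback f').obj T).hom := inferInstanceAs (Mono (pullback.snd T.hom f'))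
    infer_instance
  haveI : IsAffineHom (((Over.pullback f').map φ).left ≫ ((Over.pullback f').obj T).hom) := by
    rw [Over.w]; infer_instance
  exact MorphismProperty.of_postcomp (W := @IsAffineHom) (W' := @IsSeparated) _ ((Over.pullback f').obj T).hom
    inferInstance inferInstance

/-- An invertible module on the base change to a local ring comes from a neighbourhood. -/
theorem exists_invertible_nhd (f : X ⟶ S) [QuasiCompact f] [QuasiSeparated f] (s : S)
    (L : (pullback f (S.fromSpecStalk s)).Modules) (hL : PicF.IsInvertible L) :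
    ∃ (V : S.Opens) (_ : s ∈ V) (L' : (↑(f ⁻¹ᵁ V) : Scheme.{u}).Modules), PicF.IsInvertible L' ∧
      ∀ (ι : pullback f (S.fromSpecStalk s) ⟶ ↑(f ⁻¹ᵁ V)),
        ι ≫ (f ⁻¹ᵁ V).ι = pullback.fst f (S.fromSpecStalk s) →
        Nonempty ((Scheme.Modules.pullback ι).obj L' ≅ L) := by
  obtain ⟨V₀, hV₀, hsV₀, -⟩ := exists_isAffineOpen_mem_and_subset (x := s) (U := (⊤ : S.Opens)) trivial
  let g : Spec Γ(S, V₀) ⟶ S := hV₀.fromSpec
  let f' := pullback.snd f g
  let y : ↥(V₀ : TopologicalSpace.Opens S) := ⟨s, hsV₀⟩
  let p : PrimeSpectrum Γ(S, V₀) := hV₀.primeIdealOf y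
  letI : Algebra Γ(S, V₀) (S.presheaf.stalk s) := TopCat.Presheaf.algebra_section_stalk S.presheaf y
  haveI : IsLocalization.AtPrime (S.presheaf.stalk s) p.asIdeal := hV₀.isLocalization_stalk y
  let loc := localOver (A := Γ(S, V₀)) (S.presheaf.stalk s)
  have hloc : loc.hom ≫ g = S.fromSpecStalk s := hV₀.fromSpecStalk_eq_fromSpecStalk hsV₀
  let F : Over (Spec Γ(S, V₀)) ⥤ Scheme.{u} := Over.pullback f' ⋙ Over.forget _
  let D := awaySystem p ⋙ F
  haveI : IsConnected (AwayIdx p)ᵒᵖ := IsCofiltered.isConnected _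
  let c : Cone D := F.mapCone (localCone p (S.presheaf.stalk s))
  have hc : IsLimit c := isLimitOfPreserves F (isLimitLocalCone p (S.presheaf.stalk s))
  haveI haff : ∀ (i j : (AwayIdx p)ᵒᵖ) (φ : i ⟶ j), IsAffineHom (D.map φ) := fun i j φ => by
    haveI : IsOpenImmersion ((awaySystem p).obj j).hom := inferInstanceAs (IsOpenImmersion (awayOver j.unop.1).hom)
    haveI : IsAffineHom ((awaySystem p).obj i).hom :=
      inferInstanceAs (IsAffineHom (Spec.map (CommRingCat.ofHom (algebraMap _ (Localization.Away i.unop.1)))))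
    exact isAffineHom_baseChange_map f' ((awaySystem p).map φ)
  let i₀ : (AwayIdx p)ᵒᵖ := op ⟨1, fun h => p.2.ne_top ((Ideal.eq_top_iff_one _).2 h)⟩
  haveI : IsAffine ((awaySystem p).obj i₀).left := inferInstanceAs (IsAffine (Spec _))
  haveI : CompactSpace (D.obj i₀) :=
    QuasiCompact.compactSpace_of_compactSpace (pullback.fst ((awaySystem p).obj i₀).hom f')
  haveI : QuasiSeparatedSpace (D.obj i₀) :=
    quasiSeparatedSpace_of_quasiSeparated (pullback.fst ((awaySystem p).obj i₀).hom f')
  -- the module on the limit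
  let e' : c.pt ⟶ pullback f (S.fromSpecStalk s) :=
    pullback.lift (pullback.snd loc.hom f' ≫ pullback.fst f g) (pullback.fst loc.hom f')
      (by rw [Category.assoc, pullback.condition, ← hloc, reassoc_of% pullback.condition (f := loc.hom) (g := f')])
  let b : pullback f (S.fromSpecStalk s) ⟶ pullback f g :=
    pullback.lift (pullback.fst f _) (pullback.snd f _ ≫ loc.hom) (by rw [Category.assoc, hloc]; exact pullback.condition)
  let e : pullback f (S.fromSpecStalk s) ⟶ c.pt :=
    pullback.lift (pullback.snd f _) b (pullback.lift_snd _ _ _).symm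
  have hee : e ≫ e' = 𝟙 _ := by
    apply pullback.hom_ext
    · rw [Category.assoc, pullback.lift_fst, Category.id_comp]
      erw [pullback.lift_snd_assoc]
      exact pullback.lift_fst _ _ _
    · rw [Category.assoc, pullback.lift_snd, Category.id_comp]
      exact pullback.lift_fst _ _ _
  obtain ⟨j, -, Lj, hLj, ⟨ψ⟩⟩ :=
    exists_invertible_stage hc i₀ (H11Ample.isInvertible_pullback e' hL : PicF.IsInvertible _)
  -- the neighbourhood
  let T := (awaySystem p).obj j
  haveI : IsOpenImmersion T.hom := inferInstanceAs (IsOpenImmersion (awayOver j.unop.1).hom)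
  let m := T.hom ≫ g
  have hpm : hV₀.fromSpec p = s := hV₀.fromSpec_primeIdealOf y
  have hsm : s ∈ m.opensRange := by
    obtain ⟨z, hz⟩ : ∃ z : T.left, T.hom z = p := by
      have hr : p ∈ Set.range (PrimeSpectrum.comap (algebraMap Γ(S, V₀) (Localization.Away j.unop.1))) := by
        rw [PrimeSpectrum.localization_away_comap_range (Localization.Away j.unop.1) j.unop.1]
        exact j.unop.2
      exact hr
    exact ⟨z, by rw [Scheme.Hom.comp_apply, hz]; exact hpm⟩
  let U := f ⁻¹ᵁ m.opensRange
  let l : U.toScheme ⟶ T.left := IsOpenImmersion.lift m (U.ι ≫ f) (by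
    rintro _ ⟨x, rfl⟩
    exact x.2)
  have hl : l ≫ m = U.ι ≫ f := IsOpenImmersion.lift_fac _ _ _
  let w : U.toScheme ⟶ D.obj j :=
    pullback.lift l (pullback.lift U.ι (l ≫ T.hom) (by rw [Category.assoc]; exact hl.symm)) (pullback.lift_snd _ _ _).symm
  let o : D.obj j ⟶ X := pullback.snd T.hom f' ≫ pullback.fst f g
  haveI : Mono o := by
    haveI : IsOpenImmersion (pullback.fst f g) := MorphismProperty.pullback_fst (P := @IsOpenImmersion) _ _ inferInstance
    infer_instance
  have hwo : w ≫ o = U.ι := by rw [← Category.assoc, pullback.lift_snd, pullback.lift_fst]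
  refine ⟨m.opensRange, hsm, (Scheme.Modules.pullback w).obj Lj, H11Ample.isInvertible_pullback _ hLj, fun ι hι => ?_⟩
  have hwe : ι ≫ w = e ≫ c.π.app j := by
    rw [← cancel_mono o, Category.assoc, hwo, hι, Category.assoc]
    have hπ : c.π.app j ≫ pullback.snd T.hom f' = pullback.snd loc.hom f' := pullback.lift_snd _ _ _
    rw [show c.π.app j ≫ o = pullback.snd loc.hom f' ≫ pullback.fst f g by rw [← hπ]; exact (Category.assoc _ _ _).symm]
    erw [pullback.lift_snd_assoc]
    exact (pullback.lift_fst _ _ _).symm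
  exact ⟨(Scheme.Modules.pullbackComp ι w).app Lj ≪≫ (Scheme.Modules.pullbackCongr hwe).app Lj ≪≫
    ((Scheme.Modules.pullbackComp e _).app Lj).symm ≪≫ (Scheme.Modules.pullback e).mapIso ψ ≪≫
    (Scheme.Modules.pullbackComp e e').app L ≪≫ (Scheme.Modules.pullbackCongr hee).app L ≪≫
    (Scheme.Modules.pullbackId _).app L⟩

end Groth.Agent.H12Pic
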