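import Groth.Agent.H11Norm.Line
import Groth.Agent.H11Ample.RelQuasiAffine
import Groth.Agent.H22Alg.FiniteDegree
import Groth.Agent.S9716
import Groth.Agent.H7Flat.PowerRoot

/-!
The degree-th power of an invertible module trivialised by a finite locally free morphism is trivial.
-/

set_option autoImplicit false
set_option linter.style.haveILetI false

noncomputable section

universe u

open CategoryTheory CategoryTheory.Limits AlgebraicGeometry Opposite TopologicalSpace
open Groth.Agent.H11Tilde Groth.Agent.H11Ample Groth.Agent.H11Norm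

namespace Groth.Agent.H12Pic

variable {X X' : Scheme.{u}}

theorem exists_chart_deg (f : X' ⟶ X) (d : ℕ) (hf : Mor2.IsFinLocFreeOfDeg d f) (x : X) :
    ∃ U : X.Opens, x ∈ U ∧ IsChart f U d := by
  obtain ⟨hFL, hd⟩ := hf
  haveI := hFL.1
  haveI := hFL.2.1
  obtain ⟨U, r, hxU, hc⟩ := exists_chart_of_isFinLocFree (g := f) ((Groth.Agent.S9716.result f).2 hFL).2 x
  obtain ⟨V, hV, hxV, hVU⟩ := exists_isAffineOpen_mem_and_subset hxU
  have h1 := H22Alg.FiniteDegree.finrank_eq_rankAtStalk f hV ⟨x, hxV⟩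
  letI := alg f V
  haveI : Nontrivial Γ(X, V) := PrimeSpectrum.nonempty_iff_nontrivial.1 ⟨hV.primeIdealOf ⟨x, hxV⟩⟩
  obtain ⟨m, hm⟩ := id hc
  obtain ⟨b, -⟩ := hm V hVU
  haveI := Module.Free.of_basis b
  haveI := Module.Finite.of_basis b
  have h2 : Module.rankAtStalk Γ(X', f ⁻¹ᵁ V) (hV.primeIdealOf ⟨x, hxV⟩) = r := by
    rw [Module.rankAtStalk_eq_finrank_of_free, Pi.natCast_apply, Nat.cast_id, Module.finrank_eq_card_basis b,
      Fintype.card_fin]
  have h3 : r = d := h2.symm.trans (h1.symm.trans (hd x))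
  exact ⟨U, hxU, h3 ▸ hc⟩

/-- The degree-th power of a module trivialised by a finite locally free morphism is trivial. -/
theorem tensorPow_trivial_of_pullback (f : X' ⟶ X) (d : ℕ) (hf : Mor2.IsFinLocFreeOfDeg d f) (L : X.Modules)
    (hL : PicF.IsInvertible L)
    (htriv : Nonempty ((Scheme.Modules.pullback f).obj L ≅ Coh.structureModule X')) :
    Nonempty (CohB1.tensorPow L d ≅ Coh.structureModule X) := by
  classical
  obtain ⟨φ⟩ := htriv
  let Q := (Scheme.Modules.pullback f).obj L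
  let s₀ : Γ(Q, (⊤ : X'.Opens)) := φ.inv.app ⊤ (one ⊤)
  have hs₀ : IsGen Q s₀ := isGen_map_iso φ.symm (isGen_one ⊤)
  choose U hxU hU using exists_chart_deg f d hf
  choose V₀ e₀ hxV₀ he₀ using exists_gen hL
  let W : X → X.Opens := fun x => U x ⊓ V₀ x
  let e : ∀ x, Γ(L, W x) := fun x => L.presheaf.map (homOfLE (inf_le_right : W x ≤ V₀ x)).op (e₀ x)
  have he : ∀ x, IsGen L (e x) := fun x => (he₀ x).res _
  have hp : ∀ x, IsGen Q (OmegaSh.pullSect f L (W x) (e x)) := fun x => IsGen.pullSect f (he x)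
  choose a ha using fun x => exists_coeff (hp x)
    (Q.presheaf.map (homOfLE (le_top : f ⁻¹ᵁ W x ≤ ⊤)).op s₀)
  have hau : ∀ x, IsUnit (a x) := fun x => H7Flat.PowerRoot.isUnit_coeff (hp x) (hs₀.res _) (ha x)
  let nh : ∀ O : X.Opens, Γ(X', f ⁻¹ᵁ O) →* Γ(X, O) := fun O =>
    { toFun := nrm f d O
      map_one' := nrm_one f d O
      map_mul' := nrm_mul f d O }
  let P := CohB1.tensorPow L d
  let T : ∀ x, Γ(P, W x) := fun x => nh (W x) (a x) • spow (e x) d
  have compat : ∀ x y, P.presheaf.map (homOfLE (inf_le_left : W x ⊓ W y ≤ W x)).op (T x) =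
      P.presheaf.map (homOfLE (inf_le_right : W x ⊓ W y ≤ W y)).op (T y) := by
    intro x y
    let O := W x ⊓ W y
    obtain ⟨c, hc⟩ := exists_coeff ((he y).res (inf_le_right : O ≤ W y))
      (L.presheaf.map (homOfLE (inf_le_left : O ≤ W x)).op (e x))
    have key : res (f.preimage_mono (inf_le_left : O ≤ W x)) (a x) * f.app O c =
        res (f.preimage_mono (inf_le_right : O ≤ W y)) (a y) := by
      have h0 := congrArg (OmegaSh.pullSect f L O) hc
      rw [OmegaSh.pullSect_smul, pullSect_res f L (inf_le_left : O ≤ W x) (e x),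
        pullSect_res f L (inf_le_right : O ≤ W y) (e y)] at h0
      have hx := congrArg (Q.presheaf.map
        (homOfLE (f.preimage_mono (inf_le_left : O ≤ W x))).op) (ha x)
      have hy := congrArg (Q.presheaf.map
        (homOfLE (f.preimage_mono (inf_le_right : O ≤ W y))).op) (ha y)
      rw [Scheme.Modules.map_smul, H10Coh.mres_mres] at hx hy
      refine (((hp y).res (f.preimage_mono (inf_le_right : O ≤ W y))).bijective le_rfl).1 ?_
      beta_reduce
      rw [H10Coh.mres_self, mul_smul, ← h0]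
      exact hx.symm.trans hy
    rw [Scheme.Modules.map_smul, Scheme.Modules.map_smul, spow_res, spow_res, hc, spow_smul, smul_smul]
    refine congrArg (· • _) ?_
    change res _ (nrm f d _ _) * _ = res _ (nrm f d _ _)
    rw [(hU x).nrm_natural d inf_le_left (inf_le_left : O ≤ W x),
      (hU y).nrm_natural d inf_le_left (inf_le_right : O ≤ W y),
      ← (hU x).nrm_app dvd_rfl ((inf_le_left : O ≤ W x).trans inf_le_left) c, ← nrm_mul, key]
  have hcov : ∀ x, x ∈ W x := fun x => ⟨hxU x, hxV₀ x⟩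
  obtain ⟨t, ht, -⟩ := TopCat.Sheaf.existsUnique_gluing' (H10Coh.sheafOf P) W ⊤ (fun x => homOfLE le_top)
    (fun x _ => Opens.mem_iSup.2 ⟨x, hcov x⟩) T compat
  have hT : ∀ x, IsGen P (T x) := fun x => by
    have h := isGen_res (isGen_spow (he x) d) (le_refl (W x)) ((hau x).map (nh (W x)))
    rw [H10Coh.mres_self] at h
    exact h
  have htgen : IsGen P (show Γ(P, (⊤ : X.Opens)) from t) := fun y hy => by
    have h := hT y y (hcov y)
    rw [← ht y] at h
    rw [show P.presheaf.germ ⊤ y hy t = P.presheaf.germ (W y) y (hcov y)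
        ((H10Coh.sheafOf P).obj.map (homOfLE (le_top : W y ≤ ⊤)).op t) from
      (TopCat.Presheaf.germ_res_apply P.presheaf (homOfLE (le_top : W y ≤ ⊤)) y (hcov y) t).symm]
    exact h
  obtain ⟨ψ, -⟩ := exists_iso_of_gen (fun _ : PUnit.{1} => (⊤ : X.Opens)) (fun _ => ⟨⟨⟩, trivial⟩)
    (fun _ => (show Γ(P, (⊤ : X.Opens)) from t)) (fun _ => htgen) (fun _ => one ⊤) (fun _ => isGen_one ⊤)
    fun _ _ w hw => by
      have := ((htgen.res (inf_le_right : (⊤ : X.Opens) ⊓ ⊤ ≤ ⊤)).bijective le_rfl).1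
        (a₁ := (1 : Γ(X, ⊤ ⊓ ⊤))) (a₂ := w) (by beta_reduce; rw [H10Coh.mres_self, one_smul]; exact hw)
      rw [← this, one_smul]
  exact ⟨ψ⟩

end Groth.Agent.H12Pic
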