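import Groth.Agent.H28Int.Surface
import Groth.Agent.H28Int.Curves
import Groth.Agent.H22Alg.GenCurves
import Groth.Agent.H8Props.ProjOpenAmple
import Groth.Agent.H8Props.FieldDimFormula
import Groth.Prelude.Def_Pic13

/-!
# Curves through the zeros of a section, and the degree of a section on a curve
-/

set_option autoImplicit false
set_option linter.style.haveILetI false
set_option linter.unusedSectionVars false

noncomputable section

universe u

open CategoryTheory CategoryTheory.Limits AlgebraicGeometry TopologicalSpace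
open Groth.Agent.H8Props.FieldDim

namespace Groth.Agent.H12Pic.SectionCurve

/-- Below a prime of height at least two there is a nonzero prime avoiding a given element. -/
theorem exists_prime_notMem {B : Type u} [CommRing B] [IsDomain B] [IsNoetherianRing B] (m : Ideal B)
    [hm : m.IsMaximal] (hh : 2 ≤ m.height) {c : B} (hc : c ≠ 0) :
    ∃ r : Ideal B, r.IsPrime ∧ r ≠ ⊥ ∧ r ≤ m ∧ c ∉ r := by
  classical
  let s := ((Ideal.span {c}).finite_minimalPrimes_of_isNoetherianRing).toFinset
  have hs : ∀ r ∈ s, r ∈ (Ideal.span {c}).minimalPrimes := fun r hr => (Set.Finite.mem_toFinset _).1 hr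
  have hne : ∀ r ∈ s, ¬ m ≤ r := fun r hr h => by
    have he : m = r := hm.eq_of_le (hs r hr).1.1.ne_top h
    have h1 := Ideal.height_le_one_of_isPrincipal_of_mem_minimalPrimes (Ideal.span {c}) r (hs r hr)
    rw [← he] at h1
    exact absurd (hh.trans h1) (by norm_num)
  obtain ⟨g, hgm, hg⟩ : ∃ g ∈ m, g ∉ ⋃ r ∈ ((insert ⊥ s : Finset (Ideal B)) : Set (Ideal B)), (r : Set B) := by
    refine Set.not_subset.1 fun h => ?_
    obtain ⟨r, hr, hmr⟩ := (Ideal.subset_union_prime (I := m) (f := id) ⊥ ⊥ fun r hr _ _ => by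
      rcases Finset.mem_insert.1 hr with rfl | hr'
      · exact Ideal.isPrime_bot
      · exact (hs r hr').1.1).1 h
    rcases Finset.mem_insert.1 hr with rfl | hr'
    · have : m = ⊥ := le_bot_iff.1 hmr
      rw [this, Ideal.height_bot] at hh
      simp at hh
    · exact hne r hr' hmr
  simp only [Set.mem_iUnion, Finset.mem_coe, Finset.mem_insert, not_exists] at hg
  have hg0 : g ≠ 0 := fun h => hg ⊥ (Or.inl rfl) (by simp [h])
  obtain ⟨r, hr, hrm⟩ := Ideal.exists_minimalPrimes_le (I := Ideal.span {g}) (J := m)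
    ((Ideal.span_singleton_le_iff_mem _).2 hgm)
  haveI : r.IsPrime := hr.1.1
  have hgr : g ∈ r := hr.1.2 (Ideal.mem_span_singleton_self g)
  refine ⟨r, inferInstance, fun h => hg0 (by simpa [h] using hgr), hrm, fun hcr => ?_⟩
  obtain ⟨r', hr', hle⟩ := Ideal.exists_minimalPrimes_le (I := Ideal.span {c}) (J := r)
    ((Ideal.span_singleton_le_iff_mem _).2 hcr)
  haveI : r'.IsPrime := hr'.1.1
  rcases hle.lt_or_eq with h | h
  · have h1 := Ideal.height_le_one_of_isPrincipal_of_mem_minimalPrimes (Ideal.span {g}) r hr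
    have h2 : r'.height = 0 := by
      have := (Ideal.height_strict_mono_of_isPrime h).trans_le h1
      exact Order.lt_one_iff.1 this
    have h3 : r' = ⊥ := by
      rw [Ideal.height_eq_zero_iff, IsDomain.minimalPrimes_eq_singleton_bot] at h2
      exact h2
    exact hc (by simpa [h3] using hr'.1.2 (Ideal.mem_span_singleton_self c))
  · exact hg r' (Or.inr ((Set.Finite.mem_toFinset _).2 hr')) (h ▸ hgr)

variable {X : Scheme.{u}} (k : Type u) [Field k] [X.Over (Spec (CommRingCat.of k))]
  [IsProper (X ↘ Spec (CommRingCat.of k))]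

include k in
/-- Through a zero of a section passes a curve on which it does not vanish identically. -/
theorem exists_curve_through {L : X.Modules} (hL : PicF.IsInvertible L) (g : Γ(L, ⊤)) {ξ : X}
    (hξ : ξ ∈ H11Ample.gen L g) {x : X} (hξx : ξ ⤳ x) (hxc : IsClosed ({x} : Set X))
    (hxg : x ∉ H11Ample.gen L g) :
    ∃ w : X, w ∈ H11Ample.gen L g ∧ w ⤳ x ∧ cdim w = 1 := by
  let f := X ↘ Spec (CommRingCat.of k)
  haveI := H28Int.isNoetherian k (X := X)
  let T : Set (Closeds X) := {C | ∃ w ∈ H11Ample.gen L g, w ⤳ x ∧ (C : Set X) = closure {w}}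
  obtain ⟨C, ⟨w, hwg, hwx, hC⟩, hmin⟩ :=
    wellFounded_lt.has_min T ⟨⟨closure {ξ}, isClosed_closure⟩, ξ, hξ, hξx, rfl⟩
  refine ⟨w, hwg, hwx, ?_⟩
  obtain ⟨n, hn⟩ := exists_nat_cdim f w
  have h1 : cdim x < cdim w := cdim_lt f hwx fun e => hxg (e ▸ hwg)
  have hn0 : n ≠ 0 := by
    rintro rfl
    obtain ⟨a, ha⟩ := exists_nat_cdim f x
    rw [ha, hn] at h1
    exact absurd (Nat.cast_lt.1 h1) (by omega)
  by_contra hne
  have hn2 : 2 ≤ n := by
    rcases Nat.lt_or_ge n 2 with h | h
    · exact absurd (show cdim w = 1 by rw [hn, show n = 1 by omega]; rfl) hne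
    · exact h
  obtain ⟨V, e, hxV, he⟩ := H11Ample.exists_gen hL x
  obtain ⟨W, hW, hxW, hWV⟩ := exists_isAffineOpen_mem_and_subset (x := x) (U := V) hxV
  obtain ⟨c, hc⟩ := H11Ample.exists_coeff (he.res hWV) (L.presheaf.map (homOfLE (le_top : W ≤ ⊤)).op g)
  have hgen : H11Ample.gen L g ⊓ W = X.basicOpen c := H11Ample.gen_inf_eq_basicOpen (he.res hWV) g c hc
  have hmem : ∀ q : PrimeSpectrum Γ(X, W), hW.fromSpec q ∈ H11Ample.gen L g ↔ c ∉ q.asIdeal := fun q => by
    have hqW : hW.fromSpec q ∈ W := hW.range_fromSpec.le ⟨q, rfl⟩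
    have h := SetLike.ext_iff.1 (hW.fromSpec_preimage_basicOpen c) q
    change hW.fromSpec q ∈ X.basicOpen c ↔ c ∉ q.asIdeal at h
    rw [← hgen] at h
    exact ⟨fun hg => (h.1 ⟨hg, hqW⟩), fun hq => (h.2 hq).1⟩
  obtain ⟨p, hp⟩ : w ∈ Set.range hW.fromSpec := by rw [hW.range_fromSpec]; exact hwx.mem_open W.2 hxW
  obtain ⟨q, hq⟩ : x ∈ Set.range hW.fromSpec := by rw [hW.range_fromSpec]; exact hxW
  subst hp hq
  have hpq : p.asIdeal ≤ q.asIdeal :=
    (PrimeSpectrum.le_iff_specializes p q).2 (hW.fromSpec.isOpenEmbedding.isInducing.specializes_iff.1 hwx)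
  haveI hqm : q.asIdeal.IsMaximal := by
    refine (PrimeSpectrum.isClosed_singleton_iff_isMaximal q).1 ?_
    have h := hxc.preimage hW.fromSpec.continuous
    rwa [← Set.image_singleton, hW.fromSpec.isOpenEmbedding.injective.preimage_image] at h
  obtain ⟨alg, hj⟩ := exists_algebra_chart f (A := Γ(X, W)) hW.fromSpec
  haveI := finiteType_of_chart f (A := Γ(X, W)) hW.fromSpec hj
  haveI : IsNoetherianRing Γ(X, W) := Algebra.FiniteType.isNoetherianRing k _
  let B := Γ(X, W) ⧸ p.asIdeal
  let π : Γ(X, W) →+* B := Ideal.Quotient.mk p.asIdeal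
  let m : PrimeSpectrum B := ⟨q.asIdeal.map π, Ideal.map_isPrime_of_surjective Ideal.Quotient.mk_surjective
    (by rw [Ideal.mk_ker]; exact hpq)⟩
  have hcomap : m.asIdeal.comap π = q.asIdeal := by
    show (q.asIdeal.map π).comap π = q.asIdeal
    rw [Ideal.comap_map_of_surjective π Ideal.Quotient.mk_surjective, ← RingHom.ker_eq_comap_bot, Ideal.mk_ker,
      sup_eq_left]
    exact hpq
  haveI : m.asIdeal.IsMaximal := by
    refine (Ideal.map_eq_top_or_isMaximal_of_surjective π Ideal.Quotient.mk_surjective hqm).resolve_left fun h => ?_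
    exact m.2.ne_top h
  have hh : 2 ≤ m.asIdeal.height := by
    have h2 := height_add_dim_quotient_eq_iSup (k := k) B m
    letI := Ideal.Quotient.field m.asIdeal
    rw [ringKrullDim_eq_zero_of_isField (Field.toIsField (B ⧸ m.asIdeal)), add_zero] at h2
    have h3 : ((2 : ℕ) : WithBot ℕ∞) ≤ (m.asIdeal.height : WithBot ℕ∞) := by
      rw [h2]
      refine le_iSup_of_le ⟨⟨⊥, Ideal.isPrime_bot⟩, bot_le (a := m.asIdeal)⟩ ?_
      refine le_trans ?_ (ringKrullDim_eq_of_ringEquiv (RingEquiv.quotientBot B)).ge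
      erw [← cdim_eq_chart f (A := Γ(X, W)) hW.fromSpec p]
      rw [hn]
      exact Nat.cast_le.2 hn2
    exact WithBot.coe_le_coe.1 h3
  have hc0 : π c ≠ 0 := fun h => (hmem p).1 hwg (Ideal.Quotient.eq_zero_iff_mem.1 h)
  obtain ⟨r, hr, hr0, hrm, hcr⟩ := exists_prime_notMem m.asIdeal hh hc0
  let v : PrimeSpectrum Γ(X, W) := ⟨r.comap π, hr.comap π⟩
  have hpv : p.asIdeal ≤ v.asIdeal := fun a ha => by
    show π a ∈ r
    rw [show π a = 0 from Ideal.Quotient.eq_zero_iff_mem.2 ha]
    exact r.zero_mem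
  refine hmin ⟨closure {hW.fromSpec v}, isClosed_closure⟩ ⟨_, (hmem v).2 hcr,
    ((PrimeSpectrum.le_iff_specializes v q).1 ((Ideal.comap_mono hrm).trans hcomap.le)).map
      hW.fromSpec.continuous, rfl⟩ (lt_of_le_of_ne ?_ fun h => hr0 ?_)
  · show closure ({hW.fromSpec v} : Set X) ⊆ C
    rw [hC]
    exact closure_minimal (Set.singleton_subset_iff.2 ((((PrimeSpectrum.le_iff_specializes p v).1 hpv).map
      hW.fromSpec.continuous).mem_closure)) isClosed_closure
  · have h' : closure ({hW.fromSpec v} : Set X) = closure {hW.fromSpec p} :=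
      (congrArg (fun D : Closeds X => (D : Set X)) h).trans hC
    have h'' : hW.fromSpec v = hW.fromSpec p := by
      have a := specializes_iff_mem_closure.2 (h'.ge (subset_closure rfl))
      have b := specializes_iff_mem_closure.2 (h'.le (subset_closure rfl))
      exact (a.antisymm b).eq
    have h''' : r.comap π = p.asIdeal :=
      congrArg PrimeSpectrum.asIdeal (hW.fromSpec.isOpenEmbedding.injective h'')
    rw [← Ideal.map_comap_of_surjective π Ideal.Quotient.mk_surjective r, h''', Ideal.map_quotient_self]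

/-- On an integral proper curve a section with a zero has positive degree. -/
theorem curveDeg_pos {Y : Scheme.{u}} [Y.Over (Spec (CommRingCat.of k))]
    [IsProper (Y ↘ Spec (CommRingCat.of k))] [IsIntegral Y] (hY : topologicalKrullDim Y = 1) {M : Y.Modules}
    (hM : PicF.IsInvertible M) {g : Γ(M, ⊤)} (hg : g ≠ 0) {w : Y} (hw : w ∉ H11Ample.gen M g) :
    0 < Pic13.curveDeg k (Y ↘ Spec (CommRingCat.of k)) M := by
  haveI := H28Int.isNoetherian k (X := Y)
  obtain ⟨M', hM', ⟨e⟩⟩ := H11Sym.exists_inverse hM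
  have hnil : ∀ B ∈ ([] : List Y.Modules), PicF.IsInvertible B := by simp
  let O := Coh.structureModule Y
  have hO : Coh.IsCoh O := H28Int.Surface.isCoh_structure k
  have hdY : topologicalKrullDim Y ≤ ((([] : List Y.Modules).length + 1 : ℕ) : WithBot ℕ∞) := by
    simpa using hY.le
  obtain ⟨C, hC, hCd, -, hCw, hD⟩ := H28Int.Surface.exists_zero_locus k hnil hdY hM hM'
    (H10Coh.Tw.commIso M M' ≪≫ e) hg
  obtain ⟨a, ha⟩ := exists_nat_cdim (Y ↘ Spec (CommRingCat.of k)) w
  have hpos := (H28Int.pos_of_ample k [] (by simp) C hC hCd).2 ⟨w, hCw w hw, by rw [ha]; exact Nat.cast_le.2 (Nat.zero_le _)⟩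
  have hdO : topologicalKrullDim (CohB1.support O) ≤ ((([] : List Y.Modules).length + 1 : ℕ) : WithBot ℕ∞) :=
    (Topology.IsInducing.subtypeVal.topologicalKrullDim_le).trans hdY
  have hsum := H28Int.D_cons_tensor k hnil hM hM' hO (F := O) hdO
  have hc : ∀ {B B' : Y.Modules}, (B ≅ B') → H28Int.D k [B] O = H28Int.D k [B'] O := fun {B B'} ψ => by
    show Curv2.euler k Y _ - Curv2.euler k Y _ = Curv2.euler k Y _ - Curv2.euler k Y _
    rw [H25Euler.euler_congr (PicGrp.tensorModIso ψ (Iso.refl O))]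
  rw [hc (H10Coh.Tw.commIso M M' ≪≫ e), H28Int.D_cons_structure k hnil, hD] at hsum
  rw [H28Int.Curves.curveDeg_eq k hY hM]
  linarith

/-- A numerically trivial invertible module with a nonzero section on an integral proper scheme is trivial. -/
theorem nonempty_iso_of_numTrivial [IsIntegral X] {L : X.Modules} (hL : PicF.IsInvertible L)
    (hnum : Pic13.IsNumEquivZero k X L) (s : Coh.structureModule X ⟶ L) (hs : s ≠ 0) :
    Nonempty (L ≅ Coh.structureModule X) := by
  haveI := H28Int.isNoetherian k (X := X)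
  let g := SecTwist.val s ⊤
  have hgen : CohB1.genLocus L s = H11Ample.gen L g := H11Ample.genLocus_eq_gen s
  have hsg : H11Tilde.homOfGlobal L g = s := by
    refine Scheme.Modules.hom_ext _ _ fun W => ?_
    ext r
    exact (H06Mod.app_unit s W r).symm
  have hg : g ≠ 0 := fun h => hs (by
    rw [← hsg, h]
    refine Scheme.Modules.hom_ext _ _ fun W => ?_
    ext r
    show (show Γ(X, W) from r) • L.presheaf.map (homOfLE (le_top : W ≤ ⊤)).op 0 = 0
    rw [map_zero, smul_zero])
  by_cases htop : H11Ample.gen L g = ⊤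
  · haveI : IsIso (H11Tilde.homOfGlobal L g) := H11Tilde.isIso_homOfGlobal L g fun V => by
      have h := (H11Ample.isGen_gen g).bijective ((le_top : V ≤ ⊤).trans htop.ge)
      simp only [H10Coh.mres_mres] at h
      exact h
    exact ⟨(asIso (H11Tilde.homOfGlobal L g)).symm⟩
  exfalso
  have hne : ((H11Ample.gen L g : Set X)ᶜ).Nonempty := by
    rw [Set.nonempty_compl]; exact fun h => htop (Opens.ext h)
  obtain ⟨x, hxg, hxc⟩ := (H11Ample.gen L g).isOpen.isClosed_compl.exists_closed_singleton hne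
  obtain ⟨w, hwg, hwx, hw⟩ := exists_curve_through k hL g (H28Int.Surface.generic_mem_gen hL hg)
    (genericPoint_specializes x) hxc hxg
  let J := Scheme.IdealSheafData.vanishingIdeal (H22Alg.DevLength.cl w)
  let i := J.subschemeι
  obtain ⟨t, ht⟩ : w ∈ Set.range i := by
    rw [H17.range_vanishingIdeal_subschemeι]
    exact subset_closure rfl
  haveI : IrreducibleSpace J.subscheme := by
    have h1 : closure ({t} : Set J.subscheme) = Set.univ := Set.eq_univ_of_forall fun y => by
      refine (i.isEmbedding.isInducing.specializes_iff.1 ?_).mem_closure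
      rw [ht, specializes_iff_mem_closure]
      have h' := Set.mem_range_self (f := i) y
      rw [H17.range_vanishingIdeal_subschemeι] at h'
      exact h'
    exact (irreducibleSpace_def _).2 (by
      have h2 := (isIrreducible_singleton (x := t)).closure
      rw [h1] at h2
      exact h2)
  haveI : IsReduced J.subscheme := H17.isReduced_vanishingIdeal_subscheme _
  haveI : IsIntegral J.subscheme := isIntegral_of_irreducibleSpace_of_isReduced _
  letI : J.subscheme.Over (Spec (CommRingCat.of k)) := ⟨i ≫ (X ↘ Spec (CommRingCat.of k))⟩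
  haveI : IsProper (J.subscheme ↘ Spec (CommRingCat.of k)) :=
    inferInstanceAs (IsProper (i ≫ (X ↘ Spec (CommRingCat.of k))))
  have hJ : topologicalKrullDim J.subscheme = 1 := by
    rw [← hw, i.isClosedEmbedding.isEmbedding.toHomeomorph.isHomeomorph.topologicalKrullDim_eq,
      H17.range_vanishingIdeal_subschemeι]
    rfl
  let g' := H11Ample.pullTop i g
  have hgen' : H11Ample.gen ((Scheme.Modules.pullback i).obj L) g' = i ⁻¹ᵁ H11Ample.gen L g :=
    H8Props.ProjOpenAmple.gen_pullTop i (fun y => H11Ample.exists_gen hL (i y)) g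
  have htg : t ∈ H11Ample.gen ((Scheme.Modules.pullback i).obj L) g' := by
    rw [hgen']
    show i t ∈ H11Ample.gen L g
    rw [ht]; exact hwg
  have hg' : g' ≠ 0 := fun h0 => by
    have hb := (H11Ample.mem_gen_iff (H11Ample.isInvertible_pullback i hL) g' t).1 htg
    rw [h0, map_zero] at hb
    exact zero_ne_one (hb.1 (a₁ := (0 : J.subscheme.presheaf.stalk t)) (a₂ := 1) (by simp))
  obtain ⟨y, hy⟩ : x ∈ Set.range i := by
    rw [H17.range_vanishingIdeal_subschemeι]
    exact hwx.mem_closure
  have hpos := curveDeg_pos k hJ (H11Ample.isInvertible_pullback i hL) hg' (w := y) fun h => hxg (by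
    rw [hgen'] at h; rw [← hy]; exact h)
  exact absurd (hnum J.subscheme i inferInstance hJ) hpos.ne'

end Groth.Agent.H12Pic.SectionCurve
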