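import Groth.Agent.H22Alg.CMField
import Groth.Agent.H11Ample.RelAmple
import Groth.Agent.H11Ample.RelQuasiAffine
import Groth.Agent.H11Ample.AmpleOn
import Groth.Agent.H11Ample.Converse
import Groth.Agent.H28Int.Core

/-!
# The twisting family of a closed subscheme of projective space
-/

set_option autoImplicit false
set_option linter.style.haveILetI false
universe u

open CategoryTheory CategoryTheory.Limits AlgebraicGeometry

noncomputable section

namespace Groth.Agent.H12Pic.TwistOn

variable {k : Type u} [Field k] {n : ℕ} {X : Scheme.{u}} (i : X ⟶ CohB1.ProjSpace n k)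

/-- `d ↦ i^*O(d)`. -/
abbrev O (d : ℤ) : X.Modules := (Scheme.Modules.pullback i).obj (Twist.twistProjSpace n k d)

theorem fam : H10Coh.Stab.IsTwistFamily (O i) where
  inv d := H11Ample.isInvertible_pullback i ((H22Alg.CMField.setup k n).fam.inv d)
  zero := by
    obtain ⟨z⟩ := (H22Alg.CMField.setup k n).fam.zero
    obtain ⟨e⟩ := H11Ample.nonempty_pullback_structureModule_iso i
    exact ⟨(Scheme.Modules.pullback i).mapIso z ≪≫ e⟩
  add a b := by
    obtain ⟨z⟩ := (H22Alg.CMField.setup k n).fam.add a b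
    obtain ⟨z'⟩ := H11Ample.exists_iso_pullback_tensor i ((H22Alg.CMField.setup k n).fam.inv a)
      ((H22Alg.CMField.setup k n).fam.inv b)
    exact ⟨z'.symm ≪≫ (Scheme.Modules.pullback i).mapIso z⟩

theorem inv_one : Nonempty (CohB1.tensorMod (O i 1) (O i (-1)) ≅ Coh.structureModule X) := by
  obtain ⟨z⟩ := (fam i).zero
  obtain ⟨zz⟩ := (fam i).add 1 (-1)
  exact ⟨zz ≪≫ eqToIso (congrArg (O i) (by ring)) ≪≫ z⟩

theorem isAmple_one [IsClosedImmersion i] : CohB1.IsAmple (O i 1) :=
  H11Ample.isAmple_pullback_of_isAffineHom i (H11Ample.isAmple_twistProjSpace n k)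

theorem isProper [X.Over (Spec (CommRingCat.of k))] [IsClosedImmersion i]
    (hi : i ≫ CohB1.ProjSpace.toSpec n k = X ↘ Spec (CommRingCat.of k)) :
    IsProper (X ↘ Spec (CommRingCat.of k)) := by
  rw [← hi]
  haveI : IsProper (CohB1.ProjSpace.toSpec n k) := inferInstance
  infer_instance

end Groth.Agent.H12Pic.TwistOn
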