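import Groth.Agent.H12Pic.InvDesc.Eff.Rigid
import Groth.Agent.H12Pic.PicSeparated

/-!
# Rigidified classes form a sheaf for fppf covers
-/

set_option autoImplicit false
set_option linter.style.haveILetI false
set_option linter.unusedSectionVars false

noncomputable section

universe u

open CategoryTheory CategoryTheory.Limits AlgebraicGeometry TopologicalSpace Opposite

namespace Groth.Agent.H12Pic.RigDescent

open Groth.Agent.H17.PullCl

variable {X S : Scheme.{u}} (f : X ⟶ S) (σ : S ⟶ X) (hσ : σ ≫ f = 𝟙 S)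

include hσ in
/-- A module pulled back from the base restricts to itself along the section. -/
theorem nonempty_section_pullback (N : S.Modules) :
    Nonempty ((Scheme.Modules.pullback σ).obj ((Scheme.Modules.pullback f).obj N) ≅ N) :=
  ⟨(Scheme.Modules.pullbackComp σ f).app N ≪≫ (Scheme.Modules.pullbackCongr hσ).app N ≪≫
    (Scheme.Modules.pullbackId S).app N⟩

include hσ in
/-- Rigidified line bundles which agree after a cover of the base agree. -/
theorem nonempty_iso_of_cover (hb : ∀ (T : Scheme.{u}) (t : T ⟶ S), Function.Bijective (pullback.snd f t).appTop)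
    {L₁ L₂ : X.Modules} (h₁ : PicF.IsInvertible L₁) (h₂ : PicF.IsInvertible L₂)
    (r₁ : (Scheme.Modules.pullback σ).obj L₁ ≅ Coh.structureModule S)
    (r₂ : (Scheme.Modules.pullback σ).obj L₂ ≅ Coh.structureModule S) {U : Scheme.{u}} (u : U ⟶ S)
    [Flat u] [LocallyOfFinitePresentation u] [Surjective u]
    (h : Nonempty ((Scheme.Modules.pullback (pullback.fst f u)).obj L₁ ≅
      (Scheme.Modules.pullback (pullback.fst f u)).obj L₂)) : Nonempty (L₁ ≅ L₂) := by
  obtain ⟨M, hM, ⟨e⟩⟩ := H11Sym.exists_inverse h₂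
  obtain ⟨θ⟩ := (Sep.tensor_trivial_iff _ h₁ h₂ hM e).2 h
  obtain ⟨N, -, ⟨φ⟩⟩ := InvDesc.exists_invertible_of_trivial_on_cover f hb (H11Ample.isInvertible_tensor h₁ hM)
    fun V hV => by
      obtain ⟨W, hW, g, w, hg, hgs, hfac⟩ := InvDesc.exists_affine_of_isOpenMap u u.isOpenMap V hV
      let m : pullback f (g ≫ V.ι) ⟶ pullback f u :=
        pullback.lift (pullback.fst f _) (pullback.snd f _ ≫ w)
          (by rw [Category.assoc, ← hfac]; exact pullback.condition)
      exact ⟨W, hW, g, hg, hgs, ⟨(Scheme.Modules.pullbackCongr (pullback.lift_fst _ _ _).symm).app _ ≪≫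
        ((Scheme.Modules.pullbackComp m _).app _).symm ≪≫ (Scheme.Modules.pullback m).mapIso θ ≪≫
        PicLoc.pullbackStructureIso m⟩⟩
  obtain ⟨τ⟩ := (Sep.tensor_trivial_iff σ h₁ h₂ hM e).2 ⟨r₁ ≪≫ r₂.symm⟩
  obtain ⟨ν⟩ := nonempty_section_pullback f σ hσ N
  let νO : N ≅ Coh.structureModule S := ν.symm ≪≫ (Scheme.Modules.pullback σ).mapIso φ.symm ≪≫ τ
  exact H25Theta.cancel_right hM ⟨φ ≪≫ (Scheme.Modules.pullback f).mapIso νO ≪≫ PicLoc.pullbackStructureIso f ≪≫
    e.symm ≪≫ H10Coh.Tw.commIso M L₂⟩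

include hσ in
/-- Twisting by the base makes a line bundle rigidified. -/
theorem exists_rigidified {M : X.Modules} (hM : PicF.IsInvertible M) :
    ∃ M' : X.Modules, PicF.IsInvertible M' ∧ Nonempty ((Scheme.Modules.pullback σ).obj M' ≅ Coh.structureModule S) ∧
      ∀ {P : Scheme.{u}} (h : P ⟶ X),
        Nonempty ((Scheme.Modules.pullback (h ≫ f)).obj ((Scheme.Modules.pullback σ).obj M) ≅ Coh.structureModule P) →
          Nonempty ((Scheme.Modules.pullback h).obj M' ≅ (Scheme.Modules.pullback h).obj M) := by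
  have hσM := H11Ample.isInvertible_pullback σ hM
  obtain ⟨N, hN, ⟨e⟩⟩ := H11Sym.exists_inverse hσM
  have hfN := H11Ample.isInvertible_pullback f hN
  obtain ⟨τ⟩ := H11Ample.exists_iso_pullback_tensor σ hM hfN
  obtain ⟨ν⟩ := nonempty_section_pullback f σ hσ N
  refine ⟨CohB1.tensorMod M ((Scheme.Modules.pullback f).obj N), H11Ample.isInvertible_tensor hM hfN,
    ⟨τ ≪≫ H11QMap.tensorIso (Iso.refl _) ν ≪≫ H10Coh.Tw.commIso _ _ ≪≫ e⟩, fun {P} h hh => ?_⟩
  obtain ⟨t⟩ := hh
  obtain ⟨τ'⟩ := H11Ample.exists_iso_pullback_tensor h hM hfN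
  obtain ⟨τ''⟩ := H11Ample.exists_iso_pullback_tensor (h ≫ f) hN hσM
  let ν' : (Scheme.Modules.pullback h).obj ((Scheme.Modules.pullback f).obj N) ≅ Coh.structureModule P :=
    (Scheme.Modules.pullbackComp h f).app N ≪≫ (H10Coh.Tw.rightUnitIso _).symm ≪≫
      H11QMap.tensorIso (Iso.refl _) t.symm ≪≫ τ''.symm ≪≫ (Scheme.Modules.pullback (h ≫ f)).mapIso e ≪≫
      PicLoc.pullbackStructureIso _
  exact ⟨τ' ≪≫ H11QMap.tensorIso (Iso.refl _) ν' ≪≫ H10Coh.Tw.rightUnitIso _⟩

variable {σ}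

theorem secT_snd (T : Over S) : PicF.secT f σ hσ T ≫ pullback.snd f T.hom = 𝟙 T.left :=
  pullback.lift_snd _ _ _

variable (ha : ∀ (T : Over S) (U : T.left.Opens), IsIso ((PicF.XTproj f T).app U))

include ha in
/-- Functions on the base changes of the base change. -/
theorem bijective_bc (T : Over S) (W : Scheme.{u}) (t : W ⟶ T.left) :
    Function.Bijective (pullback.snd (pullback.snd f T.hom) t).appTop := by
  have hsnd : toXT f T.hom (Over.mk t) ≫ PicF.XTproj f (Over.mk (t ≫ T.hom)) =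
      pullback.snd (pullback.snd f T.hom) t := pullbackLeftPullbackSndIso_hom_snd f T.hom t
  rw [← hsnd, Scheme.Hom.comp_appTop]
  refine Function.Bijective.comp (g := (toXT f T.hom (Over.mk t)).appTop)
    (InvDesc.bijective_appTop_iso (asIso (toXT f T.hom (Over.mk t)))) ?_
  haveI := ha (Over.mk (t ≫ T.hom)) ⊤
  exact ConcreteCategory.bijective_of_isIso ((PicF.XTproj f (Over.mk (t ≫ T.hom))).app ⊤)

include ha in
/-- A rigidified class is determined by its restriction to an fppf cover. -/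
theorem eq_of_cover (T : Over S) {U : Scheme.{u}} (u : U ⟶ T.left) [Flat u] [LocallyOfFinitePresentation u]
    [Surjective u] (c d : PicF.Rig f σ hσ T)
    (h : PicF.pullCl (PicF.XTmap f (AbDual.ovrHom T u)) c.1 = PicF.pullCl (PicF.XTmap f (AbDual.ovrHom T u)) d.1) :
    c = d := by
  obtain ⟨_, ⟨L₁, rfl, h₁⟩, r₁⟩ := c
  obtain ⟨_, ⟨L₂, rfl, h₂⟩, r₂⟩ := d
  exact Subtype.ext (Quot.sound (nonempty_iso_of_cover (pullback.snd f T.hom) (PicF.secT f σ hσ T) (secT_snd f hσ T)
    (bijective_bc f ha T) h₁ h₂ (Sep.iso_of_cl_eq r₁).some (Sep.iso_of_cl_eq r₂).some u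
    ((Sep.pullCl_eq_iff f T u L₁ L₂).1 h)))

include ha in
/-- A rigidified class on an fppf cover with equal pullbacks descends. -/
theorem exists_descended (T : Over S) {U : Scheme.{u}} (u : U ⟶ T.left) [Flat u] [LocallyOfFinitePresentation u]
    [Surjective u] (c' : PicF.Rig f σ hσ (AbDual.ovr T u))
    (hglue : PicF.pullCl (PicF.XTmap f (AbDual.ovrHom (AbDual.ovr T u) (pullback.fst u u))) c'.1 =
      PicF.pullCl (PicF.XTmap f (Over.homMk (pullback.snd u u) (pullback.condition_assoc T.hom).symm :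
        AbDual.ovr (AbDual.ovr T u) (pullback.fst u u) ⟶ AbDual.ovr T u)) c'.1) :
    ∃ c : PicF.Rig f σ hσ T, PicF.pullCl (PicF.XTmap f (AbDual.ovrHom T u)) c.1 = c'.1 := by
  obtain ⟨_, ⟨L, rfl, hL⟩, r₀⟩ := c'
  let fT := pullback.snd f T.hom
  let σT := PicF.secT f σ hσ T
  have hσT : σT ≫ fT = 𝟙 _ := secT_snd f hσ T
  let e := toXT f T.hom (Over.mk u)
  have hef : e ≫ pullback.fst f (u ≫ T.hom) = pullback.fst fT u ≫ pullback.fst f T.hom :=
    pullbackLeftPullbackSndIso_hom_fst f T.hom u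
  have hes : e ≫ pullback.snd f (u ≫ T.hom) = pullback.snd fT u := pullbackLeftPullbackSndIso_hom_snd f T.hom u
  let L₀ := (Scheme.Modules.pullback e).obj L
  let j : pullback fT (pullback.fst u u ≫ u) ⟶ PicF.XT f (AbDual.ovr (AbDual.ovr T u) (pullback.fst u u)) :=
    pullback.lift (pullback.fst fT _ ≫ pullback.fst f T.hom) (pullback.snd fT _) (by
      refine (Category.assoc _ _ _).trans ((congrArg (pullback.fst fT _ ≫ ·)
        (pullback.condition (f := f) (g := T.hom))).trans ((Category.assoc _ _ _).symm.trans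
          ((congrArg (· ≫ T.hom) (pullback.condition (f := fT))).trans ?_)))
      simp [Category.assoc])
  have hj₁ : j ≫ PicF.XTmap f (AbDual.ovrHom (AbDual.ovr T u) (pullback.fst u u)) = InvDesc.Eff.bc₁ fT u ≫ e := by
    apply pullback.hom_ext
    · rw [Category.assoc, XTmap_fst, Category.assoc]
      erw [hef, pullback.lift_fst, pullback.lift_fst_assoc]
    · rw [Category.assoc, XTmap_snd, Category.assoc]
      erw [hes, pullback.lift_snd_assoc, pullback.lift_snd]
      rfl
  have hj₂ : j ≫ PicF.XTmap f (Over.homMk (pullback.snd u u) (pullback.condition_assoc T.hom).symm :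
      AbDual.ovr (AbDual.ovr T u) (pullback.fst u u) ⟶ AbDual.ovr T u) = InvDesc.Eff.bc₂ fT u ≫ e := by
    apply pullback.hom_ext
    · rw [Category.assoc, XTmap_fst, Category.assoc]
      erw [hef, pullback.lift_fst, pullback.lift_fst_assoc]
    · rw [Category.assoc, XTmap_snd, Category.assoc]
      erw [hes, pullback.lift_snd_assoc, pullback.lift_snd]
      rfl
  have hα := congrArg (PicF.pullCl j) hglue
  rw [← pullCl_comp, ← pullCl_comp, hj₁, hj₂, pullCl_comp, pullCl_comp] at hα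
  have hs : InvDesc.Eff.bcσ fT σT hσT u ≫ e = PicF.secT f σ hσ (AbDual.ovr T u) := by
    apply pullback.hom_ext
    · rw [Category.assoc]
      erw [hef, pullback.lift_fst_assoc, pullback.lift_fst]
      exact (Category.assoc _ _ _).trans ((congrArg (u ≫ ·) (pullback.lift_fst _ _ _)).trans (Category.assoc _ _ _).symm)
    · rw [Category.assoc]
      erw [hes, pullback.lift_snd, pullback.lift_snd]
      rfl
  have hr : PicF.IsTrivialCl (PicF.pullCl (InvDesc.Eff.bcσ fT σT hσT u) (PicF.pullCl e (PicF.cl L))) := by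
    rw [← pullCl_comp, hs]; exact r₀
  haveI : Flat (pullback.fst fT u) := MorphismProperty.pullback_fst _ _ ‹Flat u›
  haveI : LocallyOfFinitePresentation (pullback.fst fT u) :=
    MorphismProperty.pullback_fst _ _ ‹LocallyOfFinitePresentation u›
  obtain ⟨M, hM, ⟨φ⟩⟩ := InvDesc.Eff.exists_descended_rigid fT σT hσT u (Or.inr (pullback.fst fT u).isOpenMap)
    (H11Ample.isInvertible_pullback e hL : PicF.IsInvertible L₀) (Sep.iso_of_cl_eq hα) (Sep.iso_of_cl_eq hr)
    (bijective_bc f ha T _ _).2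
  obtain ⟨M', hM', ⟨r'⟩, hM'q⟩ := exists_rigidified fT σT hσT hM
  let q := pullback.fst fT u
  obtain ⟨r⟩ := Sep.iso_of_cl_eq (L := (Scheme.Modules.pullback (InvDesc.Eff.bcσ fT σT hσT u)).obj L₀)
    (L' := Coh.structureModule U) hr
  have hbq : InvDesc.Eff.bcσ fT σT hσT u ≫ q = u ≫ σT := pullback.lift_fst _ _ _
  obtain ⟨ψ⟩ := hM'q q
    ⟨(Scheme.Modules.pullbackComp _ σT).app M ≪≫
      (Scheme.Modules.pullbackCongr (show (q ≫ fT) ≫ σT = pullback.snd fT u ≫ InvDesc.Eff.bcσ fT σT hσT u ≫ q by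
        rw [hbq, pullback.condition, Category.assoc])).app M ≪≫
      ((Scheme.Modules.pullbackComp (pullback.snd fT u) _).app M).symm ≪≫
      (Scheme.Modules.pullback (pullback.snd fT u)).mapIso
        (((Scheme.Modules.pullbackComp _ q).app M).symm ≪≫ (Scheme.Modules.pullback _).mapIso φ ≪≫ r) ≪≫
      PicLoc.pullbackStructureIso _⟩
  refine ⟨⟨PicF.cl M', ⟨M', rfl, hM'⟩, Quot.sound ⟨r'⟩⟩, ?_⟩
  apply Sep.pullCl_injective e
  rw [← pullCl_comp, Sep.toXT_XTmap]
  exact Quot.sound ⟨ψ ≪≫ φ⟩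

end Groth.Agent.H12Pic.RigDescent
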