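import Mathlib.RingTheory.Nakayama
import Mathlib.RingTheory.Noetherian.Basic
import Mathlib.RingTheory.Ideal.Quotient.Operations
import Mathlib.Algebra.Module.Torsion.Basic
import Mathlib.LinearAlgebra.Dual.Lemmas
import Mathlib.LinearAlgebra.FiniteDimensional.Lemmas

/-!
A finite module whose dual and whose fibre duals are free of rank one is free of rank one.
-/

set_option autoImplicit false
set_option linter.style.haveILetI false

universe u

namespace Groth.Agent.H12Pic

variable {A : Type u} [CommRing A] {Q : Type u} [AddCommGroup Q] [Module A Q]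

/-- At a point where the fibre dual has rank one the module is generated by one element nearby. -/
theorem exists_cyclic_of_fibre [Module.Finite A Q] {K : Type u} [Field K] [Algebra A K]
    (hsurj : Function.Surjective (algebraMap A K)) (e : (Q →ₗ[A] K) ≃ₗ[K] K) :
    ∃ (q : Q) (s : A), algebraMap A K s ≠ 0 ∧ ∀ y : Q, ∃ c : A, s • y = c • q := by
  let g₀ := e.symm 1
  have hg₀ : g₀ ≠ 0 := fun h => one_ne_zero ((e.apply_symm_apply 1).symm.trans ((congrArg e h).trans (map_zero e)))
  obtain ⟨q, hq⟩ : ∃ q, g₀ q ≠ 0 := by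
    by_contra hn
    push Not at hn
    exact hg₀ (LinearMap.ext hn)
  let p : Ideal A := RingHom.ker (algebraMap A K)
  let N : Submodule A Q := A ∙ q
  have htop : (⊤ : Submodule A (Q ⧸ N)) ≤ p • ⊤ := by
    by_contra hn
    let W := (Q ⧸ N) ⧸ (p • ⊤ : Submodule A (Q ⧸ N))
    have hne : ∃ w : W, w ≠ 0 := by
      obtain ⟨x, -, hx⟩ := SetLike.not_le_iff_exists.1 hn
      exact ⟨Submodule.Quotient.mk x, fun h => hx ((Submodule.Quotient.mk_eq_zero _).1 h)⟩
    obtain ⟨w, hw⟩ := hne
    have hkill : ∀ a ∈ p, ∀ z : W, a • z = 0 := fun a ha z => by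
      obtain ⟨x, rfl⟩ := Submodule.Quotient.mk_surjective _ z
      rw [← Submodule.Quotient.mk_smul, Submodule.Quotient.mk_eq_zero]
      exact Submodule.smul_mem_smul ha trivial
    haveI : p.IsMaximal := RingHom.ker_isMaximal_of_surjective _ hsurj
    letI := Ideal.Quotient.field p
    letI : Module (A ⧸ p) W := Module.IsTorsionBySet.module fun z a => hkill a.1 a.2 z
    obtain ⟨h, hh⟩ := Module.Projective.exists_dual_ne_zero (A ⧸ p) hw
    let ι : A ⧸ p →+* K := Ideal.Quotient.lift p (algebraMap A K) fun _ h => h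
    let h' : Q →ₗ[A] K :=
      { toFun := fun y => ι (h (Submodule.Quotient.mk (Submodule.Quotient.mk y)))
        map_add' := fun y z => by simp
        map_smul' := fun a y => by
          change ι (h ((Ideal.Quotient.mk p a) • (Submodule.Quotient.mk (Submodule.Quotient.mk y) : W))) = _
          rw [map_smul, smul_eq_mul, map_mul, RingHom.id_apply, Algebra.smul_def]
          rfl }
    have hq0 : h' q = 0 := by
      change ι (h _) = 0
      rw [(Submodule.Quotient.mk_eq_zero N).2 (Submodule.mem_span_singleton_self q)]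
      simp
    have hc : h' = e h' • g₀ := e.injective (by rw [map_smul, e.apply_symm_apply, smul_eq_mul, mul_one])
    have h0 : e h' = 0 := by
      have := congrArg (fun f : Q →ₗ[A] K => f q) hc
      simp only [LinearMap.smul_apply, smul_eq_mul, hq0] at this
      exact (mul_eq_zero.1 this.symm).resolve_right hq
    rw [h0, zero_smul] at hc
    obtain ⟨x, rfl⟩ := Submodule.Quotient.mk_surjective _ w
    obtain ⟨y, rfl⟩ := Submodule.Quotient.mk_surjective _ x
    exact hh (ι.injective ((LinearMap.congr_fun hc y).trans (map_zero ι).symm))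
  obtain ⟨s, hs, hs'⟩ := Submodule.exists_sub_one_mem_and_smul_eq_zero_of_fg_of_le_smul p ⊤ Module.Finite.fg_top htop
  refine ⟨q, s, fun h => ?_, fun y => ?_⟩
  · have h1 : algebraMap A K (s - 1) = 0 := hs
    rw [map_sub, h, map_one, zero_sub, neg_eq_zero] at h1
    exact one_ne_zero h1
  · have h := hs' (Submodule.Quotient.mk y) trivial
    rw [← Submodule.Quotient.mk_smul, Submodule.Quotient.mk_eq_zero] at h
    obtain ⟨c, hc⟩ := Submodule.mem_span_singleton.1 h
    exact ⟨c, hc.symm⟩

/-- A finite module with dual free of rank one and fibre duals of rank one is free of rank one. -/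
theorem nonempty_equiv_of_dual [Module.Finite A Q] (e : (Q →ₗ[A] A) ≃ₗ[A] A)
    (hfib : ∀ m : Ideal A, m.IsMaximal → ∃ (q : Q) (s : A), s ∉ m ∧ ∀ y : Q, ∃ c : A, s • y = c • q) :
    Nonempty (Q ≃ₗ[A] A) := by
  classical
  let g := e.symm 1
  have hann : ∀ t : A, t • g = 0 → t = 0 := fun t ht => by
    have := congrArg e ht
    rwa [map_smul, e.apply_symm_apply, map_zero, smul_eq_mul, mul_one] at this
  have hgen : ∀ h : Q →ₗ[A] A, h = e h • g := fun h =>
    e.injective (by rw [map_smul, e.apply_symm_apply, smul_eq_mul, mul_one])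
  have hunit : ∀ (m : Ideal A) (hm : m.IsMaximal) (q : Q) (s : A), s ∉ m → (∀ y : Q, ∃ c, s • y = c • q) →
      g q ∉ m := fun m hm q s hs hq ha => by
    have h1 : ∀ t : A, t * g q = 0 → t * s = 0 := fun t ht => hann _ (LinearMap.ext fun y => by
      obtain ⟨c, hc⟩ := hq y
      rw [LinearMap.smul_apply, LinearMap.zero_apply, smul_eq_mul, mul_assoc, ← smul_eq_mul s, ← map_smul, hc,
        map_smul, smul_eq_mul, mul_left_comm, ht, mul_zero])
    have hJ : ∀ j : A, j • q = 0 → j * s = 0 := fun j hj => h1 j (by rw [← smul_eq_mul, ← map_smul, hj, map_zero])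
    choose c hc using hq
    have hwd : ∀ a b : A, a • q = b • q → a * s = b * s := fun a b hab =>
      sub_eq_zero.1 (by rw [← sub_mul]; exact hJ _ (by rw [sub_smul, hab, sub_self]))
    let h : Q →ₗ[A] A :=
      { toFun := fun y => c y * s
        map_add' := fun y z => by
          rw [← add_mul]
          exact hwd _ _ (by rw [add_smul, ← hc, ← hc, ← hc, smul_add])
        map_smul' := fun a y => by
          rw [RingHom.id_apply, smul_eq_mul, ← mul_assoc]
          exact hwd _ _ (by rw [mul_smul, ← hc, ← hc, smul_comm]) }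
    have h2 : h q = s * s := hwd _ _ (hc q).symm
    have h3 : s * s ∈ m := by
      rw [← h2, hgen h, LinearMap.smul_apply, smul_eq_mul]
      exact m.mul_mem_left _ ha
    exact (hm.isPrime.mem_or_mem h3).elim hs hs
  refine ⟨LinearEquiv.ofBijective g ⟨?_, ?_⟩⟩
  · refine (injective_iff_map_eq_zero g).2 fun y hy => ?_
    by_contra hne
    let I : Ideal A := LinearMap.ker (LinearMap.toSpanSingleton A Q y)
    have hI : I ≠ ⊤ := fun h => hne (by
      have : (1 : A) ∈ I := h ▸ Submodule.mem_top
      simpa [I] using this)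
    obtain ⟨m, hm, hIm⟩ := Ideal.exists_le_maximal I hI
    obtain ⟨q, s, hs, hq⟩ := hfib m hm
    obtain ⟨c, hc⟩ := hq y
    have h0 : c * g q = 0 := by rw [← smul_eq_mul, ← map_smul, ← hc, map_smul, hy, smul_zero]
    have h1 : c * s = 0 := hann _ (LinearMap.ext fun z => by
      obtain ⟨d, hd⟩ := hq z
      rw [LinearMap.smul_apply, LinearMap.zero_apply, smul_eq_mul, mul_assoc, ← smul_eq_mul s, ← map_smul, hd,
        map_smul, smul_eq_mul, mul_left_comm, h0, mul_zero])
    have h2 : (s * s) • y = 0 := by rw [mul_smul, hc, smul_smul, mul_comm, h1, zero_smul]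
    exact (hm.isPrime.mem_or_mem (hIm (show s * s ∈ I by simpa [I] using h2))).elim hs hs
  · by_contra hns
    have hne : LinearMap.range g ≠ ⊤ := fun h => hns (LinearMap.range_eq_top.1 h)
    obtain ⟨m, hm, hle⟩ := Ideal.exists_le_maximal (LinearMap.range g) hne
    obtain ⟨q, s, hs, hq⟩ := hfib m hm
    exact hunit m hm q s hs hq (hle ⟨q, rfl⟩)

end Groth.Agent.H12Pic
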