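import Groth.Agent.LeadBC.SeesawH1
import Groth.Agent.LeadBC.Chart
import Groth.Agent.H12Pic.BoundedEuler
import Groth.Agent.H10Coh.Proper2
import Groth.Agent.H12Pic.Bdd.Proper
import Groth.Agent.H12Pic.NumTriv.Family

/-!
# Families of invertible modules are constant when `H¹(O)` vanishes
-/

set_option autoImplicit false
set_option linter.style.haveILetI false
set_option linter.unusedSectionVars false

universe u

open CategoryTheory CategoryTheory.Limits AlgebraicGeometry Opposite TopologicalSpace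
open scoped TensorProduct

noncomputable section

namespace Groth.Agent.H12Pic.RigidH1

open Groth.Agent.H11Tilde Groth.Agent.LeadBC.GenBC Groth.Agent.H10Coh Groth.Agent.LeadBC.Seesaw

attribute [local instance 10000] H10Coh.hasSheafifyAb H10Coh.hasWeakSheafifyAb H10Coh.hasExtAb H10Coh.enoughInjAb

variable {X S : Scheme.{u}} (f : X ⟶ S) [IsProper f] [Flat f] [LocallyOfFinitePresentation f]
  [IsLocallyNoetherian S] {K : Type u} [Field K] {X' : Scheme.{u}} [X'.Over (Spec (CommRingCat.of K))]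
  {g : X' ⟶ X} {t : Spec (CommRingCat.of K) ⟶ S} (hsq : IsPullback g (X' ↘ Spec (CommRingCat.of K)) f t)
  {L : X.Modules} (hL : PicF.IsInvertible L)

include hsq hL in
/-- Sections spread out from a point at which the first cohomology vanishes. -/
theorem exists_epiOn_point (h1 : Subsingleton (Coh.HH X' ((Scheme.Modules.pullback g).obj L) 1)) {s : S}
    (ht : ∀ z, t z = s) : ∃ (W : S.Opens) (hW : IsAffineOpen W), s ∈ W ∧ EpiOn f L hW 0 := by
  have hlf := H23Para.isFinLocFree_of_isInvertible hL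
  have hfp : CohB1.IsFP L := H8Props.FinLocFree.isFP_of_isFinLocFree L hlf
  have hfl : FlatMod.IsFlatOver f L := H10Coh.SheafHom.isFlatOver_of_isFinLocFree f L hlf
  haveI : L.IsQuasicoherent := H29Fitt.isQCoh_of_isFP L hfp
  obtain ⟨V, hV, hy, -⟩ := exists_isAffineOpen_mem_and_subset (U := (⊤ : S.Opens)) (x := s) trivial
  haveI : IsLocallyNoetherian X := LocallyOfFiniteType.isLocallyNoetherian f
  have hc : Coh.IsCoh L := H11Ample.isCoh_of_isInvertible hL
  obtain ⟨ι, hι, U, hU, ⟨m⟩⟩ := LeadBC.exists_chart_model (f := f) (hV := hV) hc hfl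
  have e := (m.finrank_bc_chart hU (K := K) g t hsq hy ht _ (Iso.refl _) 1).trans (m.fiberRank_chart hU hy 1).symm
  haveI := h1
  rw [Module.finrank_zero_of_subsingleton] at e
  letI : (f.fiber s).Over (Spec (CommRingCat.of (S.residueField s))) := ⟨f.fiberToSpecResidueField s⟩
  haveI : IsProper (f.fiber s ↘ Spec (CommRingCat.of (S.residueField s))) :=
    MorphismProperty.of_isPullback (IsPullback.of_hasPullback f (S.fromSpecResidueField s)) inferInstance
  haveI : IsLocallyNoetherian (f.fiber s) :=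
    LocallyOfFiniteType.isLocallyNoetherian (f.fiber s ↘ Spec (CommRingCat.of (S.residueField s)))
  haveI hfin := H10Coh.finite_HH_proper (S.residueField s) (f.fiber s) (CohIII.fiberMod f L s)
    (H11Ample.isCoh_of_isInvertible (H11Ample.isInvertible_pullback _ hL)) 1
  have e' : Module.finrank (S.residueField s) (Coh.HH (f.fiber s) (CohIII.fiberMod f L s) 1) = 0 := e.symm
  have hsub : Subsingleton (Coh.HH (f.fiber s) (CohIII.fiberMod f L s) 1) := Module.finrank_zero_iff.1 e'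
  obtain ⟨W, hW, hs, -, hm, -, -⟩ := exists_vanishing_nhd f L hfp hfl 1 hsub
  exact ⟨W, hW, hs, (monoOn_succ_iff f L hW hfp hfl 0).1 hm⟩

include hsq hL in
/-- A trivialisation at a point with surjective evaluation spreads out. -/
theorem exists_gen_nhd_point {s : S} (ht : ∀ z, t z = s)
    (hsurjR : ∀ (V : S.Opens) (hle : (⊤ : (Spec (CommRingCat.of K)).Opens) ≤ t ⁻¹ᵁ V),
      Function.Surjective (t.appLE V ⊤ hle))
    (hE : ∃ (W : S.Opens) (hW : IsAffineOpen W), s ∈ W ∧ EpiOn f L hW 0)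
    (e : (Scheme.Modules.pullback g).obj L ≅ Coh.structureModule X') :
    ∃ (V : S.Opens) (b : Γ(L, f ⁻¹ᵁ V)), s ∈ V ∧ IsGen L b := by
  have hlf := H23Para.isFinLocFree_of_isInvertible hL
  have hfp : CohB1.IsFP L := H8Props.FinLocFree.isFP_of_isFinLocFree L hlf
  have hfl : FlatMod.IsFlatOver f L := H10Coh.SheafHom.isFlatOver_of_isFinLocFree f L hlf
  haveI : L.IsQuasicoherent := H29Fitt.isQCoh_of_isFP L hfp
  haveI := H10Coh.enoughInjMod X
  obtain ⟨V, hV, hs, -⟩ := exists_isAffineOpen_mem_and_subset (U := (⊤ : S.Opens)) (x := s) trivial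
  let f' := X' ↘ Spec (CommRingCat.of K)
  haveI : Subsingleton (Spec (CommRingCat.of K)) := inferInstanceAs (Subsingleton (PrimeSpectrum K))
  have hle : (⊤ : (Spec (CommRingCat.of K)).Opens) ≤ t ⁻¹ᵁ V := fun z _ => by
    show t z ∈ V
    rw [ht]
    exact hs
  haveI := isIso_bc_zero f L hsq hfp hfl fun z => by rw [ht]; exact hE
  letI := (t.appLE V ⊤ hle).hom.toAlgebra
  letI := Module.compHom Γ((Scheme.Modules.pushforward f').obj ((Scheme.Modules.pullback g).obj L), ⊤)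
    (t.appLE V ⊤ hle).hom
  haveI : IsScalarTower Γ(S, V) Γ(Spec (CommRingCat.of K), ⊤)
      Γ((Scheme.Modules.pushforward f').obj ((Scheme.Modules.pullback g).obj L), ⊤) :=
    .of_algebraMap_smul fun _ _ => rfl
  obtain ⟨c, hc, hcf⟩ := exists_transpose_app t
    (H10Coh.isQuasicoherent_pushforward f L) (LeadBC.GenBC.τ₀ f L hsq) hV (isAffineOpen_top _) hle
  have hsurj : Function.Surjective (LinearMap.liftBaseChange Γ(Spec (CommRingCat.of K), ⊤)
      (FBC.locLin t (LeadBC.GenBC.τ₀ f L hsq) hle)) := by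
    rw [hcf]
    exact ((ConcreteCategory.bijective_of_isIso _).comp hc).2
  let N' : X'.Modules := (Scheme.Modules.pullback g).obj L
  let γ : Γ(N', ⊤) := e.inv.app ⊤ (H11Ample.one ⊤)
  have hγ : IsGen N' γ := H11Ample.isGen_map_iso e.symm (H11Ample.isGen_one ⊤)
  obtain ⟨b, hb⟩ : ∃ b : Γ(L, f ⁻¹ᵁ V),
      H10Coh.rs N' (preimage_le f hsq hle) (OmegaSh.pullSect g L (f ⁻¹ᵁ V) b) = γ := by
    obtain ⟨z, hz⟩ := hsurj (show Γ((Scheme.Modules.pushforward f').obj N', ⊤) from γ)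
    obtain ⟨b, rfl⟩ : ∃ b, (1 : Γ(Spec (CommRingCat.of K), ⊤)) ⊗ₜ[Γ(S, V)] b = z := by
      clear hz
      induction z using TensorProduct.induction_on with
      | zero => exact ⟨0, TensorProduct.tmul_zero _ _⟩
      | add x y hx hy =>
        obtain ⟨a, rfl⟩ := hx
        obtain ⟨a', rfl⟩ := hy
        exact ⟨a + a', TensorProduct.tmul_add _ _ _⟩
      | tmul r m =>
        obtain ⟨r', rfl⟩ := hsurjR V hle r
        refine ⟨r' • m, ?_⟩
        rw [← TensorProduct.smul_tmul, Algebra.smul_def, mul_one]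
        rfl
    rw [LinearMap.liftBaseChange_tmul, one_smul] at hz
    exact ⟨b, (locLin_τ₀ f L hsq hle (preimage_le f hsq hle) b).symm.trans hz⟩
  let T : Set X.Opens := {U | ∃ hU : U ≤ f ⁻¹ᵁ V, IsGen L (L.presheaf.map (homOfLE hU).op b)}
  have hfib : ∀ x : X, f x = s → x ∈ sSup T := fun x hx => by
    obtain ⟨x', rfl⟩ : x ∈ Set.range g := by
      obtain ⟨w, hw, -⟩ := Scheme.Pullback.exists_preimage_pullback (f := f) (g := t) x (IsLocalRing.closedPoint K)
        (by rw [hx, ht])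
      refine ⟨hsq.isoPullback.inv w, ?_⟩
      rw [← Scheme.Hom.comp_apply, hsq.isoPullback_inv_fst, hw]
    obtain ⟨U, e₀, hxU, he₀⟩ := H11Ample.exists_gen hL (g x')
    let U' : X.Opens := U ⊓ f ⁻¹ᵁ V
    have hxU' : g x' ∈ U' := ⟨hxU, by show f _ ∈ V; rw [hx]; exact hs⟩
    have he' := he₀.res (inf_le_left : U' ≤ U)
    obtain ⟨a, ha⟩ := H11Ample.exists_coeff he' (L.presheaf.map (homOfLE (inf_le_right : U' ≤ f ⁻¹ᵁ V)).op b)
    have hxa : g x' ∈ X.basicOpen a := by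
      have hp := he'.pullSect g
      have hy : x' ∈ g ⁻¹ᵁ U' := hxU'
      show x' ∈ g ⁻¹ᵁ X.basicOpen a
      rw [Scheme.preimage_basicOpen]
      refine (H11Ample.bijective_smul_iff hp _ hy).1 ?_
      rw [← OmegaSh.pullSect_smul, ← ha, pullSect_res]
      have hgerm := hγ x' (trivial : x' ∈ (⊤ : X'.Opens))
      rw [TopCat.Presheaf.germ_res_apply]
      exact (congrArg (fun w => Function.Bijective fun r : X'.presheaf.stalk x' => r • w)
        ((congrArg (N'.presheaf.germ ⊤ x' trivial) hb.symm).trans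
          (germ_rs (preimage_le f hsq hle) (OmegaSh.pullSect g L (f ⁻¹ᵁ V) b) x' trivial))).mp hgerm
    refine Opens.mem_sSup.2 ⟨X.basicOpen a, ⟨(X.basicOpen_le a).trans inf_le_right, ?_⟩, hxa⟩
    have := H11Ample.isGen_basicOpen he' a
    rwa [← ha, H10Coh.mres_mres] at this
  let Z : Set S := f '' ((sSup T : X.Opens) : Set X)ᶜ
  have hZ : IsClosed Z := f.isClosedMap _ (sSup T : X.Opens).isOpen.isClosed_compl
  let V' : S.Opens := V ⊓ ⟨Zᶜ, hZ.isOpen_compl⟩
  refine ⟨V', L.presheaf.map (homOfLE (f.preimage_mono inf_le_left)).op b,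
    ⟨hs, fun ⟨x, hx, hfx⟩ => hx (hfib x hfx)⟩, fun y hy => ?_⟩
  obtain ⟨U, ⟨hU, hgen⟩, hyU⟩ := Opens.mem_sSup.1 (show y ∈ sSup T from by_contra fun hn => hy.2 ⟨y, hn, rfl⟩)
  have := hgen y hyU
  rw [TopCat.Presheaf.germ_res_apply] at this ⊢
  exact this

section family

open Groth.Agent.H25Theta (pb pT pC pI tI)

variable (k : Type u) [Field k] [IsAlgClosed k] {W : Scheme.{u}} [W.Over (Spec (CommRingCat.of k))]
  [IsProper (W ↘ Spec (CommRingCat.of k))]

/-- Powers add. -/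
theorem nonempty_pow_add {M : W.Modules} (a : ℕ) :
    ∀ b : ℕ, Nonempty (CohB1.tensorMod (CohB1.tensorPow M a) (CohB1.tensorPow M b) ≅ CohB1.tensorPow M (a + b))
  | 0 => ⟨H10Coh.Tw.rightUnitIso _⟩
  | b + 1 => by
    obtain ⟨e⟩ := nonempty_pow_add a b
    exact ⟨(H10Coh.Tw.assoc _ _ M).symm ≪≫ PicGrp.tensorModIso e (Iso.refl M)⟩

/-- Without `H¹(O)` the members of a connected family of invertible modules are isomorphic. -/
theorem iso_of_connected (h1 : Subsingleton (Coh.HH W (Coh.structureModule W) 1)) {T : Scheme.{u}}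
    (q : T ⟶ Spec (CommRingCat.of k)) [ConnectedSpace T] [LocallyOfFiniteType q] [QuasiCompact q]
    {M : (Pic13.prodK k W q).Modules} (hM : PicF.IsInvertible M) (t t₀ : Spec (CommRingCat.of k) ⟶ T)
    (ht : t ≫ q = 𝟙 _) (ht₀ : t₀ ≫ q = 𝟙 _) :
    Nonempty (Pic13.fibreMod k W q t ht M ≅ Pic13.fibreMod k W q t₀ ht₀ M) := by
  classical
  haveI : IsLocallyNoetherian T := LocallyOfFiniteType.isLocallyNoetherian q
  haveI : CompactSpace T := QuasiCompact.compactSpace_of_compactSpace q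
  haveI : JacobsonSpace T := LocallyOfFiniteType.jacobsonSpace q
  let f := pullback.snd (W ↘ Spec (CommRingCat.of k)) q
  haveI : Flat (W ↘ Spec (CommRingCat.of k)) := inferInstance
  haveI : Flat f := MorphismProperty.pullback_snd _ _ inferInstance
  haveI : IsLocallyNoetherian (Pic13.prodK k W q) := LocallyOfFiniteType.isLocallyNoetherian f
  haveI : LocallyOfFinitePresentation f := LocallyOfFinitePresentation.iff_locallyOfFiniteType.2 inferInstance
  let p := pullback.fst (W ↘ Spec (CommRingCat.of k)) q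
  have hsl : ∀ (r : Spec (CommRingCat.of k) ⟶ T) (hr : r ≫ q = 𝟙 _),
      IsPullback (Pic13.sliceAt k W q r hr) (W ↘ Spec (CommRingCat.of k)) f r := fun r hr => by
    refine IsPullback.of_right ?_ (pullback.lift_snd _ _ _) (IsPullback.of_hasPullback _ q).flip.flip
    rw [hr, show Pic13.sliceAt k W q r hr ≫ pullback.fst _ q = 𝟙 W from pullback.lift_fst _ _ _]
    exact IsPullback.of_horiz_isIso ⟨by simp⟩
  have hconst : ∀ (r : Spec (CommRingCat.of k) ⟶ T) (hr : r ≫ q = 𝟙 _) (A : W.Modules),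
      Nonempty (Pic13.fibreMod k W q r hr (pb p A) ≅ A) := fun r hr A =>
    ⟨pC (Pic13.sliceAt k W q r hr) p (pullback.lift_fst _ _ _) A ≪≫ (Scheme.Modules.pullbackId W).app A⟩
  let P : (Spec (CommRingCat.of k) ⟶ T) → (Spec (CommRingCat.of k) ⟶ T) → Prop := fun r r' =>
    ∃ (hr : r ≫ q = 𝟙 _) (hr' : r' ≫ q = 𝟙 _),
      Nonempty (Pic13.fibreMod k W q r hr M ≅ Pic13.fibreMod k W q r' hr' M)
  let cp : Spec (CommRingCat.of k) := IsLocalRing.closedPoint k
  have hnhd : ∀ (r : Spec (CommRingCat.of k) ⟶ T) (hr : r ≫ q = 𝟙 _),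
      ∃ V : T.Opens, r cp ∈ V ∧ ∀ r' : Spec (CommRingCat.of k) ⟶ T, r' ≫ q = 𝟙 _ → r' cp ∈ V → P r' r := by
    intro r hr
    let a := Pic13.fibreMod k W q r hr M
    have ha : PicF.IsInvertible a := H11Ample.isInvertible_pullback _ hM
    obtain ⟨a', ha', ⟨ea'⟩⟩ := H11Sym.exists_inverse ha
    let ea : CohB1.tensorMod a a' ≅ Coh.structureModule W := H10Coh.Tw.commIso a a' ≪≫ ea'
    let N := CohB1.tensorMod M (pb p a')
    have hN : PicF.IsInvertible N := H11Ample.isInvertible_tensor hM (H11Ample.isInvertible_pullback p ha')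
    have hfib : ∀ (r' : Spec (CommRingCat.of k) ⟶ T) (hr' : r' ≫ q = 𝟙 _),
        Nonempty (pb (Pic13.sliceAt k W q r' hr') N ≅ CohB1.tensorMod (Pic13.fibreMod k W q r' hr' M) a') :=
      fun r' hr' => ⟨pT _ M (pb p a') ≪≫ tI (Iso.refl _) (hconst r' hr' a').some⟩
    obtain ⟨e₀⟩ := hfib r hr
    haveI : Subsingleton (Spec (CommRingCat.of k)) := inferInstanceAs (Subsingleton (PrimeSpectrum k))
    have hs : ∀ z, r z = r cp := fun z => congrArg r (Subsingleton.elim z cp)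
    have hN1 : Subsingleton (Coh.HH W (pb (Pic13.sliceAt k W q r hr) N) 1) :=
      H10Coh.subsingleton_HH_of_iso (e₀ ≪≫ ea).symm 1 h1
    obtain ⟨V, b, hrV, hb⟩ := exists_gen_nhd_point f (hsl r hr) hN hs (fun U hle x => by
        refine ⟨q.appLE ⊤ U le_top x, ?_⟩
        rw [← ConcreteCategory.comp_apply, Scheme.Hom.appLE_comp_appLE]
        have key : ∀ (g : Spec (CommRingCat.of k) ⟶ Spec (CommRingCat.of k)) (hg : g = 𝟙 _)
            (h : (⊤ : (Spec (CommRingCat.of k)).Opens) ≤ g ⁻¹ᵁ ⊤), g.appLE ⊤ ⊤ h x = x := by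
          rintro _ rfl h
          simp [Scheme.Hom.appLE]
        exact key _ hr _)
      (exists_epiOn_point f (hsl r hr) hN hN1 hs) (e₀ ≪≫ ea)
    refine ⟨V, hrV, fun r' hr' hr'V => ⟨hr', hr, ?_⟩⟩
    have hle : (⊤ : W.Opens) ≤ Pic13.sliceAt k W q r' hr' ⁻¹ᵁ (f ⁻¹ᵁ V) := fun z _ => by
      show f (Pic13.sliceAt k W q r' hr' z) ∈ V
      rw [← Scheme.Hom.comp_apply, (hsl r' hr').w, Scheme.Hom.comp_apply,
        Subsingleton.elim ((W ↘ Spec (CommRingCat.of k)) z) cp]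
      exact hr'V
    let g : Γ(pb (Pic13.sliceAt k W q r' hr') N, ⊤) := (pb (Pic13.sliceAt k W q r' hr') N).presheaf.map
      (homOfLE hle).op (OmegaSh.pullSect (Pic13.sliceAt k W q r' hr') N (f ⁻¹ᵁ V) b)
    have hg : IsGen (pb (Pic13.sliceAt k W q r' hr') N) g := (hb.pullSect _).res hle
    haveI := H11Tilde.isIso_homOfGlobal (pb (Pic13.sliceAt k W q r' hr') N) g fun U => hg.bijective (le_top : U ≤ ⊤)
    obtain ⟨e₁⟩ := hfib r' hr'
    exact H25Theta.cancel_right ha'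
      ⟨e₁.symm ≪≫ (asIso (H11Tilde.homOfGlobal (pb (Pic13.sliceAt k W q r' hr') N) g)).symm ≪≫ ea.symm⟩
  choose V hrV hV using hnhd
  have hpt : ∀ x : T, IsClosed ({x} : Set T) → ∃ (r : Spec (CommRingCat.of k) ⟶ T), r ≫ q = 𝟙 _ ∧ r cp = x :=
    fun x hx => ⟨pointOfClosedPoint q x hx, pointOfClosedPoint_comp q x hx, pointOfClosedPoint_apply q x hx _⟩
  have hsymm : ∀ {r r'}, P r r' → P r' r := fun ⟨h, h', ⟨e⟩⟩ => ⟨h', h, ⟨e.symm⟩⟩
  have htrans : ∀ {r r' r''}, P r r' → P r' r'' → P r r'' := fun ⟨h, _, ⟨e⟩⟩ ⟨_, h'', ⟨e'⟩⟩ => ⟨h, h'', ⟨e ≪≫ e'⟩⟩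
  let A : Set T := ⋃ (r) (hr : r ≫ q = 𝟙 _) (_ : P r t₀), (V r hr : Set T)
  let B : Set T := ⋃ (r) (hr : r ≫ q = 𝟙 _) (_ : ¬ P r t₀), (V r hr : Set T)
  have hA : IsOpen A := isOpen_iUnion fun r => isOpen_iUnion fun hr => isOpen_iUnion fun _ => (V r hr).isOpen
  have hB : IsOpen B := isOpen_iUnion fun r => isOpen_iUnion fun hr => isOpen_iUnion fun _ => (V r hr).isOpen
  have hdisj : A ∩ B = ∅ := by
    by_contra hne
    obtain ⟨x, ⟨hxA, hxB⟩, hx⟩ := nonempty_inter_closedPoints (Set.nonempty_iff_ne_empty.2 hne)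
      (hA.inter hB).isLocallyClosed
    obtain ⟨r, hr, rfl⟩ := hpt x hx
    simp only [A, B, Set.mem_iUnion] at hxA hxB
    obtain ⟨r₁, hr₁, hP₁, h₁⟩ := hxA
    obtain ⟨r₂, hr₂, hP₂, h₂⟩ := hxB
    exact hP₂ (htrans (htrans (hsymm (hV r₂ hr₂ r hr h₂)) (hV r₁ hr₁ r hr h₁)) hP₁)
  have hcov : ∀ x : T, x ∈ A ∪ B := fun x => by
    obtain ⟨y, hy, hyc⟩ := (isClosed_closure (s := {x})).exists_closed_singleton ⟨x, subset_closure rfl⟩
    obtain ⟨r, hr, rfl⟩ := hpt y hyc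
    have hx : x ∈ V r hr := (specializes_iff_mem_closure.2 hy).mem_open (V r hr).isOpen (hrV r hr)
    by_cases hP : P r t₀
    · exact Or.inl (Set.mem_iUnion.2 ⟨r, Set.mem_iUnion.2 ⟨hr, Set.mem_iUnion.2 ⟨hP, hx⟩⟩⟩)
    · exact Or.inr (Set.mem_iUnion.2 ⟨r, Set.mem_iUnion.2 ⟨hr, Set.mem_iUnion.2 ⟨hP, hx⟩⟩⟩)
  have hcl : IsClopen A := by
    refine ⟨?_, hA⟩
    rw [show A = Bᶜ from Set.ext fun x => ⟨fun h h' => (Set.eq_empty_iff_forall_notMem.1 hdisj x) ⟨h, h'⟩,
      fun h => (hcov x).resolve_right h⟩]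
    exact hB.isClosed_compl
  have ht₀A : t₀ cp ∈ A := Set.mem_iUnion.2 ⟨t₀, Set.mem_iUnion.2 ⟨ht₀, Set.mem_iUnion.2
    ⟨⟨ht₀, ht₀, ⟨Iso.refl _⟩⟩, hrV t₀ ht₀⟩⟩⟩
  have htA : t cp ∈ A := (hcl.eq_univ ⟨_, ht₀A⟩).ge (Set.mem_univ _)
  simp only [A, Set.mem_iUnion] at htA
  obtain ⟨r, hr, hP, hin⟩ := htA
  obtain ⟨_, _, e⟩ := htrans (hV r hr t ht hin) hP
  exact e

/-- Without `H¹(O)` numerically trivial modules have finite order. -/
theorem exists_pow_trivial (h1 : Subsingleton (Coh.HH W (Coh.structureModule W) 1)) {L : W.Modules}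
    (h : NumTriv.NT k L) : ∃ d : ℕ, 0 < d ∧ Nonempty (CohB1.tensorPow L d ≅ Coh.structureModule W) := by
  obtain ⟨a, b, hab, T, q, hT, hq, hq', M, hM, t, t₀, ht, ht₀, ⟨eb⟩, ⟨ea⟩⟩ :=
    NumTriv.Family.exists_irreducible_family k (Bdd.isBounded_nt_proper k W) (CohB1.tensorPow L)
      (fun j => h.pow k j) (fun j => H11Ample.isInvertible_tensorPow h.inv j)
  haveI := hT
  haveI := hq
  haveI := hq'
  obtain ⟨e⟩ := iso_of_connected k h1 q hM t t₀ ht ht₀
  obtain ⟨s⟩ := nonempty_pow_add (M := L) a (b - a)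
  refine ⟨b - a, by omega, H25Theta.cancel_right (H11Ample.isInvertible_tensorPow h.inv a) ⟨?_⟩⟩
  exact H10Coh.Tw.commIso _ _ ≪≫ s ≪≫ eqToIso (congrArg (CohB1.tensorPow L) (by omega)) ≪≫ eb.symm ≪≫ e ≪≫ ea ≪≫
    (H10Coh.Tw.leftUnitIso _).symm

end family

end Groth.Agent.H12Pic.RigidH1
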