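import Groth.Agent.H12Pic.Seesaw
import Groth.Agent.H11Sym.InvertibleInverse
import Groth.Agent.H11Ample.RelComp
import Groth.Agent.H11QMap.ProdRelAmple
import Groth.Agent.H10Coh.TensorBasics

/-!
# Line bundles isomorphic on fibres differ by a twist from the base
-/

set_option autoImplicit false
set_option linter.style.haveILetI false
set_option linter.unusedSectionVars false

universe u

open CategoryTheory CategoryTheory.Limits AlgebraicGeometry Opposite TopologicalSpace

namespace Groth.Agent.H12Pic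

variable {X S : Scheme.{u}} (f : X ⟶ S) [IsProper f] [Flat f] [LocallyOfFinitePresentation f]

/-- Two line bundles which agree on every fibre differ by a line bundle from the base. -/
theorem exists_twist [IsReduced S] (hK : ∀ s : S, IsIso (f.fiberToSpecResidueField s).appTop)
    {L M : X.Modules} (hL : PicF.IsInvertible L) (hM : PicF.IsInvertible M)
    (hLM : ∀ s : S, Nonempty (CohIII.fiberMod f L s ≅ CohIII.fiberMod f M s)) :
    ∃ E : S.Modules, PicF.IsInvertible E ∧
      Nonempty (L ≅ CohB1.tensorMod M ((Scheme.Modules.pullback f).obj E)) := by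
  obtain ⟨M', hM', ⟨ε⟩⟩ := H11Sym.exists_inverse hM
  have hN := H11Ample.isInvertible_tensor hL hM'
  have htriv : ∀ s : S, Nonempty (CohIII.fiberMod f (CohB1.tensorMod L M') s ≅ Coh.structureModule (f.fiber s)) := by
    intro s
    obtain ⟨φ⟩ := H11Ample.exists_iso_pullback_tensor (f.fiberι s) hL hM'
    obtain ⟨ψ⟩ := H11Ample.exists_iso_pullback_tensor (f.fiberι s) hM' hM
    exact ⟨φ ≪≫ H11QMap.tensorIso (hLM s).some (Iso.refl _) ≪≫ H10Coh.Tw.commIso _ _ ≪≫ ψ.symm ≪≫
      (Scheme.Modules.pullback (f.fiberι s)).mapIso ε ≪≫ PicLoc.pullbackStructureIso _⟩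
  obtain ⟨hE, hc⟩ := seesaw f hN hK htriv
  obtain ⟨α⟩ := H11Ample.exists_iso_assoc hL hM' hM
  exact ⟨_, hE, ⟨(H10Coh.Tw.rightUnitIso L).symm ≪≫ H11QMap.tensorIso (Iso.refl L) ε.symm ≪≫ α.symm ≪≫
    H10Coh.Tw.commIso _ _ ≪≫ H11QMap.tensorIso (Iso.refl M)
      (asIso ((Scheme.Modules.pullbackPushforwardAdjunction f).counit.app (CohB1.tensorMod L M'))).symm⟩⟩

end Groth.Agent.H12Pic
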