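import Groth.Agent.H12Pic.FieldDescent
import Groth.Agent.H27Perf.Tower
import Mathlib.FieldTheory.PurelyInseparable.Exponent

/-!
# Torsion line bundles descend along purely inseparable extensions
-/

set_option autoImplicit false
set_option backward.isDefEq.respectTransparency false
set_option linter.style.haveILetI false
set_option linter.unusedSectionVars false

noncomputable section

universe u

open CategoryTheory CategoryTheory.Limits AlgebraicGeometry Opposite TopologicalSpace FrobSch
open Groth.Agent.H17.PullCl Groth.Agent.H13AlgSp Groth.Agent.H27Perf.Tower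

namespace Groth.Agent.H12Pic

variable (p : ℕ) [Fact p.Prime]

theorem fr_comp {X Y : Scheme.{u}} [IsCharP X p] [IsCharP Y p] (g : X ⟶ Y) (n : ℕ) :
    fr p X n ≫ g = g ≫ fr p Y n := by
  induction n with
  | zero => exact (Category.id_comp g).trans (Category.comp_id g).symm
  | succ n ih =>
    change (fr p X n ≫ frob X p) ≫ g = g ≫ fr p Y n ≫ frob Y p
    rw [Category.assoc, frob_comp p g, ← Category.assoc, ih, Category.assoc]

theorem fr_Spec (R : Type u) [CommRing R] [IsCharP (Spec (CommRingCat.of R)) p] (n : ℕ) (φ : R →+* R)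
    (hφ : ∀ r, φ r = r ^ p ^ n) :
    fr p (Spec (CommRingCat.of R)) n = Spec.map (CommRingCat.ofHom φ) := by
  induction n generalizing φ with
  | zero =>
    rw [show CommRingCat.ofHom φ = 𝟙 _ from CommRingCat.hom_ext (RingHom.ext fun r => (hφ r).trans (by simp))]
    exact (Spec.map_id _).symm
  | succ n ih =>
    have hp : (p : R) = 0 := H27Perf.natCast_eq_zero_of_isCharP_Spec (S := CommRingCat.of R)
    let ψ : R →+* R := { powMonoidHom (p ^ n) with
      map_zero' := zero_pow (pow_ne_zero _ (Fact.out : p.Prime).ne_zero)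
      map_add' := fun a b => by
        rcases subsingleton_or_nontrivial R with hR | hR
        · exact Subsingleton.elim _ _
        · have : CharP R p := (CharP.charP_iff_prime_eq_zero Fact.out).2 hp
          exact add_pow_char_pow a b p n }
    change fr p _ n ≫ frob _ p = _
    rw [ih ψ (fun r => rfl), H27Perf.frob_Spec, ← Spec.map_comp]
    congr 1
    refine CommRingCat.hom_ext (RingHom.ext fun r => ?_)
    change (r ^ p) ^ p ^ n = φ r
    rw [← pow_mul, hφ, pow_succ']

theorem cl_tensorPow {A : Scheme.{u}} {L L' : A.Modules} (h : PicF.cl L = PicF.cl L') (n : ℕ) :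
    PicF.cl (CohB1.tensorPow L n) = PicF.cl (CohB1.tensorPow L' n) :=
  Quot.sound ⟨H10Coh.Tw.tensorPowIso (Sep.iso_of_cl_eq h).some n⟩

theorem pullCl_tensorPow {A B : Scheme.{u}} (g : A ⟶ B) {L : B.Modules} (hL : PicF.IsInvertible L) (n : ℕ) :
    PicF.pullCl g (PicF.cl (CohB1.tensorPow L n)) =
      PicF.cl (CohB1.tensorPow ((Scheme.Modules.pullback g).obj L) n) :=
  Quot.sound (H11Ample.exists_iso_pullback_tensorPow g hL n)

theorem cl_powMul {A : Scheme.{u}} {L : A.Modules} (hL : PicF.IsInvertible L) (a b : ℕ) :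
    PicF.cl (CohB1.tensorPow (CohB1.tensorPow L a) b) = PicF.cl (CohB1.tensorPow L (a * b)) :=
  Quot.sound ⟨(H11Ample.exists_iso_mul hL a b).choose⟩

theorem cl_pow_trivial {A : Scheme.{u}} {L : A.Modules} (hL : PicF.IsInvertible L) {n : ℕ}
    (h : PicF.cl (CohB1.tensorPow L n) = PicF.cl (Coh.structureModule A)) (t : ℕ) :
    PicF.cl (CohB1.tensorPow L (n * t)) = PicF.cl (Coh.structureModule A) := by
  rw [← cl_powMul hL, cl_tensorPow h]
  exact Quot.sound ⟨H10Coh.Tw.powUnitIso t⟩

/-- Torsion line bundles of order prime to the characteristic descend along purely inseparable extensions. -/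
theorem exists_torsion_descends {k : Type u} [Field k] [CharP k p] {X : Scheme.{u}}
    (f : X ⟶ Spec (CommRingCat.of k)) [CompactSpace X] [QuasiSeparatedSpace X] (h0 : IsIso f.appTop) {n : ℕ}
    (hn : ¬ p ∣ n) (K : Type u) [Field K] [Algebra k K] [IsPurelyInseparable k K]
    {M : (PicF.XT f (extObj k K)).Modules} (hM : PicF.IsInvertible M)
    (ht : PicF.cl (CohB1.tensorPow M n) = PicF.cl (Coh.structureModule (PicF.XT f (extObj k K)))) :
    ∃ L : X.Modules, PicF.IsInvertible L ∧ Nonempty (CohB1.tensorPow L n ≅ Coh.structureModule X) ∧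
      PicF.pullCl (pullback.fst f (extObj k K).hom) (PicF.cl L) = PicF.cl M := by
  obtain ⟨s, _, ⟨N, rfl, hN⟩, hs⟩ := exists_subfield_stage f K ⟨M, rfl, hM⟩
  let E := IntermediateField.adjoin k (s : Set K)
  let g := PicF.XTmap f (extHom E.val)
  haveI : Algebra.IsAlgebraic k K := inferInstance
  haveI : FiniteDimensional k E :=
    IntermediateField.finiteDimensional_adjoin fun x _ => (Algebra.IsAlgebraic.isAlgebraic x).isIntegral
  haveI : IsPurelyInseparable k E := IsPurelyInseparable.tower_bot k E K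
  have hNpow : PicF.IsInvertible (CohB1.tensorPow N n) := H11Ample.isInvertible_tensorPow hN n
  have hNt : PicF.cl (CohB1.tensorPow N n) = PicF.cl (Coh.structureModule (PicF.XT f (extObj k E))) := by
    refine pullCl_extHom_injective f h0 E.val ⟨_, rfl, hNpow⟩ ⟨_, rfl, H23Para.isInvertible_structureModule⟩ ?_
    rw [pullCl_tensorPow g hN, cl_tensorPow hs, ht, pullCl_trivial]
  let e := IsPurelyInseparable.exponent k E
  let φ : E →+* k := IsPurelyInseparable.iterateFrobenius k E p (le_refl e)
  haveI : IsCharP X p := IsCharP.of_hom f p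
  let π := pullback.fst f (extObj k E).hom
  haveI : IsCharP (PicF.XT f (extObj k E)) p := IsCharP.of_hom π p
  haveI : CharP E p := charP_of_injective_ringHom (algebraMap k E).injective p
  haveI : IsCharP (extObj k E).left p := inferInstanceAs (IsCharP (Spec (CommRingCat.of E)) p)
  let h : X ⟶ PicF.XT f (extObj k E) := pullback.lift (fr p X e) (f ≫ Spec.map (CommRingCat.ofHom φ)) (by
    rw [Category.assoc, fr_comp p f e, fr_Spec p k e (φ.comp (algebraMap k E))
      (fun r => IsPurelyInseparable.iterateFrobenius_algebraMap E p (le_refl e) r)]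
    refine congrArg (f ≫ ·) ?_
    change _ = Spec.map _ ≫ Spec.map _
    rw [← Spec.map_comp, ← CommRingCat.ofHom_comp])
  have hh : π ≫ h = fr p (PicF.XT f (extObj k E)) e := by
    apply pullback.hom_ext
    · rw [Category.assoc, pullback.lift_fst, fr_comp p π e]
    · rw [Category.assoc, pullback.lift_snd, fr_comp p (pullback.snd f (extObj k E).hom) e]
      refine (Category.assoc _ _ _).symm.trans ((congrArg (· ≫ _) pullback.condition).trans ((Category.assoc _ _ _).trans ?_))
      refine congrArg (pullback.snd f (extObj k E).hom ≫ ·) ?_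
      change Spec.map _ ≫ Spec.map _ = fr p (Spec (CommRingCat.of E)) e
      rw [← Spec.map_comp, ← CommRingCat.ofHom_comp, fr_Spec p E e ((algebraMap k E).comp φ)
        (fun r => IsPurelyInseparable.algebraMap_iterateFrobenius k p (le_refl e) r)]
  let L₀ := (Scheme.Modules.pullback h).obj N
  have hL₀ : PicF.IsInvertible L₀ := H11Ample.isInvertible_pullback h hN
  have hcop : Nat.Coprime (p ^ e) n := ((Fact.out : p.Prime).coprime_iff_not_dvd.2 hn).pow_left e
  have hn0 : 0 < n.totient := Nat.totient_pos.2 (Nat.pos_of_ne_zero fun h => hn (h ▸ dvd_zero p))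
  let m := (p ^ e) ^ (n.totient - 1)
  obtain ⟨t, ht'⟩ : ∃ t, p ^ e * m = 1 + n * t := by
    have h1 : p ^ e * m = (p ^ e) ^ n.totient := by
      rw [← pow_succ']; congr 1; omega
    have h2 := (Nat.modEq_iff_dvd' (Nat.one_le_pow _ _ (pow_pos (Fact.out : p.Prime).pos e))).1
      (Nat.ModEq.pow_totient hcop).symm
    obtain ⟨t, ht⟩ := h2
    exact ⟨t, by rw [h1, Nat.eq_add_of_sub_eq (Nat.one_le_pow _ _ (pow_pos (Fact.out : p.Prime).pos e)) ht, add_comm]⟩
  refine ⟨CohB1.tensorPow L₀ m, H11Ample.isInvertible_tensorPow hL₀ m, Sep.iso_of_cl_eq ?_, ?_⟩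
  · rw [cl_powMul hL₀, mul_comm, cl_pow_trivial hL₀]
    rw [← pullCl_tensorPow h hN, hNt, pullCl_trivial]
  · have hπ : PicF.pullCl π (PicF.cl (CohB1.tensorPow L₀ m)) = PicF.cl N := by
      rw [pullCl_tensorPow π hL₀]
      have h1 : PicF.cl ((Scheme.Modules.pullback π).obj L₀) = PicF.cl (CohB1.tensorPow N (p ^ e)) := by
        rw [← pullCl_fr hN e, ← hh, pullCl_comp]
        rfl
      rw [cl_tensorPow h1, cl_powMul hN, ht']
      obtain ⟨α, -⟩ := H11Ample.exists_iso_add hN 1 (n * t)
      obtain ⟨β⟩ := Sep.iso_of_cl_eq (cl_pow_trivial hN hNt t)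
      exact Quot.sound ⟨α.symm ≪≫ H25Theta.tI (H10Coh.Tw.leftUnitIso N) β ≪≫ H10Coh.Tw.rightUnitIso N⟩
    rw [show pullback.fst f (extObj k K).hom = g ≫ π from (XTmap_fst (f := f) (extHom E.val)).symm, pullCl_comp, hπ, hs]

end Groth.Agent.H12Pic
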